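import Groth.Agent.RelPC65.FlatFP
import Groth.Agent.RelPC13.Single
import Groth.Agent.RelPC13.Closure
import Groth.Agent.QCoh.FlatOver

/-!
# Flat, relatively finitely presented modules
-/

set_option linter.style.haveILetI false
set_option backward.isDefEq.respectTransparency false
set_option backward.isDefEq.respectTransparency.types false

universe u

open CategoryTheory CategoryTheory.Limits AlgebraicGeometry MvPolynomial
open Groth.Agent.RelPC13

attribute [local instance] HasDerivedCategory.standard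

namespace Groth.Agent.RelPC65

variable {X Y : Scheme.{u}} {f : X ⟶ Y}

theorem relAll_of_flat_fp [LocallyOfFiniteType f] (M : X.Modules) (hfl : FlatMod.IsFlatOver f M)
    (hfp : DerSch.IsPseudoCoherentRel f (-1) (DCoh.inD X M)) :
    DerSch.IsPseudoCoherentRelAll f (DCoh.inD X M) := fun m => by
  obtain ⟨hM, hP⟩ := rel_single_negOne.1 hfp
  haveI := hM
  refine isPseudoCoherentRel_of_immD fun U V h n φ _ hφ => (spc_inD_iff hM U.2 φ m).2 ?_
  letI := (f.appLE (V : Y.Opens) (U : X.Opens) h).hom.toAlgebra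
  haveI : Algebra.FiniteType Γ(Y, (V : Y.Opens)) Γ(X, (U : X.Opens)) := f.finiteType_appLE V.2 U.2 h
  let ψ : MvPolynomial (Fin n) Γ(Y, (V : Y.Opens)) →ₐ[Γ(Y, (V : Y.Opens))] Γ(X, (U : X.Opens)) :=
    { φ with commutes' := RingHom.congr_fun hφ.2 }
  have hv : RelFP.FPVia ψ.toRingHom Γ(M, (U : X.Opens)) :=
    (RelFP.rel_iff ψ (RingHom.Finite.of_surjective _ hφ.1)).1 (RelFP.relFPOn_of_isRelFP hP U V h)
  let N := chartModule M (U : X.Opens) φ
  haveI : Module.FinitePresentation (MvPolynomial (Fin n) Γ(Y, (V : Y.Opens))) N := hv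
  letI : Module Γ(Y, (V : Y.Opens)) N :=
    Module.compHom Γ(M, (U : X.Opens)) (f.appLE (V : Y.Opens) (U : X.Opens) h).hom
  haveI : Module.Flat Γ(Y, (V : Y.Opens)) N := (QCoh.isFlatOver_iff f hM).1 hfl U V h U.2 V.2
  haveI : IsScalarTower Γ(Y, (V : Y.Opens)) (MvPolynomial (Fin n) Γ(Y, (V : Y.Opens))) N :=
    ⟨fun a p x => by
      show φ (a • p) • (show Γ(M, (U : X.Opens)) from x) =
        (f.appLE (V : Y.Opens) (U : X.Opens) h).hom a • (φ p • (show Γ(M, (U : X.Opens)) from x))
      rw [MvPolynomial.smul_eq_C_mul, map_mul, mul_smul]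
      congr 1
      exact RingHom.congr_fun hφ.2 a⟩
  exact ((H9Misc.DRingPC.pc'_iff _).1 (pc'_of_flat_fp N)) m

theorem relAll_of_terms [LocallyOfFiniteType f] (E : CochainComplex X.Modules ℤ) (b : ℤ)
    (hb : ∀ i : ℤ, b < i → IsZero (E.X i)) (hfl : ∀ i : ℤ, FlatMod.IsFlatOver f (E.X i))
    (hfp : ∀ i : ℤ, DerSch.IsPseudoCoherentRel f (-1) (DCoh.inD X (E.X i))) :
    DerSch.IsPseudoCoherentRelAll f (DCoh.toD X E) :=
  fun m => rel_of_terms E b hb fun i => relAll_of_flat_fp (E.X i) (hfl i) (hfp i) (m - i)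

/-- The class of a module placed in degree zero. -/
noncomputable def inDIso (M : X.Modules) :
    DCoh.toD X ((HomologicalComplex.single _ (ComplexShape.up ℤ) 0).obj M) ≅ DCoh.inD X M :=
  (DerivedCategory.singleFunctorIsoCompQ X.Modules 0).symm.app M

theorem flatOverAt_iff (M : X.Modules) (x : X) :
    FlatMod.IsFlatOverAt f M x ↔
      Module.Flat (Y.presheaf.stalk (f.base x)) ((DerSch.stalkOver f x).obj M) := Iff.rfl

theorem torAmp_of_flat {a b : ℤ} (E : CochainComplex X.Modules ℤ)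
    (hab : ∀ i : ℤ, i < a ∨ b < i → IsZero (E.X i))
    (hfl : ∀ i : ℤ, a ≤ i → i ≤ b → FlatMod.IsFlatOver f (E.X i)) :
    DerSch.HasTorAmplitude f a b E := fun x => by
  have hv : DRing.VanishesOutside ((DerSch.stalkCxOver f x).obj E) a b := fun i hi =>
    (DerSch.stalkOver f x).map_isZero (hab i hi)
  refine ⟨_, hv, fun i => ?_, ⟨Iso.refl _⟩⟩
  by_cases hi : i < a ∨ b < i
  · haveI := ModuleCat.subsingleton_of_isZero (hv i hi)
    exact inferInstance
  · push Not at hi
    exact (flatOverAt_iff (E.X i) x).1 (hfl i hi.1 hi.2 x)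

theorem flatOver_of_torAmp (M : X.Modules)
    (h : DerSch.HasTorAmplitude f 0 0 ((HomologicalComplex.single _ (ComplexShape.up ℤ) 0).obj M)) :
    FlatMod.IsFlatOver f M := fun x => by
  obtain ⟨E, hE, hfl, ⟨e⟩⟩ := h x
  haveI : CochainComplex.IsStrictlyGE E 0 :=
    (CochainComplex.isStrictlyGE_iff _ _).2 fun i hi => hE i (Or.inl hi)
  haveI : CochainComplex.IsStrictlyLE E 0 :=
    (CochainComplex.isStrictlyLE_iff _ _).2 fun i hi => hE i (Or.inr hi)
  obtain ⟨N, ⟨eE⟩⟩ := CochainComplex.exists_iso_single E 0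
  let A := ModuleCat.{u} (Y.presheaf.stalk (f.base x))
  let es : (DerSch.stalkCxOver f x).obj ((HomologicalComplex.single _ (ComplexShape.up ℤ) 0).obj M) ≅
      (HomologicalComplex.single A (ComplexShape.up ℤ) 0).obj ((DerSch.stalkOver f x).obj M) :=
    (HomologicalComplex.singleMapHomologicalComplex (DerSch.stalkOver f x) (ComplexShape.up ℤ) 0).app M
  let eN : (DerivedCategory.singleFunctor A 0).obj N ≅
      (DerivedCategory.singleFunctor A 0).obj ((DerSch.stalkOver f x).obj M) :=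
    (DerivedCategory.singleFunctorIsoCompQ A 0).app N ≪≫ DerivedCategory.Q.mapIso eE.symm ≪≫ e ≪≫
      DerivedCategory.Q.mapIso es ≪≫ (DerivedCategory.singleFunctorIsoCompQ A 0).symm.app _
  let eE0 : E.X 0 ≅ N := (HomologicalComplex.eval _ _ 0).mapIso eE ≪≫
    HomologicalComplex.singleObjXSelf (ComplexShape.up ℤ) 0 N
  haveI : Module.Flat (Y.presheaf.stalk (f.base x)) (E.X 0) := hfl 0
  haveI : Module.Flat (Y.presheaf.stalk (f.base x)) N :=
    Module.Flat.of_linearEquiv eE0.toLinearEquiv.symm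
  exact (flatOverAt_iff M x).2 (Module.Flat.of_linearEquiv
    ((DerivedCategory.singleFunctor A 0).preimageIso eN).toLinearEquiv.symm)

theorem perfAmp_zero_iff [LocallyOfFiniteType f] (M : X.Modules) :
    DerSch.HasPerfAmplitudeRel f 0 0 ((HomologicalComplex.single _ (ComplexShape.up ℤ) 0).obj M) ↔
      (FlatMod.IsFlatOver f M ∧
        DerSch.IsPseudoCoherentRel f (-1) (DCoh.toD X ((HomologicalComplex.single _ (ComplexShape.up ℤ) 0).obj M))) := by
  refine ⟨fun h => ⟨flatOver_of_torAmp M h.2, h.1 (-1)⟩, fun ⟨hfl, hfp⟩ => ⟨fun m => ?_, ?_⟩⟩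
  · exact rel_of_iso (inDIso M).symm (relAll_of_flat_fp M hfl (rel_of_iso (inDIso M) hfp) m)
  · refine torAmp_of_flat _ (fun i hi => ?_) fun i h1 h2 => ?_
    · exact HomologicalComplex.isZero_single_obj_X _ _ _ _ (by omega)
    · obtain rfl : i = 0 := le_antisymm h2 h1
      intro x
      haveI : Module.Flat (Y.presheaf.stalk (f.base x)) ((DerSch.stalkOver f x).obj M) := hfl x
      exact (flatOverAt_iff _ x).2 (Module.Flat.of_linearEquiv
        ((DerSch.stalkOver f x).mapIso (HomologicalComplex.singleObjXSelf (ComplexShape.up ℤ) 0 M)).toLinearEquiv)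

end Groth.Agent.RelPC65
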