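import Groth.Agent.RelPC65.Restrict
import Groth.Prelude.Def_DerSch2
import Groth.Agent.KFlatLib.Scheme.LocalDevissage

/-!
# Relative pseudo-coherence over a pseudo-coherent morphism
-/

set_option linter.style.haveILetI false
set_option backward.isDefEq.respectTransparency false
set_option backward.isDefEq.respectTransparency.types false

universe u

open CategoryTheory CategoryTheory.Limits AlgebraicGeometry TopologicalSpace
open Groth.Agent.KFlatLib

attribute [local instance] HasDerivedCategory.standard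

namespace Groth.Agent.RelPC65

open Groth.Agent.RelPC13

variable {X S : Scheme.{u}} {g : X ⟶ S}

/-- The chart immersion of a pseudo-coherent morphism is a transfer morphism. -/
theorem pcPush_imm (hg : ∀ n : ℤ, DerSch.IsNPseudoCoherent g n) (U : X.affineOpens) (V : S.affineOpens)
    {h : (U : X.Opens) ≤ g ⁻¹ᵁ (V : S.Opens)} {n : ℕ}
    {φ : MvPolynomial (Fin n) Γ(S, (V : S.Opens)) →+* Γ(X, (U : X.Opens))}
    [IsClEmb (imm (U : X.Opens) φ)] (hφ : DerSch.IsChart g U V h φ) : PCPush (imm (U : X.Opens) φ) := by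
  refine pcPush_of_structure _ fun m => ?_
  have e : DCoh.toD X (DerSch.unitCx X) ≅ DCoh.inD X (Coh.structureModule X) :=
    ((DerivedCategory.singleFunctorIsoCompQ X.Modules 0).app (Coh.structureModule X)).symm
  have h1 := (locPC_immD_of_rel (hg m) U V hφ).of_iso
    ((immD (U : X.Opens) φ).mapIso e ≪≫ immDSingle (U : X.Opens) φ _)
  exact (h1.of_iso ((DerivedCategory.singleFunctor _ 0).mapIso ((Scheme.Modules.pushforward _).mapIso
    (restrictStructureIso (U : X.Opens).ι)))).of_iso (pDSingle (imm (U : X.Opens) φ) _).symm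

/-- Over a pseudo-coherent morphism, relative pseudo-coherence is pseudo-coherence. -/
theorem locPC_iff_rel [LocallyOfFiniteType g] (hg : ∀ n : ℤ, DerSch.IsNPseudoCoherent g n) (m : ℤ) (E : DCoh.D X) :
    LocPC m E ↔ DerSch.IsPseudoCoherentRel g m E := by
  constructor
  · intro hE
    refine isPseudoCoherentRel_of_immD fun U V _ n φ _ hφ => ?_
    exact (pcPush_imm hg U V hφ).locPC_push (hE.restrict (U : X.Opens).ι)
  · intro hE
    refine LocPC.of_local fun x => ?_
    obtain ⟨_, ⟨V, hV, rfl⟩, hxV, -⟩ := S.isBasis_affineOpens.exists_subset_of_mem_open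
      (show g.base x ∈ (⊤ : S.Opens) from trivial) (⊤ : S.Opens).2
    obtain ⟨_, ⟨U, hU, rfl⟩, hxU, hUV⟩ :=
      X.isBasis_affineOpens.exists_subset_of_mem_open (show x ∈ g ⁻¹ᵁ V from hxV) (g ⁻¹ᵁ V).2
    obtain ⟨n, φ, hφ⟩ := RelPC13.exists_chart (f := g) (show U ≤ g ⁻¹ᵁ V from hUV)
      (LocallyOfFiniteType.finiteType_appLE g hV hU hUV)
    haveI := isClEmb_imm hU hφ.1
    exact ⟨_, Scheme.Opens.ι U, inferInstance, ⟨⟨x, hxU⟩, rfl⟩,
      (pcPush_imm hg ⟨U, hU⟩ ⟨V, hV⟩ hφ).locPC_of_push (locPC_immD_of_rel hE ⟨U, hU⟩ ⟨V, hV⟩ hφ)⟩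

end Groth.Agent.RelPC65
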