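import Groth.Agent.RelPC65.LpullRel
import Groth.Agent.PerfD40.AmpMore
import Groth.Agent.PerfD40.RelAmpStalk
import Groth.Agent.KFlatLib.Scheme.TildeAmp
import Groth.Agent.KFlatLib.Scheme.LocalDevissage
import Groth.Agent.KFlatLib.Scheme.RGammaPush
import Groth.Agent.RelPC13.StalkPush

/-!
# Stalkwise tor amplitude and amplitude of flat representatives
-/

set_option autoImplicit false
set_option linter.style.haveILetI false
set_option backward.isDefEq.respectTransparency false
set_option backward.isDefEq.respectTransparency.types false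

universe u

open CategoryTheory CategoryTheory.Limits AlgebraicGeometry

attribute [local instance] HasDerivedCategory.standard

namespace Groth.Agent.RelPC65

open Groth.Agent.KFlatLib Groth.Agent.PerfD40 Groth.Agent.H9Misc

variable {X Y : Scheme.{u}} (f : X ⟶ Y)

/-- For a flat morphism, stalkwise tor amplitude is amplitude by modules flat over the base. -/
theorem hasAmp_of_hasTorAmplitude [Flat f] {F : CochainComplex X.Modules ℤ} {a b : ℤ}
    (hF : DerSch.HasTorAmplitude f a b F) :
    HasAmp (FlatMod.IsFlatOver f) a b (DCoh.toD X F) := by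
  haveI := isLE_of_hasTorAmplitude hF
  haveI := isGE_of_hasTorAmplitude hF
  obtain ⟨R, hR, hRΦ, ⟨e⟩⟩ := (ampClass_isFlatOver f).exists_rep (DCoh.toD X F) b
  refine (ampClass_isFlatOver f).amp_of_opcycles e a b hRΦ (fun x => ?_)
    fun i hi => DerivedCategory.isZero_of_isGE (DCoh.toD X F) a i hi
  rw [isFlatOverAt_iff_stalkBase]
  let G := stalkBase f x
  let P := (G.mapHomologicalComplex (ComplexShape.up ℤ)).obj R
  haveI : (DerSch.stalkFunctor X x).PreservesHomology :=
    Functor.preservesHomology_of_map_exact _ fun T hT => (exact_iff_stalk T).1 hT x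
  have hb : DRing.VanishesAbove P b := fun i hi =>
    G.map_isZero (R.isZero_of_isStrictlyLE b i hi)
  have hfl : DRing.TermwiseFlat P := fun i => hRΦ i x
  have hP := DRingTor.isKF_of_flat hfl hb
  have hv := (DRingTor.iff_van hP (Iso.refl _)).1 (hasTorAmplitude_of_iso f e.symm hF x)
  exact (ampClass_flat _).of_iso ((R.sc a).mapOpcyclesIso G)
    (DRingTor.flat_opcycles hfl a fun M => hv M (a - 1) (Or.inl (by omega)))

/-- Conversely. -/
theorem hasTorAmplitude_of_hasAmp {F : CochainComplex X.Modules ℤ} {a b : ℤ}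
    (h : HasAmp (FlatMod.IsFlatOver f) a b (DCoh.toD X F)) :
    DerSch.HasTorAmplitude f a b F := fun x =>
  hasTorAmplitudeAt_of_hasAmp f F (𝟙 X) (h.restrict f (𝟙 X) (𝟙 X ≫ f) rfl) x

/-- Absolute flat amplitude is stalkwise tor amplitude relative to the identity. -/
theorem hasFlatAmplitudeIn_iff_hasTorAmplitude_id (F : CochainComplex X.Modules ℤ) (a b : ℤ) :
    DCoh.HasFlatAmplitudeIn a b (DCoh.toD X F) ↔ DerSch.HasTorAmplitude (𝟙 X) a b F := by
  constructor
  · rintro ⟨E, hE, hfl, e⟩
    exact hasTorAmplitude_of_hasAmp _ ((hasAmp_iff (𝟙 X) a b _).1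
      ⟨E, hE, fun i => (isFlatOver_id_iff _).2 (hfl i), e⟩)
  · intro h
    obtain ⟨E, hE, hfl, e⟩ := (hasAmp_iff (𝟙 X) a b _).2 (hasAmp_of_hasTorAmplitude _ h)
    exact ⟨E, hE, fun i => (isFlatOver_id_iff _).1 (hfl i), e⟩

/-- Flat morphisms have tor dimension zero. -/
theorem hasTorDimLE_zero_of_flat [Flat f] : DerSch.HasTorDimLE f 0 := by
  refine hasTorAmplitude_of_hasAmp f ((hasAmp_iff f _ _ _).1 ⟨DerSch.unitCx X, fun i hi => ?_,
    fun i => isFlatOver_of_isFlat f (isFlat_single 0 isFlat_structureModule i), ⟨Iso.refl _⟩⟩)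
  exact HomologicalComplex.isZero_single_obj_X (ComplexShape.up ℤ) 0 _ i (by omega)

section Push

variable {Z : Scheme.{u}} (i : Z ⟶ X) [RelPC13.IsClEmb i]

/-- Stalks over the base of a direct image along a closed embedding. -/
noncomputable def stalkOverPushIso (z : Z) :
    Scheme.Modules.pushforward i ⋙ DerSch.stalkOver f (i.base z) ≅ DerSch.stalkOver (i ≫ f) z :=
  (Functor.associator _ _ _).symm ≪≫
    Functor.isoWhiskerRight (RelPC13.stalkPushModIso i z)
      (ModuleCat.restrictScalars (f.stalkMap (i.base z)).hom) ≪≫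
    (stalkCompIso i f z).symm

/-- Tor amplitude of a direct image along a closed embedding, at a point of the image. -/
theorem hasTorAmplitudeAt_push_iff (F : CochainComplex Z.Modules ℤ) (a b : ℤ) (z : Z) :
    DerSch.HasTorAmplitudeAt f a b
        (((Scheme.Modules.pushforward i).mapHomologicalComplex (ComplexShape.up ℤ)).obj F) (i.base z) ↔
      DerSch.HasTorAmplitudeAt (i ≫ f) a b F z := by
  let e := (NatIso.mapHomologicalComplex (stalkOverPushIso f i z) (ComplexShape.up ℤ)).app F
  exact ⟨DRingTor.of_iso (DerivedCategory.Q.mapIso e),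
    DRingTor.of_iso (DerivedCategory.Q.mapIso e.symm)⟩

/-- Away from the image the direct image has no stalks. -/
theorem hasTorAmplitudeAt_push_of_notMem (F : CochainComplex Z.Modules ℤ) (a b : ℤ) (y : X)
    (hy : y ∉ Set.range i.base) :
    DerSch.HasTorAmplitudeAt f a b
      (((Scheme.Modules.pushforward i).mapHomologicalComplex (ComplexShape.up ℤ)).obj F) y := by
  have hz : ∀ n, IsZero (((DerSch.stalkCxOver f y).obj
      (((Scheme.Modules.pushforward i).mapHomologicalComplex (ComplexShape.up ℤ)).obj F)).X n) := fun n => by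
    have h : IsZero (C := Ab.{u}) _ := RelPC13.isZero_stalk_push i y hy (F.X n)
    exact @ModuleCat.isZero_of_subsingleton _ _ _ (AddCommGrpCat.subsingleton_of_isZero h)
  refine ⟨_, fun n _ => hz n, fun n => ?_, ⟨Iso.refl _⟩⟩
  haveI := ModuleCat.subsingleton_of_isZero (hz n)
  infer_instance

end Push

end Groth.Agent.RelPC65
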