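import Groth.Agent.RelPC65.BaseChange
import Groth.Agent.PerfMor.FlatPC

/-!
# Tor independent base change of pseudo-coherent modules
-/

set_option linter.style.haveILetI false
set_option backward.isDefEq.respectTransparency false
set_option backward.isDefEq.respectTransparency.types false

universe u

open CategoryTheory CategoryTheory.Limits MvPolynomial TensorProduct
open Groth.Agent.H9Misc Groth.Agent.RelPC13

attribute [local instance] HasDerivedCategory.standard MvPolynomial.algebraMvPolynomial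

namespace Groth.Agent.RelPC65

/-- Tor independent base change keeps `m`-pseudo-coherence. -/
theorem pc_baseChange_tor {R : Type u} (A : Type u) {P₁ P : Type u} [CommRing R] [CommRing A] [CommRing P₁]
    [CommRing P] [Algebra R A] [Algebra R P₁] [Algebra A P] [Algebra P₁ P] [Algebra R P] [IsScalarTower R A P]
    [IsScalarTower R P₁ P] [Algebra.IsPushout R A P₁ P] [Module.Flat R P₁] :
    ∀ (k : ℕ) (m : ℤ), 1 ≤ m + k → ∀ (M : Type u) [AddCommGroup M] [Module P₁ M] [Module R M]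
      [IsScalarTower R P₁ M] [Module.Flat R M],
      DRing.IsPseudoCoherentModule P₁ m M → DRing.IsPseudoCoherentModule P m (P ⊗[P₁] M) := by
  intro k
  induction k with
  | zero =>
    intro m hm M _ _ _ _ _ _
    exact DRingPC.of_vanish _ fun i hi =>
      DerivedCategory.isZero_of_isLE ((DerivedCategory.singleFunctor _ 0).obj _) 0 i (by omega)
  | succ k ih =>
    intro m hm M _ _ _ _ _ hM
    rcases lt_or_ge 0 m with h0 | h0
    · exact DRingPC.of_vanish _ fun i hi =>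
        DerivedCategory.isZero_of_isLE ((DerivedCategory.singleFunctor _ 0).obj _) 0 i (by omega)
    haveI : Module.Finite P₁ M := DRingPC.finite_of_pc (DRingPC.mono h0 hM)
    obtain ⟨n, q, hq⟩ := Module.Finite.exists_fin' P₁ M
    let K := LinearMap.ker q
    let i : K →ₗ[P₁] (Fin n → P₁) := K.subtype
    have he : Function.Exact i q := LinearMap.exact_subtype_ker_map q
    haveI : Module.Flat R K := PerfMor.flat_ker (q.restrictScalars R) hq
    have hinj : Function.Injective ((i.restrictScalars R).lTensor A) :=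
      LinearMap.lTensor_injective_of_exact_of_flat (q.restrictScalars R) hq (i.restrictScalars R)
        Subtype.val_injective he A
    let S : ShortComplex (ModuleCat.{u} P₁) := ShortComplex.mk (ModuleCat.ofHom i)
      (ModuleCat.ofHom q) (ModuleCat.hom_ext (LinearMap.ext he.apply_apply_eq_zero))
    have hS : S.ShortExact :=
      { exact := (ShortComplex.ShortExact.moduleCat_exact_iff_function_exact _).2 he
        mono_f := (ModuleCat.mono_iff_injective _).2 Subtype.val_injective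
        epi_g := (ModuleCat.epi_iff_surjective _).2 hq }
    have hK : DRing.IsPseudoCoherentModule P₁ (m + 1) K :=
      (Groth.Agent.S2067.result hS.singleTriangle hS.singleTriangle_distinguished m).2.2
        (Triage.NoethPC.pc_of_free (A := P₁) (Fin n → P₁) _) hM
    exact PerfMor.pc_of_exact (i.baseChange P) (q.baseChange P)
      (PerfMor.injective_baseChange (A := A) (R := R) i hinj)
      (LinearMap.lTensor_surjective P hq) (lTensor_exact P he hq) m (ih (m + 1) (by omega) K hK)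
      (Triage.NoethPC.pc_of_free (A := P) (P ⊗[P₁] (Fin n → P₁)) _)

section Ring

variable {R₀ R' A B A' B' : Type u} [CommRing R₀] [CommRing R'] [CommRing A] [CommRing B] [CommRing A'] [CommRing B']
  [Algebra R₀ R'] [Algebra R₀ A] [Algebra R' A'] [Algebra R₀ A'] [IsScalarTower R₀ R' A'] [Algebra A A'] [IsScalarTower R₀ A A']
  [Algebra A B] [Algebra R₀ B] [IsScalarTower R₀ A B]
  [Algebra A' B'] [Algebra B B'] [Algebra A B'] [IsScalarTower A A' B'] [IsScalarTower A B B']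
  [Algebra.IsPushout A A' B B'] [Algebra.IsPushout R₀ R' A A'] [Module.Flat R₀ A] [Module.Flat R₀ B] {k : ℕ}

variable (R₀ R') in
include R₀ R' in
theorem pc_chart_tor (φ : MvPolynomial (Fin k) A →+* B) (hC : φ.comp C = algebraMap A B) {m : ℤ}
    (hB : DRing.IsPseudoCoherentModule (MvPolynomial (Fin k) A) m
      ((ModuleCat.restrictScalars φ).obj (ModuleCat.of B B))) :
    DRing.IsPseudoCoherentModule (MvPolynomial (Fin k) A') m
      ((ModuleCat.restrictScalars (bcChart (A' := A') φ)).obj (ModuleCat.of B' B')) := by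
  let P := MvPolynomial (Fin k) A
  let D := MvPolynomial (Fin k) A'
  letI : Algebra P B := φ.toAlgebra
  letI : Algebra D B' := (bcChart (A' := A') (B' := B') φ).toAlgebra
  letI : Algebra P B' := ((algebraMap B B').comp φ).toAlgebra
  haveI : IsScalarTower P B B' := IsScalarTower.of_algebraMap_eq fun _ => rfl
  haveI : IsScalarTower P D B' := IsScalarTower.of_algebraMap_eq fun p =>
    (RingHom.congr_fun (bcChart_comp_map (A' := A') φ hC) p).symm
  haveI : IsScalarTower A P B := IsScalarTower.of_algebraMap_eq fun a => (RingHom.congr_fun hC a).symm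
  haveI : IsScalarTower A' D B' := IsScalarTower.of_algebraMap_eq fun a => by
    exact (eval₂Hom_C (algebraMap A' B') _ a).symm
  haveI : IsScalarTower A A' D := IsScalarTower.of_algebraMap_eq fun a => rfl
  haveI : IsScalarTower A P D := IsScalarTower.of_algebraMap_eq fun a => by
    exact (MvPolynomial.map_C (algebraMap A A') a).symm
  haveI : IsScalarTower A D B' := IsScalarTower.of_algebraMap_eq fun a => by
    rw [IsScalarTower.algebraMap_apply A A' B', IsScalarTower.algebraMap_apply A A' D,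
      ← IsScalarTower.algebraMap_apply A' D B']
  haveI : IsScalarTower A P B' := IsScalarTower.of_algebraMap_eq fun a => by
    rw [IsScalarTower.algebraMap_apply A B B', IsScalarTower.algebraMap_apply A P B,
      ← IsScalarTower.algebraMap_apply P B B']
  haveI hAB : Algebra.IsPushout A B A' B' := Algebra.IsPushout.symm ‹_›
  haveI : Algebra.IsPushout A P A' D := inferInstance
  haveI : Algebra.IsPushout P B D B' := (Algebra.IsPushout.comp_iff A P A' D).1 hAB
  haveI hpo : Algebra.IsPushout P D B B' := Algebra.IsPushout.symm ‹_›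
  haveI : IsScalarTower R₀ A P := IsScalarTower.of_algebraMap_eq fun a => rfl
  haveI : IsScalarTower R₀ P B := IsScalarTower.of_algebraMap_eq fun a => by
    rw [IsScalarTower.algebraMap_apply R₀ A B, IsScalarTower.algebraMap_apply A P B,
      ← IsScalarTower.algebraMap_apply R₀ A P]
  haveI : IsScalarTower R₀ R' D := IsScalarTower.of_algebraMap_eq fun a => by
    exact congrArg MvPolynomial.C (IsScalarTower.algebraMap_apply R₀ R' A' a)
  haveI : IsScalarTower R₀ P D := IsScalarTower.of_algebraMap_eq fun a => by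
    exact ((MvPolynomial.map_C (algebraMap A A') _).trans
      (congrArg MvPolynomial.C (IsScalarTower.algebraMap_apply R₀ A A' a).symm)).symm
  haveI : Module.Flat R₀ P := Module.Flat.trans R₀ A P
  haveI : Algebra.IsPushout R₀ R' P D := by
    haveI : Algebra.IsPushout R₀ A R' A' := Algebra.IsPushout.symm ‹_›
    haveI : Algebra.IsPushout A P A' D := inferInstance
    haveI : IsScalarTower R' A' D := IsScalarTower.of_algebraMap_eq fun a => rfl
    haveI : IsScalarTower R₀ A' D := IsScalarTower.of_algebraMap_eq fun a => rfl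
    exact Algebra.IsPushout.symm ((Algebra.IsPushout.comp_iff R₀ A R' A').2 ‹Algebra.IsPushout A P A' D›)
  let eP : ((ModuleCat.restrictScalars φ).obj (ModuleCat.of B B) : Type u) ≃ₗ[P] B :=
    { AddEquiv.refl B with map_smul' := fun _ _ => rfl }
  letI : Algebra D (D ⊗[P] B) := Algebra.TensorProduct.leftAlgebra
  have h := pc_baseChange_tor (R := R₀) R' (P := D) (1 - m).toNat m (by omega) B
    (DRingPC.of_iso ((DerivedCategory.singleFunctor _ 0).mapIso eP.toModuleIso) hB)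
  exact DRingPC.of_iso ((DerivedCategory.singleFunctor _ 0).mapIso
    (LinearEquiv.toModuleIso ((Algebra.IsPushout.equiv P D B B').toLinearEquiv.trans
      ({ AddEquiv.refl B' with map_smul' := fun c x => Algebra.smul_def (A := B') c x } : B' ≃ₗ[D]
        ((ModuleCat.restrictScalars (bcChart (A' := A') (B' := B') φ)).obj (ModuleCat.of B' B') : Type u))))) h

end Ring

section Scheme

open AlgebraicGeometry Groth.Agent.KFlatLib

variable {S S' X Y X' Y' : Scheme.{u}} {g' : X' ⟶ X} {f' : X' ⟶ Y'} {f : X ⟶ Y} {h : Y' ⟶ Y}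
  {q : Y ⟶ S} {q' : Y' ⟶ S'} {u : S' ⟶ S}

/-- The chart after a tor independent base change. -/
theorem exists_tor_chart [Flat q] [Flat (f ≫ q)] (hY : IsPullback h q' q u) (hc : IsPullback g' f' f h)
    {O : S.Opens} (hO : IsAffineOpen O) {O' : S'.Opens} (hO' : IsAffineOpen O') (hOO : O' ≤ u ⁻¹ᵁ O)
    {U : X.Opens} (hU : IsAffineOpen U) {V : Y.Opens} (hV : IsAffineOpen V)
    (hUV : U ≤ f ⁻¹ᵁ V) (hVO : V ≤ q ⁻¹ᵁ O) {k : ℕ}
    (φ : MvPolynomial (Fin k) Γ(Y, V) →+* Γ(X, U)) (hφ : DerSch.IsChart f U V hUV φ) :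
    ∃ (_ : IsAffineOpen (h ⁻¹ᵁ V ⊓ q' ⁻¹ᵁ O')) (hW : IsAffineOpen (g' ⁻¹ᵁ U ⊓ f' ⁻¹ᵁ (h ⁻¹ᵁ V ⊓ q' ⁻¹ᵁ O')))
      (ψ : MvPolynomial (Fin k) Γ(Y', h ⁻¹ᵁ V ⊓ q' ⁻¹ᵁ O') →+* Γ(X', g' ⁻¹ᵁ U ⊓ f' ⁻¹ᵁ (h ⁻¹ᵁ V ⊓ q' ⁻¹ᵁ O'))),
      DerSch.IsChart f' _ _ inf_le_right ψ ∧
      ∀ (m : ℤ) [IsClEmb (imm U φ)] [IsClEmb (imm _ ψ)],
        LocPC m ((immD U φ).obj (DCoh.inD X (Coh.structureModule X))) →
          LocPC m ((immD _ ψ).obj (DCoh.inD X' (Coh.structureModule X'))) := by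
  let V' : Y'.Opens := h ⁻¹ᵁ V ⊓ q' ⁻¹ᵁ O'
  let W : X'.Opens := g' ⁻¹ᵁ U ⊓ f' ⁻¹ᵁ V'
  have hV' : IsAffineOpen V' := by
    haveI : IsAffine _ := hV
    haveI : IsAffine _ := hO'
    haveI : IsAffine _ := hO
    exact .of_isIso (Scheme.Hom.isPullback_resLE hY hOO hVO (UY := V') rfl).isoPullback.hom
  have hVV : V' ≤ h ⁻¹ᵁ V := inf_le_left
  have hW : IsAffineOpen W := by
    haveI : IsAffine _ := hV
    haveI : IsAffine _ := hV'
    haveI : IsAffine _ := hU
    exact .of_isIso (Scheme.Hom.isPullback_resLE hc hVV hUV (UY := W) rfl).isoPullback.hom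
  have hpY := (isIso_pushoutSection_iff hY hOO hVO (UY := V') rfl).mp
    (isIso_pushoutSection_of_isAffineOpen hY hOO hVO rfl hO hO' hV)
  have hpo := (isIso_pushoutSection_iff hc hVV hUV (UY := W) rfl).mp
    (isIso_pushoutSection_of_isAffineOpen hc hVV hUV rfl hV hV' hU)
  letI : Algebra Γ(S, O) Γ(Y, V) := (q.appLE O V hVO).hom.toAlgebra
  letI : Algebra Γ(S, O) Γ(S', O') := (u.appLE O O' hOO).hom.toAlgebra
  letI : Algebra Γ(S', O') Γ(Y', V') := (q'.appLE O' V' inf_le_right).hom.toAlgebra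
  letI : Algebra Γ(Y, V) Γ(Y', V') := (h.appLE V V' hVV).hom.toAlgebra
  letI : Algebra Γ(S, O) Γ(Y', V') := (q.appLE O V hVO ≫ h.appLE V V' hVV).hom.toAlgebra
  haveI : IsScalarTower Γ(S, O) Γ(Y, V) Γ(Y', V') := .of_algebraMap_eq fun _ => rfl
  haveI : IsScalarTower Γ(S, O) Γ(S', O') Γ(Y', V') := .of_algebraMap_eq fun r => congr($(hpY.w).hom r)
  haveI : Algebra.IsPushout Γ(S, O) Γ(S', O') Γ(Y, V) Γ(Y', V') :=
    CommRingCat.isPushout_iff_isPushout.mp hpY.flip
  letI : Algebra Γ(Y, V) Γ(X, U) := (f.appLE V U hUV).hom.toAlgebra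
  letI : Algebra Γ(S, O) Γ(X, U) := (q.appLE O V hVO ≫ f.appLE V U hUV).hom.toAlgebra
  haveI : IsScalarTower Γ(S, O) Γ(Y, V) Γ(X, U) := .of_algebraMap_eq fun _ => rfl
  letI : Algebra Γ(X, U) Γ(X', W) := (g'.appLE U W inf_le_left).hom.toAlgebra
  letI : Algebra Γ(Y', V') Γ(X', W) := (f'.appLE V' W inf_le_right).hom.toAlgebra
  letI : Algebra Γ(Y, V) Γ(X', W) := (f.appLE V U hUV ≫ g'.appLE U W inf_le_left).hom.toAlgebra
  haveI : IsScalarTower Γ(Y, V) Γ(X, U) Γ(X', W) := .of_algebraMap_eq fun _ => rfl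
  haveI : IsScalarTower Γ(Y, V) Γ(Y', V') Γ(X', W) := .of_algebraMap_eq fun r => congr($(hpo.w).hom r)
  haveI : Algebra.IsPushout Γ(Y, V) Γ(Y', V') Γ(X, U) Γ(X', W) :=
    CommRingCat.isPushout_iff_isPushout.mp hpo.flip
  haveI : Module.Flat Γ(S, O) Γ(Y, V) := q.flat_appLE hO hV hVO
  haveI : Module.Flat Γ(S, O) Γ(X, U) := by
    have hle : U ≤ (f ≫ q) ⁻¹ᵁ O := fun x hx => hVO (hUV hx)
    have h1 := (f ≫ q).flat_appLE hO hU hle
    rw [← Scheme.Hom.appLE_comp_appLE f q O V U hVO hUV] at h1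
    exact h1
  exact ⟨hV', hW, bcChart (A' := Γ(Y', V')) (B' := Γ(X', W)) φ,
    ⟨bcChart_surjective φ hφ.2 hφ.1, RingHom.ext fun a => eval₂Hom_C _ _ a⟩, fun m _ _ hB =>
    (spc_inD_iff QCoh.isQCoh_structureModule hW _ m).2
      (pc_chart_tor Γ(S, O) Γ(S', O') (A' := Γ(Y', V')) (B' := Γ(X', W)) φ hφ.2
        ((spc_inD_iff QCoh.isQCoh_structureModule hU φ m).1 hB))⟩

/-- Pseudo-coherence of morphisms of flat `S`-schemes is stable under any change of base. -/
theorem nPseudoCoherent_bc_tor [LocallyOfFiniteType f] [Flat q] [Flat (f ≫ q)]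
    (hY : IsPullback h q' q u) (hc : IsPullback g' f' f h) {m : ℤ}
    (hf : DerSch.IsPseudoCoherentRel f m (DCoh.inD X (Coh.structureModule X))) :
    DerSch.IsPseudoCoherentRel f' m (DCoh.inD X' (Coh.structureModule X')) := by
  haveI : LocallyOfFiniteType f' := MorphismProperty.of_isPullback hc inferInstance
  refine ⟨inferInstance, {V' | ∃ (O : S.affineOpens) (O' : S'.affineOpens) (V : Y.affineOpens),
      (O' : S'.Opens) ≤ u ⁻¹ᵁ (O : S.Opens) ∧ (V : Y.Opens) ≤ q ⁻¹ᵁ (O : S.Opens) ∧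
      (V' : Y'.Opens) = h ⁻¹ᵁ (V : Y.Opens) ⊓ q' ⁻¹ᵁ (O' : S'.Opens)}, ?_, fun V' hV' => ?_⟩
  · refine top_le_iff.1 fun y _ => ?_
    obtain ⟨_, ⟨O, hO, rfl⟩, hyO, -⟩ := S.isBasis_affineOpens.exists_subset_of_mem_open
      (show u.base (q'.base y) ∈ (⊤ : S.Opens) from trivial) (⊤ : S.Opens).2
    obtain ⟨_, ⟨O', hO', rfl⟩, hyO', hOO⟩ := S'.isBasis_affineOpens.exists_subset_of_mem_open
      (show q'.base y ∈ u ⁻¹ᵁ O from hyO) (u ⁻¹ᵁ O).2
    have hyq : h.base y ∈ q ⁻¹ᵁ O := by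
      show (h ≫ q).base y ∈ O
      rw [hY.w]; exact hyO
    obtain ⟨_, ⟨V, hV, rfl⟩, hyV, hVO⟩ := Y.isBasis_affineOpens.exists_subset_of_mem_open hyq (q ⁻¹ᵁ O).2
    have hV' : IsAffineOpen (h ⁻¹ᵁ V ⊓ q' ⁻¹ᵁ O') := by
      haveI : IsAffine _ := hV
      haveI : IsAffine _ := hO'
      haveI : IsAffine _ := hO
      exact .of_isIso (Scheme.Hom.isPullback_resLE hY hOO hVO rfl).isoPullback.hom
    simp only [TopologicalSpace.Opens.mem_iSup]
    exact ⟨⟨_, hV'⟩, ⟨⟨O, hO⟩, ⟨O', hO'⟩, ⟨V, hV⟩, hOO, hVO, rfl⟩, hyV, hyO'⟩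
  obtain ⟨O, O', V, hOO, hVO, hV'eq⟩ := hV'
  obtain ⟨V', hV'a⟩ := V'
  obtain rfl : V' = h ⁻¹ᵁ (V : Y.Opens) ⊓ q' ⁻¹ᵁ (O' : S'.Opens) := hV'eq
  refine ⟨{W | ∃ U : X.affineOpens, (U : X.Opens) ≤ f ⁻¹ᵁ (V : Y.Opens) ∧
    (W : X'.Opens) = g' ⁻¹ᵁ (U : X.Opens) ⊓ f' ⁻¹ᵁ (h ⁻¹ᵁ (V : Y.Opens) ⊓ q' ⁻¹ᵁ (O' : S'.Opens))},
    le_antisymm (iSup₂_le fun W hW => ?_) fun x hx => ?_, fun W hW hle => ?_⟩
  · obtain ⟨U, -, hW'⟩ := hW
    rw [hW']
    exact inf_le_right
  · have hx' : g'.base x ∈ f ⁻¹ᵁ (V : Y.Opens) := by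
      show (g' ≫ f).base x ∈ (V : Y.Opens)
      rw [hc.w]
      exact hx.1
    obtain ⟨_, ⟨U, hU, rfl⟩, hxU, hUV⟩ := X.isBasis_affineOpens.exists_subset_of_mem_open hx'
      (f ⁻¹ᵁ (V : Y.Opens)).2
    obtain ⟨k, φ, hφ⟩ := exists_chart (f := f) hUV (f.finiteType_appLE V.2 hU hUV)
    obtain ⟨-, hW, -⟩ := exists_tor_chart hY hc O.2 O'.2 hOO hU V.2 hUV hVO φ hφ
    simp only [TopologicalSpace.Opens.mem_iSup]
    exact ⟨⟨_, hW⟩, ⟨⟨U, hU⟩, hUV, rfl⟩, hxU, hx⟩
  · obtain ⟨U, hUV, hW'⟩ := hW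
    obtain ⟨W, hWa⟩ := W
    obtain rfl : W = g' ⁻¹ᵁ (U : X.Opens) ⊓ f' ⁻¹ᵁ (h ⁻¹ᵁ (V : Y.Opens) ⊓ q' ⁻¹ᵁ (O' : S'.Opens)) := hW'
    obtain ⟨k, φ, hφ⟩ := exists_chart (f := f) hUV (f.finiteType_appLE V.2 U.2 hUV)
    obtain ⟨-, -, ψ, hψ, hB⟩ := exists_tor_chart hY hc O.2 O'.2 hOO U.2 V.2 hUV hVO φ hφ
    haveI := isClEmb_imm U.2 hφ.1
    haveI := isClEmb_imm hWa hψ.1
    exact ⟨k, ψ, hψ, (chartPC_iff ψ inferInstance _).2
      ((spc_iff_locPC ψ).2 (hB m (locPC_immD_of_rel hf U V hφ)))⟩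

end Scheme

end Groth.Agent.RelPC65
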