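import Groth.Agent.RelPC65.Comp
import Groth.Agent.RelPC13.RingBC
import Groth.Agent.PCMor.Ring
import Mathlib.RingTheory.TensorProduct.MvPolynomial

/-!
# Flat base change of pseudo-coherent ring maps and morphisms
-/

set_option linter.style.haveILetI false
set_option backward.isDefEq.respectTransparency false
set_option backward.isDefEq.respectTransparency.types false

universe u

open CategoryTheory CategoryTheory.Limits MvPolynomial
open Groth.Agent.H9Misc Groth.Agent.RelPC13

attribute [local instance] HasDerivedCategory.standard MvPolynomial.algebraMvPolynomial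

namespace Groth.Agent.RelPC65

section Ring

variable {A B A' B' : Type u} [CommRing A] [CommRing B] [CommRing A'] [CommRing B'] [Algebra A B]
  [Algebra A A'] [Algebra A' B'] [Algebra B B'] [Algebra A B'] [IsScalarTower A A' B'] [IsScalarTower A B B']
  [Algebra.IsPushout A A' B B'] {k : ℕ}

/-- The chart induced after base change. -/
noncomputable def bcChart (φ : MvPolynomial (Fin k) A →+* B) : MvPolynomial (Fin k) A' →+* B' :=
  eval₂Hom (algebraMap A' B') fun i => algebraMap B B' (φ (X i))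

variable (φ : MvPolynomial (Fin k) A →+* B) (hC : φ.comp C = algebraMap A B)

include hC in
lemma bcChart_comp_map :
    (bcChart (A' := A') (B' := B') φ).comp (MvPolynomial.map (algebraMap A A')) =
      (algebraMap B B').comp φ := by
  refine MvPolynomial.ringHom_ext (fun r => ?_) fun i => ?_
  · have h := RingHom.congr_fun hC r
    simp only [RingHom.comp_apply] at h
    simp [bcChart, h, ← IsScalarTower.algebraMap_apply]
  · simp [bcChart]

include hC in
lemma bcChart_surjective (hs : Function.Surjective φ) :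
    Function.Surjective (bcChart (A' := A') (B' := B') φ) := by
  intro y
  obtain ⟨z, rfl⟩ := (Algebra.IsPushout.equiv A A' B B').surjective y
  induction z using TensorProduct.induction_on with
  | zero => exact ⟨0, by simp⟩
  | tmul a b =>
    obtain ⟨p, rfl⟩ := hs b
    refine ⟨C a * MvPolynomial.map (algebraMap A A') p, ?_⟩
    rw [map_mul, show bcChart (A' := A') (B' := B') φ (C a) = algebraMap A' B' a by simp [bcChart],
      show bcChart (A' := A') (B' := B') φ (MvPolynomial.map (algebraMap A A') p) =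
        algebraMap B B' (φ p) from RingHom.congr_fun (bcChart_comp_map φ hC) p,
      Algebra.IsPushout.equiv_tmul]
  | add x y hx hy =>
    obtain ⟨p, hp⟩ := hx
    obtain ⟨q, hq⟩ := hy
    exact ⟨p + q, by rw [map_add, hp, hq, map_add]⟩

/-- The single complex of `B` and of `B'`. -/
noncomputable def extSingleIso :
    DRing.toD ((DRingLTensor.extC' (algebraMap B B')).obj
      ((HomologicalComplex.single _ (ComplexShape.up ℤ) 0).obj (ModuleCat.of B B))) ≅
      Dual.inD B' (ModuleCat.of B' B') :=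
  DerivedCategory.Q.mapIso
      ((HomologicalComplex.singleMapHomologicalComplex (ModuleCat.extendScalars.{u, u, u} (algebraMap B B'))
        (ComplexShape.up ℤ) 0).app (ModuleCat.of B B) ≪≫
      (HomologicalComplex.single _ (ComplexShape.up ℤ) 0).mapIso (PCMor.extendSelfIso (algebraMap B B'))) ≪≫
    ((DerivedCategory.singleFunctorIsoCompQ (ModuleCat.{u} B') 0).app _).symm

/-- The single complex in the derived category. -/
noncomputable def toDSingleIso : DRing.toD ((HomologicalComplex.single _ (ComplexShape.up ℤ) 0).obj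
    (ModuleCat.of B B)) ≅ Dual.inD B (ModuleCat.of B B) :=
  ((DerivedCategory.singleFunctorIsoCompQ (ModuleCat.{u} B) 0).app _).symm

include hC in
theorem pc_chart_iff [Module.Flat A A'] {m : ℤ} :
    (DRing.IsPseudoCoherentModule (MvPolynomial (Fin k) A) m
        ((ModuleCat.restrictScalars φ).obj (ModuleCat.of B B)) →
      DRing.IsPseudoCoherentModule (MvPolynomial (Fin k) A') m
        ((ModuleCat.restrictScalars (bcChart (A' := A') φ)).obj (ModuleCat.of B' B'))) ∧
    (Module.FaithfullyFlat A A' →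
      DRing.IsPseudoCoherentModule (MvPolynomial (Fin k) A') m
        ((ModuleCat.restrictScalars (bcChart (A' := A') φ)).obj (ModuleCat.of B' B')) →
      DRing.IsPseudoCoherentModule (MvPolynomial (Fin k) A) m
        ((ModuleCat.restrictScalars φ).obj (ModuleCat.of B B))) := by
  let P := MvPolynomial (Fin k) A
  let D := MvPolynomial (Fin k) A'
  letI : Algebra P B := φ.toAlgebra
  letI : Algebra D B' := (bcChart (A' := A') (B' := B') φ).toAlgebra
  letI : Algebra P B' := ((algebraMap B B').comp φ).toAlgebra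
  haveI : IsScalarTower P B B' := IsScalarTower.of_algebraMap_eq fun _ => rfl
  haveI : IsScalarTower P D B' := IsScalarTower.of_algebraMap_eq fun p =>
    (RingHom.congr_fun (bcChart_comp_map (A' := A') φ hC) p).symm
  haveI : IsScalarTower A P B := IsScalarTower.of_algebraMap_eq fun a => (RingHom.congr_fun hC a).symm
  haveI : IsScalarTower A' D B' := IsScalarTower.of_algebraMap_eq fun a => by
    exact (eval₂Hom_C (algebraMap A' B') _ a).symm
  haveI : IsScalarTower A A' D := IsScalarTower.of_algebraMap_eq fun a => rfl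
  haveI : IsScalarTower A P D := IsScalarTower.of_algebraMap_eq fun a => by
    exact (MvPolynomial.map_C (algebraMap A A') a).symm
  haveI : IsScalarTower A D B' := IsScalarTower.of_algebraMap_eq fun a => by
    rw [IsScalarTower.algebraMap_apply A A' B', IsScalarTower.algebraMap_apply A A' D,
      ← IsScalarTower.algebraMap_apply A' D B']
  haveI : IsScalarTower A P B' := IsScalarTower.of_algebraMap_eq fun a => by
    rw [IsScalarTower.algebraMap_apply A B B', IsScalarTower.algebraMap_apply A P B,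
      ← IsScalarTower.algebraMap_apply P B B']
  haveI hAB : Algebra.IsPushout A B A' B' := Algebra.IsPushout.symm ‹_›
  haveI : Algebra.IsPushout A P A' D := inferInstance
  haveI : Algebra.IsPushout P B D B' := (Algebra.IsPushout.comp_iff A P A' D).1 hAB
  haveI hpo : Algebra.IsPushout P D B B' := Algebra.IsPushout.symm ‹_›
  have h : (algebraMap B B').comp φ =
      (bcChart (A' := A') (B' := B') φ).comp (MvPolynomial.map (algebraMap A A')) :=
    (bcChart_comp_map φ hC).symm
  have hiso : ∀ M, IsIso (bcMap h M) := fun M =>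
    isIso_bcMap h (i₁ := ‹Algebra P B›) (i₂ := inferInstanceAs (Algebra P D)) (i₃ := ‹Algebra B B'›)
      (i₄ := ‹Algebra D B'›) rfl rfl rfl rfl M
  haveI : Algebra.IsPushout A A' P D := inferInstance
  let eD : TensorProduct A P A' ≃ₐ[P] D := Algebra.IsPushout.equiv A P A' D
  haveI : Module.Flat P D := Module.Flat.of_linearEquiv eD.symm.toLinearEquiv
  let S := (HomologicalComplex.single (ModuleCat.{u} B) (ComplexShape.up ℤ) 0).obj (ModuleCat.of B B)
  refine ⟨fun hB => ?_, fun hff hB => ?_⟩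
  · have h1 := pc_bc h hiso (RingHom.flat_algebraMap_iff.2 (inferInstance : Module.Flat P D))
      (K := S) (DRingPC.of_iso ((DRingRestrict.restrictInDIso φ _).symm ≪≫
        (DRing.restrictD φ).mapIso toDSingleIso.symm) hB)
    exact DRingPC.of_iso ((DRing.restrictD _).mapIso extSingleIso ≪≫ DRingRestrict.restrictInDIso _ _) h1
  · haveI : Module.FaithfullyFlat P D :=
      Module.FaithfullyFlat.of_linearEquiv P _ eD.symm.toLinearEquiv
    have h1 := pc_bc_descent h hiso
      (RingHom.faithfullyFlat_algebraMap_iff.2 (inferInstance : Module.FaithfullyFlat P D)) (K := S)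
      (DRingPC.of_iso ((DRingRestrict.restrictInDIso _ _).symm ≪≫
        (DRing.restrictD _).mapIso extSingleIso.symm) hB)
    exact DRingPC.of_iso ((DRing.restrictD φ).mapIso toDSingleIso ≪≫ DRingRestrict.restrictInDIso _ _) h1

end Ring

section Scheme

open AlgebraicGeometry Groth.Agent.KFlatLib

variable {X Y X' Y' : Scheme.{u}} {g' : X' ⟶ X} {f' : X' ⟶ Y'} {f : X ⟶ Y} {h : Y' ⟶ Y}

/-- The chart after base change, and what it tests. -/
theorem exists_bc_chart [Flat h] (hc : IsPullback g' f' f h) {U : X.Opens} (hU : IsAffineOpen U)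
    {V : Y.Opens} (hV : IsAffineOpen V) {V' : Y'.Opens} (hV' : IsAffineOpen V')
    (hUV : U ≤ f ⁻¹ᵁ V) (hVV : V' ≤ h ⁻¹ᵁ V) {k : ℕ}
    (φ : MvPolynomial (Fin k) Γ(Y, V) →+* Γ(X, U)) (hφ : DerSch.IsChart f U V hUV φ) :
    ∃ (hW : IsAffineOpen (g' ⁻¹ᵁ U ⊓ f' ⁻¹ᵁ V'))
      (ψ : MvPolynomial (Fin k) Γ(Y', V') →+* Γ(X', g' ⁻¹ᵁ U ⊓ f' ⁻¹ᵁ V')),
      DerSch.IsChart f' (g' ⁻¹ᵁ U ⊓ f' ⁻¹ᵁ V') V' inf_le_right ψ ∧
      ∀ (m : ℤ) [IsClEmb (imm U φ)] [IsClEmb (imm _ ψ)],
        (LocPC m ((immD U φ).obj (DCoh.inD X (Coh.structureModule X))) →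
          LocPC m ((immD _ ψ).obj (DCoh.inD X' (Coh.structureModule X')))) ∧
        ((∀ y ∈ V, ∃ y' ∈ V', h.base y' = y) →
          LocPC m ((immD _ ψ).obj (DCoh.inD X' (Coh.structureModule X'))) →
          LocPC m ((immD U φ).obj (DCoh.inD X (Coh.structureModule X)))) := by
  let W : X'.Opens := g' ⁻¹ᵁ U ⊓ f' ⁻¹ᵁ V'
  have hW : IsAffineOpen W := by
    haveI : IsAffine _ := hV
    haveI : IsAffine _ := hV'
    haveI : IsAffine _ := hU
    exact .of_isIso (Scheme.Hom.isPullback_resLE hc hVV hUV (UY := W) rfl).isoPullback.hom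
  have hpo := (isIso_pushoutSection_iff hc hVV hUV (UY := W) rfl).mp
    (isIso_pushoutSection_of_isAffineOpen hc hVV hUV rfl hV hV' hU)
  letI : Algebra Γ(Y, V) Γ(X, U) := (f.appLE V U hUV).hom.toAlgebra
  letI : Algebra Γ(Y, V) Γ(Y', V') := (h.appLE V V' hVV).hom.toAlgebra
  letI : Algebra Γ(X, U) Γ(X', W) := (g'.appLE U W inf_le_left).hom.toAlgebra
  letI : Algebra Γ(Y', V') Γ(X', W) := (f'.appLE V' W inf_le_right).hom.toAlgebra
  letI : Algebra Γ(Y, V) Γ(X', W) := (f.appLE V U hUV ≫ g'.appLE U W inf_le_left).hom.toAlgebra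
  haveI : IsScalarTower Γ(Y, V) Γ(X, U) Γ(X', W) := .of_algebraMap_eq fun _ => rfl
  haveI : IsScalarTower Γ(Y, V) Γ(Y', V') Γ(X', W) := .of_algebraMap_eq fun r => congr($(hpo.w).hom r)
  haveI : Algebra.IsPushout Γ(Y, V) Γ(Y', V') Γ(X, U) Γ(X', W) :=
    CommRingCat.isPushout_iff_isPushout.mp hpo.flip
  haveI : Module.Flat Γ(Y, V) Γ(Y', V') := h.flat_appLE hV hV' hVV
  refine ⟨hW, bcChart (A' := Γ(Y', V')) (B' := Γ(X', W)) φ,
    ⟨bcChart_surjective φ hφ.2 hφ.1, RingHom.ext fun a => eval₂Hom_C _ _ a⟩, fun m _ _ => ⟨fun hB => ?_, fun hs hB => ?_⟩⟩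
  · exact (spc_inD_iff QCoh.isQCoh_structureModule hW _ m).2
      ((pc_chart_iff (A' := Γ(Y', V')) (B' := Γ(X', W)) φ hφ.2).1
        ((spc_inD_iff QCoh.isQCoh_structureModule hU φ m).1 hB))
  · haveI : Module.FaithfullyFlat Γ(Y, V) Γ(Y', V') := by
      refine Module.FaithfullyFlat.of_comap_surjective fun q => ?_
      have hq : hV.fromSpec.base q ∈ V := by
        rw [← SetLike.mem_coe, ← hV.range_fromSpec]
        exact ⟨q, rfl⟩
      obtain ⟨y, hy, hyq⟩ := hs _ hq
      obtain ⟨q', rfl⟩ : y ∈ Set.range hV'.fromSpec.base := by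
        rw [hV'.range_fromSpec]; exact hy
      refine ⟨q', hV.fromSpec.isOpenEmbedding.injective ?_⟩
      rw [← hyq]
      show (Spec.map (h.appLE V V' hVV) ≫ hV.fromSpec).base q' = (hV'.fromSpec ≫ h).base q'
      rw [IsAffineOpen.SpecMap_appLE_fromSpec h hV hV' hVV]
    exact (spc_inD_iff QCoh.isQCoh_structureModule hU φ m).2
      ((pc_chart_iff (A' := Γ(Y', V')) (B' := Γ(X', W)) φ hφ.2).2 inferInstance
        ((spc_inD_iff QCoh.isQCoh_structureModule hW _ m).1 hB))

/-- Pseudo-coherence of morphisms is stable under flat base change. -/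
theorem nPseudoCoherent_bc [LocallyOfFiniteType f] [Flat h] (hc : IsPullback g' f' f h) {m : ℤ}
    (hf : DerSch.IsPseudoCoherentRel f m (DCoh.inD X (Coh.structureModule X))) :
    DerSch.IsPseudoCoherentRel f' m (DCoh.inD X' (Coh.structureModule X')) := by
  haveI : LocallyOfFiniteType f' := MorphismProperty.of_isPullback hc inferInstance
  refine ⟨inferInstance, {V' | ∃ V : Y.affineOpens, (V' : Y'.Opens) ≤ h ⁻¹ᵁ (V : Y.Opens)}, ?_, fun V' hV' => ?_⟩
  · refine top_le_iff.1 fun y _ => ?_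
    obtain ⟨_, ⟨V, hV, rfl⟩, hyV, -⟩ := Y.isBasis_affineOpens.exists_subset_of_mem_open
      (show h.base y ∈ (⊤ : Y.Opens) from trivial) (⊤ : Y.Opens).2
    obtain ⟨_, ⟨V', hV', rfl⟩, hyV', hVV⟩ := Y'.isBasis_affineOpens.exists_subset_of_mem_open
      (show y ∈ h ⁻¹ᵁ V from hyV) (h ⁻¹ᵁ V).2
    simp only [TopologicalSpace.Opens.mem_iSup]
    exact ⟨⟨V', hV'⟩, ⟨⟨V, hV⟩, hVV⟩, hyV'⟩
  obtain ⟨V, hVV⟩ := hV'
  refine ⟨{W | ∃ U : X.affineOpens, (U : X.Opens) ≤ f ⁻¹ᵁ (V : Y.Opens) ∧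
    (W : X'.Opens) = g' ⁻¹ᵁ (U : X.Opens) ⊓ f' ⁻¹ᵁ (V' : Y'.Opens)},
    le_antisymm (iSup₂_le fun W hW => ?_) fun x hx => ?_, fun W hW hle => ?_⟩
  · obtain ⟨U, -, hW'⟩ := hW
    rw [hW']
    exact inf_le_right
  · have hx' : g'.base x ∈ f ⁻¹ᵁ (V : Y.Opens) := by
      show (g' ≫ f).base x ∈ (V : Y.Opens)
      rw [hc.w]
      exact hVV hx
    obtain ⟨_, ⟨U, hU, rfl⟩, hxU, hUV⟩ := X.isBasis_affineOpens.exists_subset_of_mem_open hx'
      (f ⁻¹ᵁ (V : Y.Opens)).2
    obtain ⟨k, φ, hφ⟩ := exists_chart (f := f) hUV (f.finiteType_appLE V.2 hU hUV)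
    obtain ⟨hW, -⟩ := exists_bc_chart hc hU V.2 V'.2 hUV hVV φ hφ
    simp only [TopologicalSpace.Opens.mem_iSup]
    exact ⟨⟨_, hW⟩, ⟨⟨U, hU⟩, hUV, rfl⟩, hxU, hx⟩
  · obtain ⟨U, hUV, hW'⟩ := hW
    obtain ⟨W, hWa⟩ := W
    obtain rfl : W = g' ⁻¹ᵁ (U : X.Opens) ⊓ f' ⁻¹ᵁ (V' : Y'.Opens) := hW'
    obtain ⟨k, φ, hφ⟩ := exists_chart (f := f) hUV (f.finiteType_appLE V.2 U.2 hUV)
    obtain ⟨-, ψ, hψ, hiff⟩ := exists_bc_chart hc U.2 V.2 V'.2 hUV hVV φ hφ
    haveI := isClEmb_imm U.2 hφ.1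
    haveI := isClEmb_imm hWa hψ.1
    exact ⟨k, ψ, hψ, (chartPC_iff ψ inferInstance _).2
      ((spc_iff_locPC ψ).2 ((hiff m).1 (locPC_immD_of_rel hf U V hφ)))⟩

/-- Pseudo-coherence of morphisms descends along flat surjective quasi-compact base changes. -/
theorem nPseudoCoherent_descent [LocallyOfFiniteType f] [Flat h] [Surjective h] [QuasiCompact h]
    (hc : IsPullback g' f' f h) {m : ℤ}
    (hf : DerSch.IsPseudoCoherentRel f' m (DCoh.inD X' (Coh.structureModule X'))) :
    DerSch.IsPseudoCoherentRel f m (DCoh.inD X (Coh.structureModule X)) := by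
  haveI : LocallyOfFiniteType f' := MorphismProperty.of_isPullback hc inferInstance
  refine isPseudoCoherentRel_of_immD fun U V hUV k φ _ hφ => ?_
  haveI : CompactSpace (h ⁻¹ᵁ (V : Y.Opens) : Scheme.{u}) :=
    isCompact_iff_compactSpace.1 (h.isCompact_preimage V.2.isCompact)
  obtain ⟨T, p, hp, hpf, hT⟩ := Scheme.exists_hom_isAffine_of_isZariskiLocalAtSource @Flat
    (h ⁻¹ᵁ (V : Y.Opens) : Scheme.{u})
  haveI := hpf
  haveI := hp
  let j := p ≫ (h ⁻¹ᵁ (V : Y.Opens)).ι
  let P := pullback f' j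
  have hc2 : IsPullback (pullback.fst f' j ≫ g') (pullback.snd f' j) f (j ≫ h) :=
    (IsPullback.of_hasPullback f' j).paste_horiz hc
  have hf2 := nPseudoCoherent_bc (IsPullback.of_hasPullback f' j) hf
  have hTV : (⊤ : T.Opens) ≤ (j ≫ h) ⁻¹ᵁ (V : Y.Opens) := fun t _ => (p.base t).2
  obtain ⟨hW, ψ, hψ, hiff⟩ := exists_bc_chart hc2 U.2 V.2 (isAffineOpen_top T) hUV hTV φ hφ
  haveI := isClEmb_imm hW hψ.1
  refine (hiff m).2 (fun y hy => ?_) (locPC_immD_of_rel hf2 ⟨_, hW⟩ ⟨⊤, isAffineOpen_top T⟩ hψ)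
  obtain ⟨y', rfl⟩ := h.surjective y
  obtain ⟨t, ht⟩ := p.surjective ⟨y', hy⟩
  exact ⟨t, trivial, congrArg (fun z : (h ⁻¹ᵁ (V : Y.Opens) : Scheme.{u}) => h.base z.1) ht⟩

end Scheme

end Groth.Agent.RelPC65
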