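import Groth.Agent.H9Misc.DRingRelPC2
import Groth.Agent.Triage.NoethPC

/-!
# Restriction of pseudo-coherence for bounded objects
-/

set_option linter.style.haveILetI false

universe u

open CategoryTheory CategoryTheory.Category CategoryTheory.Limits Pretriangulated
open Groth.Agent.H9Misc Groth.Agent.H9Misc.DRingTor Groth.Agent.H9Misc.DRingRestrict
  Groth.Agent.KFlatLib

attribute [local instance] HasDerivedCategory.standard

namespace Groth.Agent.RelPC65

variable {A B : Type u} [CommRing A] [CommRing B]


/-- A finite free module covering the top cohomology. -/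
lemma exists_top_cover (b : ℤ) (K : Dual.D B)
    (hz : ∀ i, b < i → IsZero ((DerivedCategory.homologyFunctor (ModuleCat.{u} B) i).obj K))
    (hfin : Module.Finite B ((DerivedCategory.homologyFunctor (ModuleCat.{u} B) b).obj K)) :
    ∃ (n : ℕ) (C : Dual.D B) (α : (DerivedCategory.singleFunctor (ModuleCat.{u} B) b).obj (ModuleCat.of B (Fin n → B)) ⟶ K)
      (g : K ⟶ C) (h : C ⟶ ((DerivedCategory.singleFunctor (ModuleCat.{u} B) b).obj (ModuleCat.of B (Fin n → B)))⟦(1 : ℤ)⟧),
      Triangle.mk α g h ∈ distinguishedTriangles ∧
        ∀ i, b - 1 < i → IsZero ((DerivedCategory.homologyFunctor (ModuleCat.{u} B) i).obj C) := by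
  haveI : K.IsLE b := (DerivedCategory.isLE_iff K b).2 hz
  obtain ⟨P, hP, ⟨e⟩⟩ := K.exists_iso_Q_obj_of_isLE b
  haveI : IsIso (P.iCycles b) := P.isIso_iCycles b (b + 1) (by simp)
    ((CochainComplex.isZero_of_isStrictlyLE P b (b + 1) (by omega)).eq_of_tgt _ _)
  let p : P.X b ⟶ (DerivedCategory.homologyFunctor (ModuleCat.{u} B) b).obj K :=
    inv (P.iCycles b) ≫ P.homologyπ b ≫ ((DerivedCategory.homologyFunctorFactors (ModuleCat.{u} B) b).app P).inv ≫
      (DerivedCategory.homologyFunctor (ModuleCat.{u} B) b).map e.inv
  obtain ⟨n, π, hπ⟩ := Module.Finite.exists_fin' B ((DerivedCategory.homologyFunctor (ModuleCat.{u} B) b).obj K)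
  obtain ⟨l, hl⟩ := Module.projective_lifting_property p.hom π ((ModuleCat.epi_iff_surjective p).1 inferInstance)
  let N : ModuleCat.{u} B := ModuleCat.of B (Fin n → B)
  let ι : (sg b).obj N ⟶ P := HomologicalComplex.mkHomFromSingle (ModuleCat.ofHom l)
    fun i (hi : b + 1 = i) => (CochainComplex.isZero_of_isStrictlyLE P b i (by omega)).eq_of_tgt _ _
  let α : toD'.obj ((sg b).obj N) ⟶ K := toD'.map ι ≫ e.inv
  haveI : Epi ((DerivedCategory.homologyFunctor (ModuleCat.{u} B) b).map α) := by
    let w : N ⟶ ((sg b).obj N).homology b :=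
      (HomologicalComplex.singleObjCyclesSelfIso (ComplexShape.up ℤ) b N).inv ≫ ((sg b).obj N).homologyπ b
    haveI : Epi (w ≫ ((DerivedCategory.homologyFunctorFactors (ModuleCat.{u} B) b).app ((sg b).obj N)).inv ≫
        (DerivedCategory.homologyFunctor (ModuleCat.{u} B) b).map α) := by
      have hw : w ≫ ((DerivedCategory.homologyFunctorFactors (ModuleCat.{u} B) b).app ((sg b).obj N)).inv ≫
          (DerivedCategory.homologyFunctor (ModuleCat.{u} B) b).map α = ModuleCat.ofHom π := by
        have hp : ModuleCat.ofHom l ≫ p = ModuleCat.ofHom π := ModuleCat.hom_ext hl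
        have hc : (HomologicalComplex.singleObjCyclesSelfIso (ComplexShape.up ℤ) b N).inv ≫
            HomologicalComplex.cyclesMap ι b = ModuleCat.ofHom l ≫ inv (P.iCycles b) := by
          rw [← cancel_mono (P.iCycles b)]
          simp [ι]
        have hn : (DerivedCategory.homologyFunctorFactors (ModuleCat.{u} B) b).inv.app ((sg b).obj N) ≫
            (DerivedCategory.homologyFunctor (ModuleCat.{u} B) b).map (DerivedCategory.Q.map ι) =
            HomologicalComplex.homologyMap ι b ≫
              (DerivedCategory.homologyFunctorFactors (ModuleCat.{u} B) b).inv.app P :=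
          ((DerivedCategory.homologyFunctorFactors (ModuleCat.{u} B) b).inv.naturality ι).symm
        refine Eq.trans ?_ hp
        show w ≫ (DerivedCategory.homologyFunctorFactors (ModuleCat.{u} B) b).inv.app ((sg b).obj N) ≫
          (DerivedCategory.homologyFunctor (ModuleCat.{u} B) b).map (DerivedCategory.Q.map ι ≫ e.inv) = _
        refine (congrArg (fun x => w ≫ (DerivedCategory.homologyFunctorFactors (ModuleCat.{u} B) b).inv.app
          ((sg b).obj N) ≫ x) ((DerivedCategory.homologyFunctor (ModuleCat.{u} B) b).map_comp _ _)).trans ?_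
        refine (congrArg (w ≫ ·) ((assoc _ _ _).symm.trans ((congrArg (· ≫
          (DerivedCategory.homologyFunctor (ModuleCat.{u} B) b).map e.inv) hn).trans (assoc _ _ _)))).trans ?_
        refine (assoc _ _ _).trans ?_
        refine (congrArg ((HomologicalComplex.singleObjCyclesSelfIso (ComplexShape.up ℤ) b N).inv ≫ ·)
          ((assoc _ _ _).symm.trans ((congrArg (· ≫ ((DerivedCategory.homologyFunctorFactors (ModuleCat.{u} B) b).app P).inv ≫
            (DerivedCategory.homologyFunctor (ModuleCat.{u} B) b).map e.inv)
              (HomologicalComplex.homologyπ_naturality ι b)).trans (assoc _ _ _)))).trans ?_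
        exact (assoc _ _ _).symm.trans ((congrArg (· ≫ _) hc).trans (assoc _ _ _))
      rw [hw]
      exact (ModuleCat.epi_iff_surjective _).2 hπ
    exact epi_of_epi (w ≫ ((DerivedCategory.homologyFunctorFactors (ModuleCat.{u} B) b).app
      ((sg b).obj N)).inv) _
  obtain ⟨C, g, h, hT⟩ := distinguished_cocone_triangle α
  have hNH : ∀ i, i ≠ b → IsZero ((DerivedCategory.homologyFunctor (ModuleCat.{u} B) i).obj (toD'.obj ((sg b).obj N))) :=
    fun i hi => (ShortComplex.isZero_homology_of_isZero_X₂ _
      (HomologicalComplex.isZero_single_obj_X (ComplexShape.up ℤ) b N i hi)).of_iso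
        ((DerivedCategory.homologyFunctorFactors (ModuleCat.{u} B) i).app _)
  have hC : ∀ i, b - 1 < i → IsZero ((DerivedCategory.homologyFunctor (ModuleCat.{u} B) i).obj C) := fun i hi => by
    refine (DerivedCategory.HomologySequence.exact₃ _ hT i (i + 1) rfl).isZero_X₂ ?_
      ((hNH (i + 1) (by omega)).eq_of_tgt _ _)
    rcases eq_or_ne i b with rfl | hib
    · exact (DerivedCategory.HomologySequence.epi_homologyMap_mor₁_iff _ hT i).1 (by assumption)
    · exact (hz i (by omega)).eq_of_src _ _
  let e0 := (DerivedCategory.singleFunctorIsoCompQ (ModuleCat.{u} B) b).app N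
  refine ⟨n, C, e0.hom ≫ α, g, h ≫ (shiftFunctor (Dual.D B) (1 : ℤ)).map e0.inv,
    isomorphic_distinguished _ hT _ (Triangle.isoMk _ _ e0 (Iso.refl _) (Iso.refl _)
      (comp_id _) ((comp_id _).trans (id_comp _).symm) ?_), hC⟩
  show (h ≫ (shiftFunctor (Dual.D B) (1 : ℤ)).map e0.inv) ≫ (shiftFunctor (Dual.D B) (1 : ℤ)).map e0.hom = 𝟙 _ ≫ h
  rw [assoc]
  refine (congrArg (h ≫ ·) ((Functor.map_comp _ _ _).symm.trans ((congrArg _ e0.inv_hom_id).trans
    (CategoryTheory.Functor.map_id _ _)))).trans ?_
  exact (comp_id h).trans (id_comp h).symm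

lemma pc_pi_fin {m : ℤ} {M : Type u} [AddCommGroup M] [Module A M]
    (h : DRing.IsPseudoCoherentModule A m M) : ∀ n : ℕ, DRing.IsPseudoCoherentModule A m (Fin n → M)
  | 0 => DRingPC.of_vanish _ fun i _ => Functor.map_isZero _
      ((DerivedCategory.singleFunctor _ 0).map_isZero (ModuleCat.isZero_of_subsingleton _))
  | n + 1 => by
    let i : M →ₗ[A] (Fin (n + 1) → M) := LinearMap.single A (fun _ => M) 0
    let q : (Fin (n + 1) → M) →ₗ[A] (Fin n → M) := LinearMap.funLeft A M Fin.succ
    have hi : Function.Injective i := fun a b hab => by simpa [i] using congrFun hab 0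
    have hq : Function.Surjective q := fun y => ⟨Fin.cons 0 y, funext fun j => by simp [q]⟩
    have he : Function.Exact i q := fun y => by
      refine ⟨fun hy => ⟨y 0, funext fun j => ?_⟩, ?_⟩
      · cases j using Fin.cases with
        | zero => simp [i]
        | succ j => simpa [i, q] using (congrFun hy j).symm
      · rintro ⟨x, rfl⟩
        exact funext fun j => by simp [i, q]
    have w : ModuleCat.ofHom i ≫ ModuleCat.ofHom q = 0 :=
      ModuleCat.hom_ext (LinearMap.ext he.apply_apply_eq_zero)
    have hS : (ShortComplex.mk (ModuleCat.ofHom i) (ModuleCat.ofHom q) w).ShortExact :=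
      { exact := (ShortComplex.ShortExact.moduleCat_exact_iff_function_exact _).2 he
        mono_f := (ModuleCat.mono_iff_injective _).2 hi
        epi_g := (ModuleCat.epi_iff_surjective _).2 hq }
    exact (Groth.Agent.S2067.result hS.singleTriangle hS.singleTriangle_distinguished m).2.1 h (pc_pi_fin h n)

variable (φ : A →+* B)

lemma pc_restrict_single {m b : ℤ} (n : ℕ)
    (hB : DRing.IsPseudoCoherentModule A (m - b) ((ModuleCat.restrictScalars φ).obj (ModuleCat.of B B))) :
    DRing.IsPseudoCoherent A m ((DRing.restrictD φ).obj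
      ((DerivedCategory.singleFunctor (ModuleCat.{u} B) b).obj (ModuleCat.of B (Fin n → B)))) :=
  DRingPC.of_iso (((ModuleCat.restrictScalars φ).mapDerivedCategorySingleFunctor b).app _).symm
    (DRingPC.single_of_module (DRingPC.of_iso ((DerivedCategory.singleFunctor (ModuleCat.{u} A) 0).mapIso
      (LinearEquiv.toModuleIso
        ({ AddEquiv.refl (Fin n → B) with map_smul' := fun _ _ => rfl } :
          (Fin n → ((ModuleCat.restrictScalars φ).obj (ModuleCat.of B B) : Type u)) ≃ₗ[A]
            ((ModuleCat.restrictScalars φ).obj (ModuleCat.of B (Fin n → B)) : Type u))))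
      (pc_pi_fin hB n)))

/-- Restriction of an object bounded above by `b` needs only `(m - b)`-pseudo-coherence of `B`. -/
theorem pc_restrict_bdd : ∀ (k : ℕ) (m b : ℤ), b + 1 ≤ m + k → ∀ K : Dual.D B,
    (∀ i, b < i → IsZero ((DerivedCategory.homologyFunctor (ModuleCat.{u} B) i).obj K)) →
    DRing.IsPseudoCoherentModule A (m - b) ((ModuleCat.restrictScalars φ).obj (ModuleCat.of B B)) →
    DRing.IsPseudoCoherent B m K → DRing.IsPseudoCoherent A m ((DRing.restrictD φ).obj K) := by
  intro k
  induction k with
  | zero => exact fun m b hb K hz _ _ => DRingPC.of_vanish _ fun i hi => isZero_H_restrict φ (hz i (by omega))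
  | succ k ih =>
    intro m b hb K hz hB hK
    rcases lt_or_ge b m with hbm | hbm
    · exact DRingPC.of_vanish _ fun i hi => isZero_H_restrict φ (hz i (by omega))
    obtain ⟨n, C, α, g, h, hT, hC⟩ := exists_top_cover b K hz
      ((Groth.Agent.S2068.result _ b (DRingPC.mono hbm hK)).1 hz)
    have hCp : DRing.IsPseudoCoherent B m C := by
      refine (Groth.Agent.S2067.result _ hT m).1 ((DRingPC.pc'_iff _).1 (DRingPC.single_of_module' ?_) _) hK
      exact (DRingPC.pc'_iff _).2 fun i => Triage.NoethPC.pc_of_free (A := B) (Fin n → B) i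
    exact (Groth.Agent.S2067.result _ ((DRing.restrictD φ).map_distinguished _ hT) m).2.1
      (pc_restrict_single φ n hB)
      (ih m (b - 1) (by omega) C hC (DRingPC.mono (by omega) hB) hCp)

/-- Pseudo-coherence after restriction descends if `B` is `(m + 1 - b)`-pseudo-coherent. -/
theorem pc_of_restrict_bdd : ∀ (k : ℕ) (m b : ℤ), b + 1 ≤ m + k → ∀ K : Dual.D B,
    (∀ i, b < i → IsZero ((DerivedCategory.homologyFunctor (ModuleCat.{u} B) i).obj K)) →
    DRing.IsPseudoCoherentModule A (m + 1 - b) ((ModuleCat.restrictScalars φ).obj (ModuleCat.of B B)) →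
    DRing.IsPseudoCoherent A m ((DRing.restrictD φ).obj K) → DRing.IsPseudoCoherent B m K := by
  intro k
  induction k with
  | zero => exact fun m b hb K hz _ _ => DRingPC.of_vanish K fun i hi => hz i (by omega)
  | succ k ih =>
    intro m b hb K hz hB hK
    rcases lt_or_ge b m with hbm | hbm
    · exact DRingPC.of_vanish K fun i hi => hz i (by omega)
    have hfin : Module.Finite B ((DerivedCategory.homologyFunctor (ModuleCat.{u} B) b).obj K) := by
      have h := (Groth.Agent.S2068.result _ b (DRingPC.mono hbm hK)).1 fun i hi => isZero_H_restrict φ (hz i hi)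
      have h' : Module.Finite A ((ModuleCat.restrictScalars φ).obj
          ((DerivedCategory.homologyFunctor (ModuleCat.{u} B) b).obj K)) :=
        haveI : Module.Finite A (((ModuleCat.restrictScalars φ).mapDerivedCategory ⋙
          DerivedCategory.homologyFunctor (ModuleCat.{u} A) b).obj K) := h
        Module.Finite.equiv ((mapDCHomologyIso (ModuleCat.restrictScalars φ) b).app K).toLinearEquiv
      letI := φ.toAlgebra
      letI : Module A ((DerivedCategory.homologyFunctor (ModuleCat.{u} B) b).obj K) := Module.compHom _ φ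
      haveI : IsScalarTower A B ((DerivedCategory.homologyFunctor (ModuleCat.{u} B) b).obj K) :=
        IsScalarTower.of_algebraMap_smul fun _ _ => rfl
      haveI : Module.Finite A ((DerivedCategory.homologyFunctor (ModuleCat.{u} B) b).obj K) := h'
      exact Module.Finite.of_restrictScalars_finite A B _
    obtain ⟨n, C, α, g, h, hT, hC⟩ := exists_top_cover b K hz hfin
    have hN : DRing.IsPseudoCoherent B m
        ((DerivedCategory.singleFunctor (ModuleCat.{u} B) b).obj (ModuleCat.of B (Fin n → B))) :=
      DRingPC.single_of_module (Triage.NoethPC.pc_of_free (A := B) (Fin n → B) _)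
    have hCp : DRing.IsPseudoCoherent A m ((DRing.restrictD φ).obj C) :=
      (Groth.Agent.S2067.result _ ((DRing.restrictD φ).map_distinguished _ hT) m).1
        (pc_restrict_single φ n hB) hK
    exact (Groth.Agent.S2067.result _ hT m).2.1 hN
      (ih m (b - 1) (by omega) C hC (DRingPC.mono (by omega) hB) hCp)

variable {P Q : Type u} [CommRing P] [CommRing Q]

attribute [local instance] MvPolynomial.algebraMvPolynomial in
/-- Base change to polynomial rings, degree by degree. -/
theorem pc_map_poly (φ : P →+* Q) (k : ℕ) (m : ℤ)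
    (hφ : DRing.IsPseudoCoherentModule P m ((ModuleCat.restrictScalars φ).obj (ModuleCat.of Q Q))) :
    DRing.IsPseudoCoherentModule (MvPolynomial (Fin k) P) m
      ((ModuleCat.restrictScalars (MvPolynomial.map (σ := Fin k) φ)).obj
        (ModuleCat.of (MvPolynomial (Fin k) Q) (MvPolynomial (Fin k) Q))) := by
  letI := φ.toAlgebra
  have hb : Algebra.IsPushout P (MvPolynomial (Fin k) P) Q (MvPolynomial (Fin k) Q) := inferInstance
  have hflat : (MvPolynomial.C : P →+* MvPolynomial (Fin k) P).Flat :=
    (RingHom.flat_algebraMap_iff (R := P) (S := MvPolynomial (Fin k) P)).2 inferInstance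
  have h := module_baseChange (MvPolynomial.C : P →+* MvPolynomial (Fin k) P) hflat m _ hφ
  let S := MvPolynomial (Fin k) P
  let E := (ModuleCat.extendScalars (MvPolynomial.C : P →+* S)).obj
    ((ModuleCat.restrictScalars φ).obj (ModuleCat.of Q Q))
  let tm : S → Q → E := fun x q =>
    @TensorProduct.tmul P _ _ _ _ _ (Module.compHom S (MvPolynomial.C : P →+* S)) _ x q
  have hbal : ∀ (r : P) (x : S) (q : Q), tm (MvPolynomial.C r * x) q = tm x (r • q) := by
    letI : Module P S := Module.compHom S (MvPolynomial.C : P →+* S)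
    exact fun r x q => (LinearMap.map_smul₂ (TensorProduct.mk P S Q) r x q).trans ((TensorProduct.mk P S Q x).map_smul r q).symm
  let back : TensorProduct P S Q →+ E :=
    TensorProduct.liftAddHom (AddMonoidHom.mk' (fun x => AddMonoidHom.mk' (tm x)
        (fun q q' => @TensorProduct.tmul_add P _ _ _ _ _ (Module.compHom S (MvPolynomial.C : P →+* S)) _ _ _ _))
      (fun x x' => AddMonoidHom.ext fun q =>
        @TensorProduct.add_tmul P _ _ _ _ _ (Module.compHom S (MvPolynomial.C : P →+* S)) _ _ _ _))
      (fun r x q => by
        show tm (r • x) q = tm x (r • q)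
        rw [show r • x = MvPolynomial.C r * x from (MvPolynomial.C_mul').symm]
        exact hbal r x q)
  let fm : S →+ Q →+ TensorProduct P S Q :=
    AddMonoidHom.mk' (fun x => (TensorProduct.mk P S Q x).toAddMonoidHom)
      (fun x x' => by ext q; simp [TensorProduct.add_tmul])
  let fwd : E →+ TensorProduct P S Q :=
    @TensorProduct.liftAddHom P _ S Q (TensorProduct P S Q) _ _ _ (Module.compHom S (MvPolynomial.C : P →+* S)) _
      fm
      (fun r x q => by
        show (MvPolynomial.C r * x) ⊗ₜ[P] q = x ⊗ₜ[P] (r • q)
        rw [MvPolynomial.C_mul', TensorProduct.smul_tmul])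
  have hfb : ∀ z, fwd (back z) = z := fun z => by
    induction z using TensorProduct.induction_on with
    | zero => rw [map_zero, map_zero]
    | add a b ha hb' => rw [map_add, map_add, ha, hb']
    | tmul x q => rfl
  have hbf : ∀ z, back (fwd z) = z := fun z => by
    induction z using TensorProduct.induction_on with
    | zero => exact (congrArg back (map_zero fwd)).trans (map_zero back)
    | add a b ha hb' =>
      refine (congrArg back (map_add fwd a b)).trans ((map_add back _ _).trans ?_)
      exact congrArg₂ (· + ·) ha hb'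
    | tmul x q => rfl
  have hback : ∀ (c : S) (w : TensorProduct P S Q), back (c • w) = c • back w := fun c w => by
    induction w using TensorProduct.induction_on with
    | zero => rw [smul_zero, map_zero, smul_zero]
    | add a b ha hb' => rw [smul_add, map_add, map_add, ha, hb', smul_add]
    | tmul x q => rfl
  have hsmul : ∀ (c : S) (z : E), fwd (c • z) = c • fwd z := fun c z => by
    conv_lhs => rw [← hbf z]
    rw [← hback, hfb]
  let e : E ≃ₗ[S] ((ModuleCat.restrictScalars (MvPolynomial.map (σ := Fin k) φ)).obj
      (ModuleCat.of (MvPolynomial (Fin k) Q) (MvPolynomial (Fin k) Q))) :=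
    { toFun := fun z => hb.out.equiv (fwd z)
      invFun := fun z => back (hb.out.equiv.symm z)
      left_inv := fun z => by
        show back (hb.out.equiv.symm (hb.out.equiv (fwd z))) = z
        rw [LinearEquiv.symm_apply_apply]
        exact hbf z
      right_inv := fun z => by
        show hb.out.equiv (fwd (back (hb.out.equiv.symm z))) = z
        rw [hfb]
        exact hb.out.equiv.apply_symm_apply z
      map_add' := fun x y => (congrArg hb.out.equiv (map_add fwd x y)).trans (map_add hb.out.equiv _ _)
      map_smul' := fun c x => (congrArg hb.out.equiv (hsmul c x)).trans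
        ((hb.out.equiv.map_smul c _).trans (Algebra.smul_def c _)) }
  exact DRingPC.of_iso ((DerivedCategory.singleFunctor (ModuleCat.{u} (MvPolynomial (Fin k) P)) 0).mapIso
    e.toModuleIso) h

end Groth.Agent.RelPC65
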