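import Groth.Agent.RelPC65.Restrict
import Groth.Agent.KFlatLib.Perfect.Amplitude

/-!
# Boundedness of relatively pseudo-coherent objects
-/

set_option linter.style.haveILetI false
set_option backward.isDefEq.respectTransparency false
set_option backward.isDefEq.respectTransparency.types false

universe u

open CategoryTheory CategoryTheory.Limits AlgebraicGeometry TopologicalSpace
open Groth.Agent.KFlatLib

attribute [local instance] HasDerivedCategory.standard

namespace Groth.Agent.RelPC65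

open Groth.Agent.RelPC13

/-- A point of a pseudo-coherent object has a neighbourhood with bounded above cohomology. -/
lemma exists_bound_nhd {X : Scheme.{u}} {m : ℤ} {K : DCoh.D X} (h : LocPC m K) (x : X) :
    ∃ (V : X.Opens) (b : ℤ), x ∈ V ∧
      ∀ y ∈ V, ∀ i : ℤ, b < i → IsZero ((DerSch.stalkFunctor X y).obj (DCoh.HD K i)) := by
  obtain ⟨U, j, _, hx, P, α, ⟨⟨a, b, hab⟩, -⟩, hα⟩ := h x
  refine ⟨j.opensRange, max b m, hx, ?_⟩
  rintro _ ⟨w, rfl⟩ i hi
  refine isZero_stalk_of_restrict j w ((DerSch.stalkFunctor U w).map_isZero ?_)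
  haveI : IsIso ((DerivedCategory.homologyFunctor U.Modules i).map α) := hα.1 i (by omega)
  have hz : IsZero ((DerivedCategory.homologyFunctor U.Modules i).obj (DerivedCategory.Q.obj P)) :=
    (ShortComplex.isZero_homology_of_isZero_X₂ _ (hab i (Or.inr (by omega)))).of_iso
      ((DerivedCategory.homologyFunctorFactors U.Modules i).app P)
  exact (hz.of_iso (asIso ((DerivedCategory.homologyFunctor U.Modules i).map α)).symm).of_iso
    (hdRhoIso j K i).symm

/-- Pseudo-coherent objects on quasi-compact schemes are bounded above. -/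
lemma exists_bound {X : Scheme.{u}} [CompactSpace X] {m : ℤ} {K : DCoh.D X} (h : LocPC m K) :
    ∃ b : ℤ, ∀ i : ℤ, b < i → IsZero (DCoh.HD K i) := by
  choose V b hV hb using exists_bound_nhd h
  obtain ⟨s, hs⟩ := isCompact_univ.elim_finite_subcover (fun x => (V x : Set X)) (fun x => (V x).2)
    fun x _ => Set.mem_iUnion.2 ⟨x, hV x⟩
  classical
  obtain ⟨B, hB⟩ : ∃ B : ℤ, ∀ x ∈ s, b x ≤ B := by
    obtain ⟨B, hB⟩ := (s.image b).bddAbove
    exact ⟨B, fun x hx => hB (Finset.mem_image_of_mem b hx)⟩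
  refine ⟨B, fun i hi => isZero_of_stalk _ fun y => ?_⟩
  obtain ⟨x, hx, hy⟩ := Set.mem_iUnion₂.1 (hs (Set.mem_univ y))
  exact hb x y hy i (lt_of_le_of_lt (hB x hx) hi)

/-- Relatively pseudo-coherent objects are bounded above on quasi-compact schemes. -/
theorem exists_isLE {X S : Scheme.{u}} [CompactSpace X] {f : X ⟶ S} {m : ℤ} {E : DCoh.D X}
    (hE : DerSch.IsPseudoCoherentRel f m E) : ∃ b : ℤ, E.IsLE b := by
  haveI := hE.1
  have key : ∀ x : X, ∃ (U : X.Opens) (b : ℤ), x ∈ U ∧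
      ∀ i : ℤ, b < i → IsZero ((DCoh.HD E i).restrict U.ι) := by
    intro x
    obtain ⟨_, ⟨V, hV, rfl⟩, hxV, -⟩ := S.isBasis_affineOpens.exists_subset_of_mem_open
      (show f.base x ∈ (⊤ : S.Opens) from trivial) (⊤ : S.Opens).2
    obtain ⟨_, ⟨U, hU, rfl⟩, hxU, hUV⟩ :=
      X.isBasis_affineOpens.exists_subset_of_mem_open (show x ∈ f ⁻¹ᵁ V from hxV) (f ⁻¹ᵁ V).2
    obtain ⟨n, φ, hφ⟩ := RelPC13.exists_chart (f := f) (show U ≤ f ⁻¹ᵁ V from hUV)
      (LocallyOfFiniteType.finiteType_appLE f hV hU hUV)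
    haveI := isClEmb_imm hU hφ.1
    obtain ⟨b, hb⟩ := exists_bound (locPC_immD_of_rel hE ⟨U, hU⟩ ⟨V, hV⟩ hφ)
    exact ⟨U, b, hxU, fun i hi => isZero_of_push (imm U φ) ((hb i hi).of_iso (hdImmDIso U φ E i).symm)⟩
  choose U b hU hb using key
  obtain ⟨s, hs⟩ := isCompact_univ.elim_finite_subcover (fun x => (U x : Set X)) (fun x => (U x).2)
    fun x _ => Set.mem_iUnion.2 ⟨x, hU x⟩
  classical
  obtain ⟨B, hB⟩ : ∃ B : ℤ, ∀ x ∈ s, b x ≤ B := by
    obtain ⟨B, hB⟩ := (s.image b).bddAbove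
    exact ⟨B, fun x hx => hB (Finset.mem_image_of_mem b hx)⟩
  refine ⟨B, (DerivedCategory.isLE_iff _ _).2 fun i hi => isZero_of_stalk _ fun y => ?_⟩
  obtain ⟨x, hx, hy⟩ := Set.mem_iUnion₂.1 (hs (Set.mem_univ y))
  exact isZero_stalk_of_restrict (U x).ι ⟨y, hy⟩
    ((DerSch.stalkFunctor _ _).map_isZero (hb x i (lt_of_le_of_lt (hB x hx) hi)))

end Groth.Agent.RelPC65
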