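import Groth.Agent.RelPC65.PushAt
import Groth.Agent.RelPC65.BddRestrict
import Groth.Agent.RelPC65.FlatTerms
import Groth.Agent.QCoh.LocFree

/-!
# Relative pseudo-coherence and composites
-/

set_option linter.style.haveILetI false
set_option backward.isDefEq.respectTransparency false
set_option backward.isDefEq.respectTransparency.types false

universe u

open CategoryTheory CategoryTheory.Limits AlgebraicGeometry TopologicalSpace Opposite MvPolynomial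
open Groth.Agent.KFlatLib Groth.Agent.RelPC13 Groth.Agent.H9Misc.DRingRelPC

attribute [local instance] HasDerivedCategory.standard

namespace Groth.Agent.RelPC65

variable {X Y Z : Scheme.{u}} {f : X ⟶ Y} {g : Y ⟶ Z}

/-- A chart of `f` over a chart of `g`, and the two tests attached to it. -/
theorem exists_charts [LocallyOfFiniteType f] [LocallyOfFiniteType g] {s : ℤ}
    (hg : DerSch.IsPseudoCoherentRel g s (DCoh.inD Y (Coh.structureModule Y)))
    (U : X.affineOpens) (V : Y.affineOpens) (W : Z.affineOpens)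
    (hUV : (U : X.Opens) ≤ f ⁻¹ᵁ (V : Y.Opens)) (hVW : (V : Y.Opens) ≤ g ⁻¹ᵁ (W : Z.Opens)) :
    ∃ (k : ℕ) (φ : MvPolynomial (Fin k) Γ(Y, (V : Y.Opens)) →+* Γ(X, (U : X.Opens)))
      (_ : DerSch.IsChart f U V hUV φ) (P : CommRingCat.{u})
      (χ : P →+* Γ(X, (U : X.Opens))) (θ : P ⟶ CommRingCat.of (MvPolynomial (Fin k) Γ(Y, (V : Y.Opens)))),
      φ.comp θ.hom = χ ∧ Function.Surjective θ.hom ∧
        (∀ [IsClEmb (Spec.map θ)], PushAt (Spec.map θ) s) ∧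
        ∀ (a : ℤ) (E : DCoh.D X), SPC a E U χ ↔ PCOn (f ≫ g) a E (U : X.Opens) (W : Z.Opens) := by
  obtain ⟨k, φ, hφ⟩ := exists_chart hUV (f.finiteType_appLE V.2 U.2 hUV)
  obtain ⟨n, β, hβ⟩ := exists_chart hVW (g.finiteType_appLE W.2 V.2 hVW)
  let θ : MvPolynomial (Fin k) (MvPolynomial (Fin n) Γ(Z, (W : Z.Opens))) →+*
      MvPolynomial (Fin k) Γ(Y, (V : Y.Opens)) := MvPolynomial.map β
  have hθ : Function.Surjective θ := MvPolynomial.map_surjective β hβ.1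
  refine ⟨k, φ, hφ, _, φ.comp θ, CommRingCat.ofHom θ, rfl, hθ, ?_, fun a E => ?_⟩
  · intro hcl
    haveI := isClEmb_imm V.2 hβ.1
    exact pushAt_spec _ (pc_map_poly β k s
      ((spc_inD_iff QCoh.isQCoh_structureModule V.2 β s).1 (locPC_immD_of_rel hg V W hβ)))
  · have hle : (U : X.Opens) ≤ (f ≫ g) ⁻¹ᵁ (W : Z.Opens) := fun x hx => hVW (hUV hx)
    obtain ⟨l, ψ, hψ⟩ := exists_chart hle ((f ≫ g).finiteType_appLE W.2 U.2 hle)
    have hC : ∀ c, (φ.comp θ) (C (C c)) = ψ (C c) := fun c => by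
      have h1 : φ (θ (C (C c))) = (f.appLE (V : Y.Opens) (U : X.Opens) hUV).hom
          ((g.appLE (W : Z.Opens) (V : Y.Opens) hVW).hom c) := by
        rw [show θ (C (C c)) = C (β (C c)) from MvPolynomial.map_C β (C c), isChart_C hφ, isChart_C hβ]
      refine h1.trans (Eq.trans ?_ (isChart_C hψ c).symm)
      exact ConcreteCategory.congr_hom (Scheme.Hom.appLE_comp_appLE f g (W : Z.Opens) (V : Y.Opens)
        (U : X.Opens) hVW hUV) c
    refine (spc_poly₂_iff U.2 ψ hψ.1 (φ.comp θ) (hφ.1.comp hθ) hC).trans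
      ⟨pcOn_of_chart U.2 hψ, fun h => ?_⟩
    haveI := isClEmb_imm U.2 hψ.1
    exact (spc_iff_locPC ψ).2 (h.locPC hψ)

theorem rel_comp_of_bdd [LocallyOfFiniteType f] [LocallyOfFiniteType g] (a b : ℤ) (E : DCoh.D X)
    [E.IsLE b] (hab : a ≤ b + 1) (hE : DerSch.IsPseudoCoherentRel f a E)
    (hg : DerSch.IsPseudoCoherentRel g (a - b) (DCoh.inD Y (Coh.structureModule Y))) :
    DerSch.IsPseudoCoherentRel (f ≫ g) a E := by
  refine ⟨inferInstance, Set.univ, by simpa [iSup_univ] using iSup_affineOpens_eq_top Z, fun W _ => ?_⟩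
  refine ⟨{U | ∃ V : Y.affineOpens, (U : X.Opens) ≤ f ⁻¹ᵁ (V : Y.Opens) ∧
    (V : Y.Opens) ≤ g ⁻¹ᵁ (W : Z.Opens)}, le_antisymm (iSup₂_le ?_) fun x hx => ?_, fun U hU hle => ?_⟩
  · rintro U ⟨V, h1, h2⟩ x hx
    exact h2 (h1 hx)
  · obtain ⟨_, ⟨V, hV, rfl⟩, hxV, hVW⟩ := Y.isBasis_affineOpens.exists_subset_of_mem_open
      (show f.base x ∈ g ⁻¹ᵁ (W : Z.Opens) from hx) (g ⁻¹ᵁ (W : Z.Opens)).2
    obtain ⟨_, ⟨U, hU, rfl⟩, hxU, hUV⟩ := X.isBasis_affineOpens.exists_subset_of_mem_open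
      (show x ∈ f ⁻¹ᵁ V from hxV) (f ⁻¹ᵁ V).2
    simp only [Opens.mem_iSup]
    exact ⟨⟨U, hU⟩, ⟨⟨V, hV⟩, hUV, hVW⟩, hxU⟩
  · obtain ⟨V, hUV, hVW⟩ := hU
    obtain ⟨k, φ, hφ, P, χ, θ, rfl, hθ, hpush, hiff⟩ := exists_charts (f := f) hg U V W hUV hVW
    obtain ⟨l, ψ, hψ⟩ := exists_chart hle ((f ≫ g).finiteType_appLE W.2 U.2 hle)
    refine ⟨l, ψ, hψ, ((hiff a E).1 ?_).chartPC U.2 hψ⟩
    haveI := isClEmb_imm U.2 hφ.1
    haveI := isClEmb_imm U.2 (χ := φ.comp θ.hom) (hφ.1.comp hθ)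
    haveI : IsClosedImmersion (Spec.map θ) := IsClosedImmersion.spec_of_surjective _ hθ
    refine (spc_iff_locPC _).2 (LocPC.of_iso (pDComp (imm (U : X.Opens) φ) (Spec.map θ) _
      (imm_comp φ θ.hom) ((rho (U : X.Opens).ι).obj E)) ?_)
    refine locPC_push_bdd a (b + 1 - a).toNat _ (hpush.mono (by omega)) _ (fun i hi => ?_)
      (locPC_immD_of_rel hE U V hφ)
    exact ((Scheme.Modules.pushforward _).map_isZero ((Scheme.Modules.restrictFunctor _).map_isZero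
      (DerivedCategory.isZero_of_isLE E b i (by omega)))).of_iso (hdImmDIso _ φ E i)

theorem rel_of_comp_of_bdd [LocallyOfFiniteType f] [LocallyOfFiniteType g] (a b : ℤ) (E : DCoh.D X)
    [E.IsLE b] (hE : DerSch.IsPseudoCoherentRel (f ≫ g) a E)
    (hg : DerSch.IsPseudoCoherentRel g (a + 1 - b) (DCoh.inD Y (Coh.structureModule Y))) :
    DerSch.IsPseudoCoherentRel f a E := by
  refine ⟨inferInstance, {V | ∃ W : Z.affineOpens, (V : Y.Opens) ≤ g ⁻¹ᵁ (W : Z.Opens)}, ?_, fun V hV => ?_⟩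
  · refine top_le_iff.1 fun y _ => ?_
    obtain ⟨_, ⟨W, hW, rfl⟩, hyW, -⟩ := Z.isBasis_affineOpens.exists_subset_of_mem_open
      (show g.base y ∈ (⊤ : Z.Opens) from trivial) (⊤ : Z.Opens).2
    obtain ⟨_, ⟨V, hV, rfl⟩, hyV, hVW⟩ := Y.isBasis_affineOpens.exists_subset_of_mem_open
      (show y ∈ g ⁻¹ᵁ W from hyW) (g ⁻¹ᵁ W).2
    simp only [Opens.mem_iSup]
    exact ⟨⟨V, hV⟩, ⟨⟨W, hW⟩, hVW⟩, hyV⟩
  obtain ⟨W, hVW⟩ := hV
  refine ⟨{U | (U : X.Opens) ≤ f ⁻¹ᵁ (V : Y.Opens)}, le_antisymm (iSup₂_le fun U hU => hU) fun x hx => ?_,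
    fun U hUV hle => ?_⟩
  · obtain ⟨_, ⟨U, hU, rfl⟩, hxU, hUV⟩ := X.isBasis_affineOpens.exists_subset_of_mem_open
      (show x ∈ f ⁻¹ᵁ (V : Y.Opens) from hx) (f ⁻¹ᵁ (V : Y.Opens)).2
    simp only [Opens.mem_iSup]
    exact ⟨⟨U, hU⟩, hUV, hxU⟩
  obtain ⟨k, φ, hφ, P, χ, θ, rfl, hθ, hpush, hiff⟩ := exists_charts (f := f) hg U V W hle hVW
  haveI := isClEmb_imm U.2 hφ.1
  refine ⟨k, φ, hφ, (chartPC_iff φ (isClEmb_imm U.2 hφ.1) E).2 ((spc_iff_locPC φ).2 ?_)⟩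
  have hz : ∀ i, b < i → IsZero (DCoh.HD ((immD (U : X.Opens) φ).obj E) i) := fun i hi =>
    ((Scheme.Modules.pushforward _).map_isZero ((Scheme.Modules.restrictFunctor _).map_isZero
      (DerivedCategory.isZero_of_isLE E b i hi))).of_iso (hdImmDIso _ φ E i)
  rcases lt_or_ge b a with hba | hba
  · exact locPC_of_isZero a _ fun i hi => hz i (by omega)
  haveI := isClEmb_imm U.2 (χ := φ.comp θ.hom) (hφ.1.comp hθ)
  haveI : IsClosedImmersion (Spec.map θ) := IsClosedImmersion.spec_of_surjective _ hθ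
  refine locPC_of_push_bdd a (b + 1 - a).toNat (Spec.map θ) (hpush.mono (by omega)) _
    (fun i hi => hz i (by omega)) ?_
  exact LocPC.of_iso (pDComp (imm (U : X.Opens) φ) (Spec.map θ) _
    (imm_comp φ θ.hom) ((rho (U : X.Opens).ι).obj E)).symm
    ((spc_iff_locPC _).1 ((hiff a E).2
      (pcOn_of_isPseudoCoherentRel hE U.2 W.2 fun x hx => hVW (hle hx))))

theorem nPseudoCoherent_comp [LocallyOfFiniteType f] [LocallyOfFiniteType g] (r s : ℤ)
    (hf : DerSch.IsPseudoCoherentRel f r (DCoh.inD X (Coh.structureModule X)))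
    (hg : DerSch.IsPseudoCoherentRel g s (DCoh.inD Y (Coh.structureModule Y))) :
    DerSch.IsPseudoCoherentRel (f ≫ g) (max r s) (DCoh.inD X (Coh.structureModule X)) := by
  rcases lt_or_ge 1 (max r s) with h | h
  · exact rel_single_pos (by omega)
  haveI : (DCoh.inD X (Coh.structureModule X)).IsLE 0 :=
    inferInstanceAs (((DerivedCategory.singleFunctor X.Modules 0).obj _).IsLE 0)
  exact rel_comp_of_bdd _ 0 _ (by omega) (rel_mono (le_max_left r s) hf)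
    (rel_mono (by simp) hg)

end Groth.Agent.RelPC65
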