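import Groth.Prelude.Def_DRing2
import Mathlib

/-!
# Restriction along epimorphisms of rings is full
-/

set_option linter.style.haveILetI false
set_option backward.isDefEq.respectTransparency false
set_option backward.isDefEq.respectTransparency.types false

universe u

open CategoryTheory CategoryTheory.Limits TensorProduct

namespace Groth.Agent.RelPC65

/-- Maps linear over the source of a ring epimorphism are linear over the target. -/
theorem full_restrictScalars {R S : Type u} [CommRing R] [CommRing S] (φ : R →+* S)
    (hφ : Epi (CommRingCat.ofHom φ)) : (ModuleCat.restrictScalars.{u} φ).Full := by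
  letI := φ.toAlgebra
  haveI : Algebra.IsEpi R S := CommRingCat.epi_iff_epi.mp (show Epi (CommRingCat.ofHom (algebraMap R S)) from hφ)
  refine ⟨fun {M N} g => ?_⟩
  letI : Module R M := Module.compHom M φ
  letI : Module R N := Module.compHom N φ
  haveI : IsScalarTower R S M := IsScalarTower.of_algebraMap_smul fun _ _ => rfl
  haveI : IsScalarTower R S N := IsScalarTower.of_algebraMap_smul fun _ _ => rfl
  let g' : M →ₗ[R] N := { toFun := g.hom, map_add' := map_add g.hom, map_smul' := fun r x => g.hom.map_smul r x }
  have key : ∀ (s : S) (m : M), g' (s • m) = s • g' m := fun s m => by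
    let b : S →ₗ[R] S →ₗ[R] N := LinearMap.mk₂ R (fun a c => a • g' (c • m))
      (fun a a' c => add_smul a a' _)
      (fun r a c => smul_assoc r a _)
      (fun a c c' => by rw [add_smul, map_add, smul_add])
      (fun r a c => by rw [smul_assoc, map_smul, smul_comm])
    have h : (1 : S) ⊗ₜ[R] s = s ⊗ₜ[R] 1 := (Algebra.isEpi_iff_forall_one_tmul_eq R S).1 inferInstance s
    simpa [b] using congrArg (TensorProduct.lift b) h
  exact ⟨ModuleCat.ofHom { toFun := g.hom, map_add' := map_add g.hom, map_smul' := key }, rfl⟩

/-- A homotopy can be pulled back along a fully faithful additive functor. -/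
noncomputable def homotopyOfMap {C D : Type*} [Category C] [Category D] [Preadditive C] [Preadditive D]
    {ι : Type*} {c : ComplexShape ι} (F : C ⥤ D) [F.Additive] [F.Full] [F.Faithful]
    {K L : HomologicalComplex C c} (f : K ⟶ L)
    (h : Homotopy ((F.mapHomologicalComplex c).map f) 0) : Homotopy f 0 where
  hom i j := F.preimage (h.hom i j)
  zero i j hij := F.map_injective (by rw [F.map_preimage, h.zero i j hij, F.map_zero])
  comm i := F.map_injective <| by
    have hi := h.comm i
    simp only [HomologicalComplex.zero_f, add_zero] at hi ⊢
    rw [F.map_add]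
    refine hi.trans ?_
    congr 1
    · simp [dNext, fromNext]
    · simp [prevD, toPrev]

end Groth.Agent.RelPC65
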