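import Groth.Prelude.Def_DerSch
import Groth.Agent.KFlatLib.Scheme.Exact
import Groth.Agent.KFlatLib.Scheme.PullCx
import Groth.Agent.KFlatLib.Scheme.LpullComp
import Groth.Agent.KFlatLib.Perfect.LocFree
import Groth.Agent.H9Misc.DRingTorLTensor
import Groth.Agent.H9Misc.DRingTorLocal
import Groth.Agent.H9Misc.DRingTorRestrict
import Groth.Agent.H9Misc.DRingRelPC

/-! # Stalkwise tor amplitude of composites and derived tensor products -/

set_option autoImplicit false
set_option linter.style.haveILetI false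

universe u

open CategoryTheory CategoryTheory.Limits AlgebraicGeometry MonoidalCategory
open CategoryTheory.Pretriangulated

attribute [local instance] HasDerivedCategory.standard

namespace Groth.Agent.RelPC65

open Groth.Agent.KFlatLib Groth.Agent.H9Misc Groth.Agent.H9Misc.DRingLTensor
open Groth.Agent.H9Misc.DRingTorDescent

section Abstract

variable {C D : Type (u + 1)} [Category.{u} C] [Category.{u} D] [Abelian C] [Abelian D]

/-- An exact functor applied to an isomorphism in the derived category. -/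
noncomputable def qMapIso (F : C ⥤ D) [F.Additive] [PreservesFiniteLimits F]
    [PreservesFiniteColimits F] {E E' : CochainComplex C ℤ}
    (e : DerivedCategory.Q.obj E ≅ DerivedCategory.Q.obj E') :
    DerivedCategory.Q.obj ((F.mapHomologicalComplex (ComplexShape.up ℤ)).obj E) ≅
      DerivedCategory.Q.obj ((F.mapHomologicalComplex (ComplexShape.up ℤ)).obj E') :=
  (F.mapDerivedCategoryFactors.app E).symm ≪≫ F.mapDerivedCategory.mapIso e ≪≫
    F.mapDerivedCategoryFactors.app E'

end Abstract

section Ring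

variable {A B : Type u} [CommRing A] [CommRing B]

/-- Tensoring with a K-flat complex respects isomorphisms in the derived category. -/
noncomputable def qTensorIso {X X' P : DRing.Cx B} (hP : IsKF P)
    (e : DerivedCategory.Q.obj X ≅ DerivedCategory.Q.obj X') :
    DerivedCategory.Q.obj
        (((curriedTensor (ModuleCat.{u} B)).map₂CochainComplex.obj X).obj P) ≅
      DerivedCategory.Q.obj
        (((curriedTensor (ModuleCat.{u} B)).map₂CochainComplex.obj X').obj P) := by
  let Φ := (curriedTensor (ModuleCat.{u} B)).map₂CochainComplex.flip.obj P ⋙ DerivedCategory.Q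
  have hΦ : (HomologicalComplex.quasiIso (ModuleCat.{u} B) (ComplexShape.up ℤ)).IsInvertedBy Φ :=
    fun K K' s hs => by
      haveI : QuasiIso s := hs
      haveI : QuasiIso (((curriedTensor (ModuleCat.{u} B)).map₂CochainComplex.map s).app P) :=
        hP.quasiIso_map s
      exact (DerivedCategory.isIso_Q_map_iff_quasiIso _ _).2 this
  exact ((Localization.fac Φ hΦ DerivedCategory.Q).app X).symm ≪≫
    (Localization.lift Φ hΦ DerivedCategory.Q).mapIso e ≪≫
    (Localization.fac Φ hΦ DerivedCategory.Q).app X'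

/-- The amplitude of `X ⊗_B P` over `A`, for `P` K-flat. -/
lemma hasTorAmplitudeIn_tensor_res (φ : A →+* B) {a b c d : ℤ} (X P : DRing.Cx B) (hP : IsKF P)
    (hX : DRing.HasTorAmplitudeIn B a b (DRing.toD X))
    (hL : DRing.HasTorAmplitudeIn A c d (DRing.toD ((DRing.restrictCx φ).obj P))) :
    DRing.HasTorAmplitudeIn A (a + c) (b + d) (DRing.toD ((DRing.restrictCx φ).obj
      (((curriedTensor (ModuleCat.{u} B)).map₂CochainComplex.obj X).obj P))) := by
  obtain ⟨E, hz, hf, ⟨e⟩⟩ := hX
  exact DRingTor.of_iso (qMapIso (ModuleCat.restrictScalars φ) (qTensorIso hP e))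
    (DRingTorLTensor.hasTorAmplitudeIn_tensor φ E P hz hf hL)

/-- The projection formula on complexes. -/
noncomputable def projIso (ψ : A →+* B) (L : DRing.Cx B) (P : DRing.Cx A) :
    ((ModuleCat.restrictScalars ψ).mapHomologicalComplex (ComplexShape.up ℤ)).obj
        (((curriedTensor (ModuleCat.{u} B)).map₂CochainComplex.obj L).obj
          (((ModuleCat.extendScalars ψ).mapHomologicalComplex (ComplexShape.up ℤ)).obj P)) ≅
      ((curriedTensor (ModuleCat.{u} A)).map₂CochainComplex.obj
        (((ModuleCat.restrictScalars ψ).mapHomologicalComplex (ComplexShape.up ℤ)).obj L)).obj P :=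
  let e₁ : (((curriedTensor (ModuleCat.{u} B)).map₂CochainComplex.obj
      (((𝟭 (ModuleCat.{u} B)).mapHomologicalComplex (ComplexShape.up ℤ)).obj L)).obj
        (((ModuleCat.extendScalars ψ).mapHomologicalComplex (ComplexShape.up ℤ)).obj P)) ≅
      ((𝟭 (ModuleCat.{u} B)).mapHomologicalComplex (ComplexShape.up ℤ)).obj
        (((extT ψ).map₂CochainComplex.obj L).obj P) :=
    totalMapIso (Φ₁ := 𝟭 (ModuleCat.{u} B)) (Φ₂ := ModuleCat.extendScalars ψ)
      (Ψ := 𝟭 (ModuleCat.{u} B)) (T := extT ψ) (T' := curriedTensor (ModuleCat.{u} B))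
      (Iso.refl _) L P
  ((ModuleCat.restrictScalars ψ).mapHomologicalComplex (ComplexShape.up ℤ)).mapIso e₁ ≪≫
    (totalMapIso (extTIso ψ) L P).symm

/-- Restricted scalar extension is tensoring with the algebra. -/
noncomputable def resExtIso (ψ : A →+* B) (P : DRing.Cx A) :
    ((ModuleCat.restrictScalars ψ).mapHomologicalComplex (ComplexShape.up ℤ)).obj
        (((ModuleCat.extendScalars ψ).mapHomologicalComplex (ComplexShape.up ℤ)).obj P) ≅
      ((curriedTensor (ModuleCat.{u} A)).map₂CochainComplex.obj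
        ((HomologicalComplex.single (ModuleCat.{u} A) (ComplexShape.up ℤ) 0).obj (resB ψ))).obj P :=
  (HomologicalComplex.Hom.isoOfComponents
      (C₂ := (tensC (resB ψ)).obj P)
      (fun n => ((DRingTorLocal.extResIso ψ).app (P.X n)).symm)
      (fun p q _ => ((DRingTorLocal.extResIso ψ).inv.naturality (P.d p q)).symm)) ≪≫
    ((singleIso (curriedTensor (ModuleCat.{u} A)) (resB ψ)).app P).symm ≪≫
    ((symmIso curriedTensorFlipIso
      ((HomologicalComplex.single (ModuleCat.{u} A) (ComplexShape.up ℤ) 0).obj (resB ψ))).app P)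

end Ring

section Scheme

variable {X Y Z : Scheme.{u}} (f : X ⟶ Y) (g : Y ⟶ Z)

/-- The stalk over the base of a composite. -/
noncomputable def stalkCompIso (x : X) :
    DerSch.stalkOver (f ≫ g) x ≅
      DerSch.stalkOver f x ⋙ ModuleCat.restrictScalars (g.stalkMap (f.base x)).hom :=
  Functor.isoWhiskerLeft _ (ModuleCat.restrictScalarsComp'.{u} (g.stalkMap (f.base x)).hom
    (f.stalkMap x).hom ((f ≫ g).stalkMap x).hom
      (by rw [Scheme.Hom.stalkMap_comp]; rfl)) ≪≫ (Functor.associator _ _ _).symm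

/-- The stalk complex over the base of a composite. -/
noncomputable def stalkCxCompIso (x : X) (E : CochainComplex X.Modules ℤ) :
    (DerSch.stalkCxOver (f ≫ g) x).obj E ≅
      (DRing.restrictCx (g.stalkMap (f.base x)).hom).obj ((DerSch.stalkCxOver f x).obj E) :=
  HomologicalComplex.Hom.isoOfComponents (fun i => (stalkCompIso f g x).app (E.X i))
    (fun i j _ => ((stalkCompIso f g x).hom.naturality (E.d i j)).symm)

/-- Tor amplitude of stalks does not depend on the representative. -/
lemma hasTorAmplitudeAt_of_iso {E E' : CochainComplex X.Modules ℤ} {a b : ℤ} {x : X}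
    (e : DCoh.toD X E ≅ DCoh.toD X E') (h : DerSch.HasTorAmplitudeAt f a b E x) :
    DerSch.HasTorAmplitudeAt f a b E' x :=
  DRingTor.of_iso (qMapIso (DerSch.stalkOver f x) e) h

lemma hasTorAmplitude_of_iso {E E' : CochainComplex X.Modules ℤ} {a b : ℤ}
    (e : DCoh.toD X E ≅ DCoh.toD X E') (h : DerSch.HasTorAmplitude f a b E) :
    DerSch.HasTorAmplitude f a b E' :=
  fun x => hasTorAmplitudeAt_of_iso f e (h x)

/-- One representative is enough. -/
lemma hasTorAmplitudeD_of_rep {K : DCoh.D X} {E : CochainComplex X.Modules ℤ} {a b : ℤ}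
    (e : DCoh.toD X E ≅ K) (h : DerSch.HasTorAmplitude f a b E) :
    DerSch.HasTorAmplitudeD f a b K :=
  fun _ ⟨e'⟩ => hasTorAmplitude_of_iso f (e ≪≫ e'.symm) h

/-- The stalk of the structure sheaf as a module. -/
noncomputable def stalkStructureIso (x : X) :
    (DerSch.stalkFunctor X x).obj (Coh.structureModule X) ≅
      ModuleCat.of (X.presheaf.stalk x) (X.presheaf.stalk x) :=
  (stalkToPIso x).app _ ≪≫ (stalkUnitEquiv x).symm.toModuleIso

/-- The stalk complex of the structure sheaf. -/
noncomputable def stalkUnitCxIso (x : X) :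
    (DerSch.stalkCxOver f x).obj (DerSch.unitCx X) ≅
      (HomologicalComplex.single (ModuleCat.{u} (Y.presheaf.stalk (f.base x))) (ComplexShape.up ℤ)
        0).obj (resB (f.stalkMap x).hom) :=
  (HomologicalComplex.singleMapHomologicalComplex (DerSch.stalkOver f x) (ComplexShape.up ℤ) 0).app
      (Coh.structureModule X) ≪≫
    (HomologicalComplex.single _ _ 0).mapIso
      ((ModuleCat.restrictScalars (f.stalkMap x).hom).mapIso (stalkStructureIso x))

/-- Composition with a morphism of finite tor dimension. -/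
lemma hasTorAmplitudeAt_comp {n : ℕ} (hg : DerSch.HasTorDimLE g n)
    {F : CochainComplex X.Modules ℤ} {a b : ℤ} {x : X} (hF : DerSch.HasTorAmplitudeAt f a b F x) :
    DerSch.HasTorAmplitudeAt (f ≫ g) (a - n) b F x := by
  letI := (g.stalkMap (f.base x)).hom.toAlgebra
  have hB := DRingTor.of_iso (DerivedCategory.Q.mapIso (stalkUnitCxIso g (f.base x) ≪≫
    (HomologicalComplex.single _ _ 0).mapIso (resBIso (A := Z.presheaf.stalk (g.base (f.base x)))
      (Y.presheaf.stalk (f.base x)))) ≪≫
    ((DerivedCategory.singleFunctorIsoCompQ _ 0).app _).symm) (hg (f.base x))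
  refine DRingTor.of_iso ?_ (DRingTor.hasTorAmplitudeIn_restrictScalars n hB _ a b hF)
  exact ((ModuleCat.restrictScalars (g.stalkMap (f.base x)).hom).mapDerivedCategoryFactors.app _) ≪≫
    DerivedCategory.Q.mapIso (stalkCxCompIso f g x F).symm

/-- The same at all points. -/
lemma hasTorAmplitude_comp {n : ℕ} (hg : DerSch.HasTorDimLE g n)
    {F : CochainComplex X.Modules ℤ} {a b : ℤ} (hF : DerSch.HasTorAmplitude f a b F) :
    DerSch.HasTorAmplitude (f ≫ g) (a - n) b F := fun x =>
  hasTorAmplitudeAt_comp f g hg (hF x)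

/-- The stalk complex of a pullback restricted to the base. -/
noncomputable def stalkPullOverIso (x : X) (K : CochainComplex Y.Modules ℤ) :
    (DerSch.stalkCxOver f x).obj ((pullCx f).obj K) ≅
      ((curriedTensor (ModuleCat.{u} (Y.presheaf.stalk (f.base x)))).map₂CochainComplex.obj
        ((DerSch.stalkCxOver f x).obj (DerSch.unitCx X))).obj ((stalkCx (f.base x)).obj K) :=
  ((ModuleCat.restrictScalars (f.stalkMap x).hom).mapHomologicalComplex (ComplexShape.up ℤ)).mapIso
      (stalkPullCxIso f x K) ≪≫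
    resExtIso (f.stalkMap x).hom ((stalkCx (f.base x)).obj K) ≪≫
    ((curriedTensor (ModuleCat.{u} (Y.presheaf.stalk (f.base x)))).map₂CochainComplex.mapIso
      (stalkUnitCxIso f x).symm).app _

/-- The stalk complex of a pullback tensored with a complex, restricted to the base. -/
noncomputable def stalkTensorPullOverIso (x : X) (F : CochainComplex X.Modules ℤ)
    (K : CochainComplex Y.Modules ℤ) :
    (DerSch.stalkCxOver f x).obj ((DCoh.tensorCx.obj ((pullCx f).obj K)).obj F) ≅
      ((curriedTensor (ModuleCat.{u} (Y.presheaf.stalk (f.base x)))).map₂CochainComplex.obj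
        ((DerSch.stalkCxOver f x).obj F)).obj ((stalkCx (f.base x)).obj K) :=
  ((ModuleCat.restrictScalars (f.stalkMap x).hom).mapHomologicalComplex (ComplexShape.up ℤ)).mapIso
      ((stalkTensorCxIso x ((pullCx f).obj K) F).symm ≪≫
        ((symmIso curriedTensorFlipIso ((stalkCx x).obj F)).app
          ((stalkCx x).obj ((pullCx f).obj K))) ≪≫
        ((curriedTensor (ModuleCat.{u} (X.presheaf.stalk x))).map₂CochainComplex.obj
          ((stalkCx x).obj F)).mapIso (stalkPullCxIso f x K)) ≪≫
    projIso (f.stalkMap x).hom ((stalkCx x).obj F) ((stalkCx (f.base x)).obj K)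

/-- The flat resolution has the same amplitude. -/
lemma hasTorAmplitude_kRes {G : CochainComplex Y.Modules ℤ} {c d : ℤ}
    (hG : DerSch.HasTorAmplitude g c d G) :
    DerSch.HasTorAmplitude g c d ((kRes Y).obj G) :=
  hasTorAmplitude_of_iso g ((resQIso Y).app G).symm hG

/-- Amplitude of `f^*K ⊗ F` for K-flat `K`. -/
lemma hasTorAmplitude_tensorPull {F : CochainComplex X.Modules ℤ} {K : CochainComplex Y.Modules ℤ}
    (hK : DCoh.IsKFlat K) {a b c d : ℤ} (hF : DerSch.HasTorAmplitude f a b F)
    (hG : DerSch.HasTorAmplitude g c d K) :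
    DerSch.HasTorAmplitude (f ≫ g) (a + c) (b + d)
      ((DCoh.tensorCx.obj ((pullCx f).obj K)).obj F) := fun x =>
  DRingTor.of_iso
    (DerivedCategory.Q.mapIso
      ((DRing.restrictCx (g.stalkMap (f.base x)).hom).mapIso (stalkTensorPullOverIso f x F K).symm ≪≫
        (stalkCxCompIso f g x _).symm))
    (hasTorAmplitudeIn_tensor_res (g.stalkMap (f.base x)).hom _ _
      ((kFlat_iff_stalk K).1 hK (f.base x)) (hF x) (hG (f.base x)))

/-- Amplitude of `f^*K` for K-flat `K`. -/
lemma hasTorAmplitude_pull {K : CochainComplex Y.Modules ℤ}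
    (hK : DCoh.IsKFlat K) {a b c d : ℤ} (hf : DerSch.HasTorAmplitude f a b (DerSch.unitCx X))
    (hG : DerSch.HasTorAmplitude g c d K) :
    DerSch.HasTorAmplitude (f ≫ g) (a + c) (b + d) ((pullCx f).obj K) := fun x =>
  DRingTor.of_iso
    (DerivedCategory.Q.mapIso
      ((DRing.restrictCx (g.stalkMap (f.base x)).hom).mapIso (stalkPullOverIso f x K).symm ≪≫
        (stalkCxCompIso f g x _).symm))
    (hasTorAmplitudeIn_tensor_res (g.stalkMap (f.base x)).hom _ _
      ((kFlat_iff_stalk K).1 hK (f.base x)) (hf x) (hG (f.base x)))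

/-- `Lf^*` on a resolution. -/
noncomputable def lpullObjIso [DCoh.HasLpull f] (G : CochainComplex Y.Modules ℤ) :
    DCoh.toD X ((pullCx f).obj ((kRes Y).obj G)) ≅ (DCoh.Lpull f).obj (DCoh.toD Y G) :=
  ((lpullResIso f).app G).symm

/-- Amplitude of `Lf^* G`. -/
lemma hasTorAmplitudeD_lpull [DCoh.HasLpull f] {G : CochainComplex Y.Modules ℤ}
    {m : ℕ} {c d : ℤ} (hf : DerSch.HasTorDimLE f m) (hG : DerSch.HasTorAmplitude g c d G) :
    DerSch.HasTorAmplitudeD (f ≫ g) (c - m) d ((DCoh.Lpull f).obj (DCoh.toD Y G)) := by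
  refine hasTorAmplitudeD_of_rep _ (lpullObjIso f G) ?_
  have h := hasTorAmplitude_pull f g (isKFlat_kRes G) hf (hasTorAmplitude_kRes g hG)
  rwa [zero_add, neg_add_eq_sub] at h

/-- Amplitude of `Lf^* G ⊗^L F`. -/
lemma hasTorAmplitudeD_ltensor_lpull [DCoh.HasLpull f] {F : CochainComplex X.Modules ℤ}
    [DCoh.HasLTensorCx F] {G : CochainComplex Y.Modules ℤ} {a b c d : ℤ}
    (hF : DerSch.HasTorAmplitude f a b F) (hG : DerSch.HasTorAmplitude g c d G) :
    DerSch.HasTorAmplitudeD (f ≫ g) (a + c) (b + d)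
      ((DCoh.LTensorCx F).obj ((DCoh.Lpull f).obj (DCoh.toD Y G))) := by
  haveI := isIso_LTensorCx_counit F (isKFlat_pullback f (isKFlat_kRes G))
  refine hasTorAmplitudeD_of_rep _ ?_
    (hasTorAmplitude_tensorPull f g (isKFlat_kRes G) hF (hasTorAmplitude_kRes g hG))
  exact (asIso (((DCoh.tensorCxQ F).totalLeftDerivedCounit DerivedCategory.Q (qisX X)).app
      ((pullCx f).obj ((kRes Y).obj G)))).symm ≪≫
    (DCoh.LTensorCx F).mapIso (lpullObjIso f G)

end Scheme

end Groth.Agent.RelPC65
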