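import Groth.Prelude.Def_DerSch2
import Groth.Agent.RelPC65.Comp
import Groth.Agent.RelPC65.StalkTor
import Groth.Agent.RelPC13.FppfCover
import Groth.Agent.KFlatLib.Scheme.QCohDerived

/-!
# Relative pseudo-coherence and derived pullback along pseudo-coherent morphisms
-/

set_option autoImplicit false
set_option linter.style.haveILetI false
set_option backward.isDefEq.respectTransparency false
set_option backward.isDefEq.respectTransparency.types false

universe u

open CategoryTheory CategoryTheory.Limits AlgebraicGeometry TopologicalSpace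
open Groth.Agent.KFlatLib Groth.Agent.RelPC13 Groth.Agent.H9Misc

attribute [local instance] HasDerivedCategory.standard

namespace Groth.Agent.RelPC65

variable {X Y Z : Scheme.{u}} {f : X ⟶ Y} {g : Y ⟶ Z}

/-- The ring maps of a pseudo-coherent morphism are pseudo-coherent. -/
lemma q_appLE [LocallyOfFiniteType f]
    (hf : ∀ n : ℤ, DerSch.IsPseudoCoherentRel f n (DCoh.inD X (Coh.structureModule X)))
    {U : X.Opens} (hU : IsAffineOpen U) {V : Y.Opens} (hV : IsAffineOpen V) (hUV : U ≤ f ⁻¹ᵁ V) :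
    PCMor.Q (f.appLE V U hUV).hom := by
  obtain ⟨k, φ, hφ⟩ := exists_chart hUV (f.finiteType_appLE hV hU hUV)
  refine ⟨k, φ, hφ.2, hφ.1, (DRingPC.pc'_iff _).2 fun m => ?_⟩
  haveI := isClEmb_imm hU hφ.1
  exact (spc_inD_iff QCoh.isQCoh_structureModule hU φ m).1
    (locPC_immD_of_rel (hf m) ⟨U, hU⟩ ⟨V, hV⟩ hφ)

/-- Derived pullback along a pseudo-coherent morphism, on a pair of affine opens. -/
theorem pcOn_lpull_comp [LocallyOfFiniteType f] [LocallyOfFiniteType g] [DCoh.HasLpull f]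
    (hf : ∀ n : ℤ, DerSch.IsPseudoCoherentRel f n (DCoh.inD X (Coh.structureModule X)))
    {E : DCoh.D Y} (hE : DCoh.IsQCohD E) {m : ℤ} {U : X.Opens} (hU : IsAffineOpen U)
    {V : Y.Opens} (hV : IsAffineOpen V) (hUV : U ≤ f ⁻¹ᵁ V) {W : Z.Opens} (hW : IsAffineOpen W)
    (hVW : V ≤ g ⁻¹ᵁ W) (hp : PCOn g m E V W) :
    PCOn (f ≫ g) m ((DCoh.Lpull f).obj E) U W := by
  haveI : PreservesFiniteLimits (tilde.functor Γ(Y, V)) := QCoh.tilde_preservesFiniteLimits
  haveI : PreservesFiniteLimits (tilde.functor Γ(X, U)) := QCoh.tilde_preservesFiniteLimits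
  have h' : U ≤ (f ≫ g) ⁻¹ᵁ W := fun x hx => hVW (hUV hx)
  letI : Algebra Γ(Y, V) Γ(X, U) := (f.appLE V U hUV).hom.toAlgebra
  haveI : DRing.HasLBaseChange (algebraMap Γ(Y, V) Γ(X, U)) := DRingLBase.hasLBaseChange _
  haveI : DRing.HasLBaseChange (f.appLE V U hUV).hom := DRingLBase.hasLBaseChange _
  obtain ⟨M, ⟨eM⟩⟩ := exists_sections_model hE hV
  obtain ⟨eM'⟩ := nonempty_lpull_model_iso f E hV hU hUV M eM
  letI : Algebra Γ(Z, W) Γ(Y, V) := (g.appLE W V hVW).hom.toAlgebra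
  letI : Algebra Γ(Z, W) Γ(X, U) := ((f ≫ g).appLE W U h').hom.toAlgebra
  haveI : IsScalarTower Γ(Z, W) Γ(Y, V) Γ(X, U) := IsScalarTower.of_algebraMap_eq fun a => by
    show ((f ≫ g).appLE W U h') a = (g.appLE W V hVW ≫ f.appLE V U hUV) a
    rw [Scheme.Hom.appLE_comp_appLE]
  refine (pcOn_iff_ring hU hW h' m _ eM').2 ?_
  exact rel_lbase (R := Γ(Z, W)) (A := Γ(Y, V)) (B := Γ(X, U)) (q_appLE hf hU hV hUV)
    ((pcOn_iff_ring hV hW hVW m M eM).1 hp)

/-- Derived pullback along a pseudo-coherent morphism preserves relative pseudo-coherence. -/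
theorem rel_lpull_comp [LocallyOfFiniteType f] [LocallyOfFiniteType g] [DCoh.HasLpull f]
    (hf : ∀ n : ℤ, DerSch.IsPseudoCoherentRel f n (DCoh.inD X (Coh.structureModule X)))
    {E : DCoh.D Y} (hE : DCoh.IsQCohD E) {m : ℤ} (hg : DerSch.IsPseudoCoherentRel g m E) :
    DerSch.IsPseudoCoherentRel (f ≫ g) m ((DCoh.Lpull f).obj E) := by
  refine ⟨inferInstance, Set.univ, by simpa [iSup_univ] using iSup_affineOpens_eq_top Z, fun W _ => ?_⟩
  refine ⟨{U | ∃ V : Y.affineOpens, (U : X.Opens) ≤ f ⁻¹ᵁ (V : Y.Opens) ∧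
    (V : Y.Opens) ≤ g ⁻¹ᵁ (W : Z.Opens)}, le_antisymm (iSup₂_le ?_) fun x hx => ?_, fun U hU hle => ?_⟩
  · rintro U ⟨V, h1, h2⟩ x hx
    exact h2 (h1 hx)
  · obtain ⟨_, ⟨V, hV, rfl⟩, hxV, hVW⟩ := Y.isBasis_affineOpens.exists_subset_of_mem_open
      (show f.base x ∈ g ⁻¹ᵁ (W : Z.Opens) from hx) (g ⁻¹ᵁ (W : Z.Opens)).2
    obtain ⟨_, ⟨U, hU, rfl⟩, hxU, hUV⟩ := X.isBasis_affineOpens.exists_subset_of_mem_open
      (show x ∈ f ⁻¹ᵁ V from hxV) (f ⁻¹ᵁ V).2
    simp only [Opens.mem_iSup]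
    exact ⟨⟨U, hU⟩, ⟨⟨V, hV⟩, hUV, hVW⟩, hxU⟩
  · obtain ⟨V, hUV, hVW⟩ := hU
    obtain ⟨l, ψ, hψ⟩ := exists_chart hle ((f ≫ g).finiteType_appLE W.2 U.2 hle)
    exact ⟨l, ψ, hψ, (pcOn_lpull_comp hf hE U.2 V.2 hUV W.2 hVW
      (pcOn_of_isPseudoCoherentRel hg V.2 W.2 hVW)).chartPC U.2 hψ⟩

/-- Relatively pseudo-coherent objects have quasi-coherent cohomology. -/
lemma isQCohD_of_relAll {E : DCoh.D Y} (hg : DerSch.IsPseudoCoherentRelAll g E) :
    DCoh.IsQCohD E :=
  fun i => rel_isQCoh_HD (hg (i - 1)) i (by omega)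

/-- The unit complex is the structure sheaf in degree `0`. -/
noncomputable def unitDIso (X : Scheme.{u}) :
    DCoh.toD X (DerSch.unitCx X) ≅ DCoh.inD X (Coh.structureModule X) :=
  ((DerivedCategory.singleFunctorIsoCompQ X.Modules 0).app (Coh.structureModule X)).symm

lemma relAll_inD (hf : DerSch.IsPseudoCoherentRelAll f (DCoh.toD X (DerSch.unitCx X))) (n : ℤ) :
    DerSch.IsPseudoCoherentRel f n (DCoh.inD X (Coh.structureModule X)) :=
  rel_of_iso (unitDIso X) (hf n)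

/-- Vanishing of cohomology outside the tor amplitude. -/
lemma exactAt_of_hasTorAmplitude {F : CochainComplex X.Modules ℤ} {a b : ℤ}
    (hF : DerSch.HasTorAmplitude f a b F) {i : ℤ} (hi : i < a ∨ b < i) : F.ExactAt i := by
  refine (exact_iff_stalk _).2 fun x => ?_
  obtain ⟨E, hz, -, ⟨e⟩⟩ := hF x
  refine (ShortComplex.exact_map_iff_of_faithful _ (ModuleCat.restrictScalars (f.stalkMap x).hom)).1 ?_
  show ((DerSch.stalkCxOver f x).obj F).ExactAt i
  rw [HomologicalComplex.exactAt_iff_isZero_homology]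
  have hE : IsZero (E.homology i) := (HomologicalComplex.exactAt_iff_isZero_homology _ _).1
    (ShortComplex.exact_of_isZero_X₂ (E.sc i) (hz i hi))
  exact hE.of_iso
    (((DerivedCategory.homologyFunctorFactors (ModuleCat.{u} (Y.presheaf.stalk (f.base x))) i).app _).symm ≪≫
      (DerivedCategory.homologyFunctor _ i).mapIso e.symm ≪≫
      (DerivedCategory.homologyFunctorFactors (ModuleCat.{u} (Y.presheaf.stalk (f.base x))) i).app _)

lemma isLE_of_hasTorAmplitude {F : CochainComplex X.Modules ℤ} {a b : ℤ}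
    (hF : DerSch.HasTorAmplitude f a b F) : (DCoh.toD X F).IsLE b :=
  (DerivedCategory.isLE_Q_obj_iff F b).2
    ((CochainComplex.isLE_iff F b).2 fun _ hi => exactAt_of_hasTorAmplitude hF (Or.inr hi))

lemma isGE_of_hasTorAmplitude {F : CochainComplex X.Modules ℤ} {a b : ℤ}
    (hF : DerSch.HasTorAmplitude f a b F) : (DCoh.toD X F).IsGE a :=
  (DerivedCategory.isGE_Q_obj_iff F a).2
    ((CochainComplex.isGE_iff F a).2 fun _ hi => exactAt_of_hasTorAmplitude hF (Or.inl hi))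

/-- Composition of relatively pseudo-coherent objects bounded above. -/
lemma relAll_comp_of_isLE [LocallyOfFiniteType f] [LocallyOfFiniteType g] {E : DCoh.D X} (b : ℤ)
    [E.IsLE b] (hE : DerSch.IsPseudoCoherentRelAll f E)
    (hg : DerSch.IsPseudoCoherentRelAll g (DCoh.toD Y (DerSch.unitCx Y))) :
    DerSch.IsPseudoCoherentRelAll (f ≫ g) E := fun m =>
  rel_mono (min_le_left m (b + 1))
    (rel_comp_of_bdd (min m (b + 1)) b E (min_le_right _ _) (hE _) (relAll_inD hg _))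

/-- Composition with a morphism of finite perfect dimension. -/
lemma hasPerfAmplitudeRel_comp [LocallyOfFiniteType f] [LocallyOfFiniteType g] {n : ℕ}
    (hg : DerSch.HasPerfDimLE g n) {a b : ℤ} {F : CochainComplex X.Modules ℤ}
    (hF : DerSch.HasPerfAmplitudeRel f a b F) :
    DerSch.HasPerfAmplitudeRel (f ≫ g) (a - n) b F := by
  haveI := isLE_of_hasTorAmplitude hF.2
  exact ⟨relAll_comp_of_isLE b hF.1 hg.1, hasTorAmplitude_comp f g hg.2 hF.2⟩

/-- Derived pullback along a morphism of finite perfect dimension. -/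
lemma hasPerfAmplitudeRel_lpull [LocallyOfFiniteType f] [LocallyOfFiniteType g] [DCoh.HasLpull f]
    {m : ℕ} (hf : DerSch.HasPerfDimLE f m) {c d : ℤ} {G : CochainComplex Y.Modules ℤ}
    (hG : DerSch.HasPerfAmplitudeRel g c d G) {F' : CochainComplex X.Modules ℤ}
    (e : DCoh.toD X F' ≅ (DCoh.Lpull f).obj (DCoh.toD Y G)) :
    DerSch.HasPerfAmplitudeRel (f ≫ g) (c - m) d F' :=
  ⟨fun k => rel_of_iso e.symm (rel_lpull_comp (relAll_inD hf.1) (isQCohD_of_relAll hG.1) (hG.1 k)),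
    hasTorAmplitudeD_lpull f g hf.2 hG.2 F' ⟨e⟩⟩

end Groth.Agent.RelPC65
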