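import Groth.Agent.RelPC65.ExtTor
import Groth.Agent.RelPC65.LpullRel
import Groth.Prelude.Def_DTor2

/-!
# Cohomological bounds of derived tensor products with complexes of bounded tor amplitude
-/

set_option autoImplicit false
set_option linter.style.haveILetI false
set_option backward.isDefEq.respectTransparency false
set_option backward.isDefEq.respectTransparency.types false

universe u

open CategoryTheory CategoryTheory.Limits AlgebraicGeometry MonoidalCategory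

attribute [local instance] HasDerivedCategory.standard

namespace Groth.Agent.RelPC65

open Groth.Agent.KFlatLib Groth.Agent.H9Misc Groth.Agent.H9Misc.DRingLTensor Groth.Agent.RelPC13
open Groth.Agent.H9Misc.DRingTorDescent

section Ring

variable {B : Type u} [CommRing B]

lemma exactAt_iff_of_qIso {X X' : DRing.Cx B} (e : DRing.toD X ≅ DRing.toD X') (i : ℤ) :
    X.ExactAt i ↔ X'.ExactAt i := by
  rw [HomologicalComplex.exactAt_iff_isZero_homology, HomologicalComplex.exactAt_iff_isZero_homology]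
  exact ((((DerivedCategory.homologyFunctorFactors (ModuleCat.{u} B) i).app X).symm ≪≫
    (DerivedCategory.homologyFunctor _ i).mapIso e ≪≫
    (DerivedCategory.homologyFunctorFactors (ModuleCat.{u} B) i).app X')).isZero_iff

/-- Bounds on `X ⊗ P` for `X` of bounded amplitude and `P` K-flat with bounded cohomology. -/
lemma exactAt_tensor_of_amplitude {a b c d : ℤ} {X P : DRing.Cx B} (hP : IsKF P)
    (hX : DRing.HasTorAmplitudeIn B a b (DRing.toD X))
    (hPz : ∀ j, (j < c ∨ d < j) → P.ExactAt j) {i : ℤ} (hi : i < a + c ∨ b + d < i) :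
    (((curriedTensor (ModuleCat.{u} B)).map₂CochainComplex.obj X).obj P).ExactAt i := by
  obtain ⟨E, hEz, hEf, ⟨e⟩⟩ := hX
  refine (exactAt_iff_of_qIso (qTensorIso hP e) i).1 ?_
  have hE : IsKF E := DRingTor.isKF_of_flat hEf fun j hj => hEz j (Or.inr hj)
  haveI : P.IsLE d := (CochainComplex.isLE_iff P d).2 fun j hj => hPz j (Or.inr hj)
  haveI : P.IsGE c := (CochainComplex.isGE_iff P c).2 fun j hj => hPz j (Or.inl hj)
  let P₁ := P.truncLE d
  haveI : P₁.IsGE c := (CochainComplex.isGE_iff P₁ c).2 fun j hj =>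
    (DRingTorLTensor.exactAt_iff_of_quasiIso (P.ιTruncLE d) j).2 (hPz j (Or.inl hj))
  haveI h1 : QuasiIso (((curriedTensor (ModuleCat.{u} B)).map₂CochainComplex.obj E).map (P.ιTruncLE d)) :=
    quasiIso_tensorHom_id _ hE
  haveI h2 : QuasiIso (((curriedTensor (ModuleCat.{u} B)).map₂CochainComplex.obj E).map (P₁.πTruncGE c)) :=
    quasiIso_tensorHom_id _ hE
  refine (DRingTorLTensor.exactAt_iff_of_quasiIso
    (((curriedTensor (ModuleCat.{u} B)).map₂CochainComplex.obj E).map (P.ιTruncLE d)) i).1 ?_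
  refine (DRingTorLTensor.exactAt_iff_of_quasiIso
    (((curriedTensor (ModuleCat.{u} B)).map₂CochainComplex.obj E).map (P₁.πTruncGE c)) i).2 ?_
  refine ShortComplex.exact_of_isZero_X₂ _ ?_
  rcases hi with hi | hi
  · exact DRingLTensorCx.vanishesBelow_tensor (P := E) (fun j hj => hEz j (Or.inl hj))
      (fun j hj => CochainComplex.isZero_of_isStrictlyGE (P₁.truncGE c) c j hj) i hi
  · exact DRingLTensorCx.vanishesAbove_tensor (P := E) (fun j hj => hEz j (Or.inr hj))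
      (fun j hj => CochainComplex.isZero_of_isStrictlyLE (P₁.truncGE c) d j hj) i hi

end Ring

section Stalk

variable {X Y : Scheme.{u}}

/-- Exactness is checked on stalks over the base. -/
lemma exactAt_of_stalkCxOver (f : X ⟶ Y) {W : CochainComplex X.Modules ℤ} {i : ℤ}
    (h : ∀ x, ((DerSch.stalkCxOver f x).obj W).ExactAt i) : W.ExactAt i :=
  (exact_iff_stalk _).2 fun x =>
    (ShortComplex.exact_map_iff_of_faithful _ (ModuleCat.restrictScalars (f.stalkMap x).hom)).1 (h x)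

/-- Exactness at a point of the stalk complexes. -/
lemma exactAt_stalkCx {W : CochainComplex X.Modules ℤ} {i : ℤ} (h : W.ExactAt i) (x : X) :
    ((stalkCx x).obj W).ExactAt i :=
  (exact_iff_stalk _).1 h x

lemma exactAt_of_isGE_isLE {E : CochainComplex X.Modules ℤ} {c d : ℤ}
    [hc : (DCoh.toD X E).IsGE c] [hd : (DCoh.toD X E).IsLE d] {j : ℤ} (hj : j < c ∨ d < j) :
    E.ExactAt j := by
  rcases hj with hj | hj
  · exact (CochainComplex.isGE_iff E c).1 ((DerivedCategory.isGE_Q_obj_iff E c).1 hc) j hj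
  · exact (CochainComplex.isLE_iff E d).1 ((DerivedCategory.isLE_Q_obj_iff E d).1 hd) j hj

lemma exactAt_kRes {E : CochainComplex X.Modules ℤ} {j : ℤ} (h : E.ExactAt j) :
    ((kRes X).obj E).ExactAt j := by
  haveI : QuasiIso ((flatCover X).ψ.app E) := (flatCover X).quasiIso_ψ E
  rw [HomologicalComplex.exactAt_iff_isZero_homology] at h ⊢
  exact h.of_iso (isoOfQuasiIsoAt ((flatCover X).ψ.app E) j)

/-- Bounds from exactness of a representative. -/
lemma isGE_isLE_of_rep {K : DCoh.D X} {W : CochainComplex X.Modules ℤ} (e : DCoh.toD X W ≅ K) {a b : ℤ}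
    (h : ∀ i, (i < a ∨ b < i) → W.ExactAt i) : K.IsGE a ∧ K.IsLE b := by
  haveI : (DCoh.toD X W).IsGE a := (DerivedCategory.isGE_Q_obj_iff W a).2
    ((CochainComplex.isGE_iff W a).2 fun i hi => h i (Or.inl hi))
  haveI : (DCoh.toD X W).IsLE b := (DerivedCategory.isLE_Q_obj_iff W b).2
    ((CochainComplex.isLE_iff W b).2 fun i hi => h i (Or.inr hi))
  exact ⟨DerivedCategory.TStructure.t.isGE_of_iso e a, DerivedCategory.TStructure.t.isLE_of_iso e b⟩

/-- Bounds of `Lf^* G ⊗^L F`. -/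
theorem isGE_isLE_ltensor_lpull (f : X ⟶ Y) [DCoh.HasLpull f] {F : CochainComplex X.Modules ℤ}
    [DCoh.HasLTensorCx F] {G : CochainComplex Y.Modules ℤ} {a b c d : ℤ}
    (hF : DerSch.HasTorAmplitude f a b F) (hG : ∀ j, (j < c ∨ d < j) → G.ExactAt j) :
    ((DCoh.LTensorCx F).obj ((DCoh.Lpull f).obj (DCoh.toD Y G))).IsGE (a + c) ∧
      ((DCoh.LTensorCx F).obj ((DCoh.Lpull f).obj (DCoh.toD Y G))).IsLE (b + d) := by
  haveI := isIso_LTensorCx_counit F (isKFlat_pullback f (isKFlat_kRes G))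
  refine isGE_isLE_of_rep ((asIso (((DCoh.tensorCxQ F).totalLeftDerivedCounit DerivedCategory.Q (qisX X)).app
      ((pullCx f).obj ((kRes Y).obj G)))).symm ≪≫ (DCoh.LTensorCx F).mapIso (lpullObjIso f G))
    fun i hi => exactAt_of_stalkCxOver f fun x => ?_
  exact (DRingTorLTensor.exactAt_iff_of_iso (stalkTensorPullOverIso f x F ((kRes Y).obj G)) i).2
    (exactAt_tensor_of_amplitude ((kFlat_iff_stalk _).1 (isKFlat_kRes G) _) (hF x)
      (fun j hj => exactAt_stalkCx (exactAt_kRes (hG j hj)) _) hi)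

/-- The restriction to an open of the base keeps the amplitude. -/
lemma hasTorAmplitude_morphismRestrict (f : X ⟶ Y) (V : Y.Opens) {F : CochainComplex X.Modules ℤ} {a b : ℤ}
    (hF : DerSch.HasTorAmplitude f a b F) :
    DerSch.HasTorAmplitude (f ∣_ V) a b ((DCoh.restrictCx (f ⁻¹ᵁ V)).obj F) :=
  hasTorAmplitude_of_iso _
    (DerivedCategory.Q.mapIso ((NatIso.mapHomologicalComplex
      (Scheme.Modules.restrictFunctorIsoPullback (f ⁻¹ᵁ V).ι).symm (ComplexShape.up ℤ)).app F))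
    (hasTorAmplitude_bc (isPullback_morphismRestrict f V).flip hF)

/-- Tor amplitude bounds the cohomology of tensor products with modules of the base. -/
theorem isZero_HD_ltensor_restrict (f : X ⟶ Y) {F : CochainComplex X.Modules ℤ} {a b : ℤ}
    (hF : DerSch.HasTorAmplitude f a b F) (V : Y.Opens) (M : (V : Scheme.{u}).Modules)
    [DCoh.HasLpull (f ∣_ V)] [DCoh.HasLTensorCx ((DCoh.restrictCx (f ⁻¹ᵁ V)).obj F)] {i : ℤ}
    (hi : i < a ∨ b < i) :
    IsZero (DCoh.HD ((DCoh.LTensorCx ((DCoh.restrictCx (f ⁻¹ᵁ V)).obj F)).obj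
      ((DCoh.Lpull (f ∣_ V)).obj (DCoh.inD (V : Scheme.{u}) M))) i) := by
  let G := (HomologicalComplex.single (V : Scheme.{u}).Modules (ComplexShape.up ℤ) 0).obj M
  have h := isGE_isLE_ltensor_lpull (f ∣_ V) (G := G) (c := 0) (d := 0)
    (hasTorAmplitude_morphismRestrict f V hF) fun j hj =>
      ShortComplex.exact_of_isZero_X₂ _ (HomologicalComplex.isZero_single_obj_X (ComplexShape.up ℤ) 0 M j (by omega))
  rw [add_zero, add_zero] at h
  haveI := h.1
  haveI := h.2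
  let e : (DCoh.LTensorCx _).obj ((DCoh.Lpull (f ∣_ V)).obj (DCoh.toD _ G)) ≅
      (DCoh.LTensorCx ((DCoh.restrictCx (f ⁻¹ᵁ V)).obj F)).obj
        ((DCoh.Lpull (f ∣_ V)).obj (DCoh.inD (V : Scheme.{u}) M)) :=
    (DCoh.LTensorCx _).mapIso ((DCoh.Lpull (f ∣_ V)).mapIso
      ((DerivedCategory.singleFunctorIsoCompQ (V : Scheme.{u}).Modules 0).app M).symm)
  refine IsZero.of_iso ?_ ((DerivedCategory.homologyFunctor _ i).mapIso e).symm
  rcases hi with hi | hi
  · exact DerivedCategory.isZero_of_isGE _ a i hi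
  · exact DerivedCategory.isZero_of_isLE _ b i hi

end Stalk

section External

variable {X Y S X₁ Y₁ X₂ Y₂ : Scheme.{u}} {f₁ : X₁ ⟶ Y₁} {q₁ : Y₁ ⟶ S} {f₂ : X₂ ⟶ Y₂} {q₂ : Y₂ ⟶ S}
  [Flat q₁] [Flat (f₁ ≫ q₁)] {pX₁ : X ⟶ X₁} {pX₂ : X ⟶ X₂}
  {pY₁ : Y ⟶ Y₁} {pY₂ : Y ⟶ Y₂} {f : X ⟶ Y}

/-- Bounds of an external derived product, the first factor being flat. -/
theorem isGE_isLE_external (hX : IsPullback pX₁ pX₂ (f₁ ≫ q₁) (f₂ ≫ q₂))
    (hY : IsPullback pY₁ pY₂ q₁ q₂) (hf₁ : f ≫ pY₁ = pX₁ ≫ f₁) (hf₂ : f ≫ pY₂ = pX₂ ≫ f₂)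
    {E₁ : CochainComplex X₁.Modules ℤ} {a₁ b₁ : ℤ} (h₁ : DerSch.HasTorAmplitude f₁ a₁ b₁ E₁)
    {E₂ : CochainComplex X₂.Modules ℤ} {a₂ b₂ : ℤ}
    (h₂ : ∀ j, (j < a₂ ∨ b₂ < j) → E₂.ExactAt j)
    [DCoh.HasLpull pX₁] [DCoh.HasLpull pX₂] {K₂ : CochainComplex X.Modules ℤ} [DCoh.HasLTensorCx K₂]
    (e : DCoh.toD X K₂ ≅ (DCoh.Lpull pX₂).obj (DCoh.toD X₂ E₂)) :
    ((DCoh.LTensorCx K₂).obj ((DCoh.Lpull pX₁).obj (DCoh.toD X₁ E₁))).IsGE (a₁ + a₂) ∧
      ((DCoh.LTensorCx K₂).obj ((DCoh.Lpull pX₁).obj (DCoh.toD X₁ E₁))).IsLE (b₁ + b₂) := by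
  let R₁ := (kRes X₁).obj E₁
  let R₂ := (kRes X₂).obj E₂
  let P₁ := (pullCx pX₁).obj R₁
  let P₂ := (pullCx pX₂).obj R₂
  have hP₂ : DCoh.IsKFlat P₂ := isKFlat_pullback pX₂ (isKFlat_kRes E₂)
  have hP₁ : DCoh.IsKFlat P₁ := isKFlat_pullback pX₁ (isKFlat_kRes E₁)
  haveI := isIso_LTensorCx_counit K₂ hP₁
  let Φ := DCoh.tensorCx.flip.obj P₁ ⋙ DerivedCategory.Q
  have hΦ : (qisX X).IsInvertedBy Φ := fun K K' s hs => by
    haveI : QuasiIso s := hs
    haveI : QuasiIso ((DCoh.tensorBi.map₂CochainComplex.map s).app P₁) :=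
      KFlat.quasiIso_map (T := DCoh.tensorBi) hP₁ s
    exact (DerivedCategory.isIso_Q_map_iff_quasiIso _ _).2 this
  let eW : DCoh.toD X ((DCoh.tensorCx.obj P₁).obj P₂) ≅
      (DCoh.LTensorCx K₂).obj ((DCoh.Lpull pX₁).obj (DCoh.toD X₁ E₁)) :=
    DerivedCategory.Q.mapIso ((symmIso (tensorBiFlipIso X) P₂).app P₁) ≪≫
    ((Localization.fac Φ hΦ DerivedCategory.Q).app P₂).symm ≪≫
    (Localization.lift Φ hΦ DerivedCategory.Q).mapIso (lpullObjIso pX₂ E₂ ≪≫ e.symm) ≪≫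
    (Localization.fac Φ hΦ DerivedCategory.Q).app K₂ ≪≫
    DerivedCategory.Q.mapIso ((symmIso (tensorBiFlipIso X) K₂).app P₁).symm ≪≫
    (asIso (((DCoh.tensorCxQ K₂).totalLeftDerivedCounit DerivedCategory.Q (qisX X)).app P₁)).symm ≪≫
    (DCoh.LTensorCx K₂).mapIso (lpullObjIso pX₁ E₁)
  refine isGE_isLE_of_rep eW fun i hi => (exact_iff_stalk _).2 fun x => ?_
  obtain ⟨A, U, β₂, β₁, i₂, i₁, τ, d₂, d₁, hU, hβ₁, hc₁, -, hepi, hd₂, hd₁, he₂, he₁, hτ⟩ :=
    exists_stalk_data (f₁ := f₂) (f₂ := f₁) hX.flip hY.flip hf₂ hf₁ x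
  obtain ⟨M, m, φ, ψ, hM, hi₂, hm, hφ, hmid⟩ :=
    exists_middle (f₂.stalkMap (pX₂.base x)) (f₁.stalkMap (pX₁.base x)) hU hβ₁ hc₁ τ hd₂ hd₁ he₂ he₁ hτ
  have hflat : m.hom.Flat := flat_of_isPushout hM hi₂
  let L := (extC' m.hom).obj ((stalkCx (pX₂.base x)).obj R₂)
  have hLz : ∀ j, (j < a₂ ∨ b₂ < j) → L.ExactAt j := fun j hj => by
    haveI := ModuleCat.preservesFiniteLimits_extendScalars_of_flat hflat
    haveI : PreservesFiniteColimits (ModuleCat.extendScalars.{u, u, u} m.hom) := by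
      haveI : (ModuleCat.extendScalars.{u, u, u} m.hom).IsLeftAdjoint :=
        (ModuleCat.extendRestrictScalarsAdj m.hom).isLeftAdjoint
      infer_instance
    exact (exactAt_stalkCx (exactAt_kRes (h₂ j hj)) _).map (ModuleCat.extendScalars.{u, u, u} m.hom)
  have hX₁ := hmid _ ((kFlat_iff_stalk R₁).1 (isKFlat_kRes E₁) _) a₁ b₁
    (hasTorAmplitude_kRes f₁ h₁ (pX₁.base x))
  have hex := exactAt_tensor_of_amplitude
    (kFlat_extendScalars m.hom ((kFlat_iff_stalk R₂).1 (isKFlat_kRes E₂) _)) hX₁ hLz hi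
  let X' := (extC' (pX₁.stalkMap x).hom).obj ((stalkCx (pX₁.base x)).obj R₁)
  have hex' := (DRingTorLTensor.exactAt_iff_of_iso (projIso ψ.hom X' L) i).2 hex
  have hex'' : (((curriedTensor (ModuleCat.{u} (X.presheaf.stalk x))).map₂CochainComplex.obj X').obj
      ((extC' ψ.hom).obj L)).ExactAt i :=
    (ShortComplex.exact_map_iff_of_faithful
      ((((curriedTensor (ModuleCat.{u} (X.presheaf.stalk x))).map₂CochainComplex.obj X').obj
        ((extC' ψ.hom).obj L)).sc i) (ModuleCat.restrictScalars ψ.hom)).1 hex'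
  show ((stalkCx x).obj ((DCoh.tensorCx.obj P₁).obj P₂)).ExactAt i
  refine hex''.of_iso ?_
  exact ((curriedTensor (ModuleCat.{u} (X.presheaf.stalk x))).map₂CochainComplex.obj X').mapIso
      ((extCompCx m.hom ψ.hom (pX₂.stalkMap x).hom (by rw [← hm]; rfl) _).symm ≪≫
        (stalkPullCxIso pX₂ x R₂).symm) ≪≫
    (((curriedTensor (ModuleCat.{u} (X.presheaf.stalk x))).map₂CochainComplex.mapIso
      (stalkPullCxIso pX₁ x R₁).symm).app _) ≪≫ stalkTensorCxIso x P₁ P₂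

end External

end Groth.Agent.RelPC65
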