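import Groth.Agent.RelPC65.BaseChange
import Groth.Agent.RelPC13.FppfCover
import Groth.Agent.KFlatLib.Scheme.QCohDerived
import Groth.Agent.KFlatLib.Scheme.LpullComp

/-!
# Flat base change and descent of relative pseudo-coherence
-/

set_option linter.style.haveILetI false
set_option backward.isDefEq.respectTransparency false
set_option backward.isDefEq.respectTransparency.types false

universe u

open CategoryTheory CategoryTheory.Limits MvPolynomial
open Groth.Agent.H9Misc Groth.Agent.RelPC13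

attribute [local instance] HasDerivedCategory.standard MvPolynomial.algebraMvPolynomial

namespace Groth.Agent.RelPC65

section Ring

variable {A B A' B' : Type u} [CommRing A] [CommRing B] [CommRing A'] [CommRing B'] [Algebra A B]
  [Algebra A A'] [Algebra A' B'] [Algebra B B'] [Algebra A B'] [IsScalarTower A A' B'] [IsScalarTower A B B']
  [Algebra.IsPushout A A' B B']

/-- Flat base change of relative pseudo-coherence, and descent. -/
theorem rel_lbase_bc_iff [Algebra.FiniteType A B] [Module.Flat A A'] [DRing.HasLBaseChange (algebraMap B B')]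
    {m : ℤ} (M : Dual.D B) :
    (DerCA.IsRelPseudoCoherent A B m M →
      DerCA.IsRelPseudoCoherent A' B' m ((DRing.LBaseChange (algebraMap B B')).obj M)) ∧
    (Module.FaithfullyFlat A A' →
      DerCA.IsRelPseudoCoherent A' B' m ((DRing.LBaseChange (algebraMap B B')).obj M) →
      DerCA.IsRelPseudoCoherent A B m M) := by
  obtain ⟨k, α, hα⟩ := DRingRelPC.exists_presentation A B
  let φ : MvPolynomial (Fin k) A →+* B := α.toRingHom
  have hC : φ.comp C = algebraMap A B := α.comp_algebraMap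
  let β : MvPolynomial (Fin k) A' →ₐ[A'] B' :=
    { bcChart (A' := A') (B' := B') φ with commutes' := fun a => eval₂Hom_C (algebraMap A' B') _ a }
  have hβ : Function.Surjective β := bcChart_surjective φ hC hα
  obtain ⟨K, hK, -, ⟨e⟩⟩ := DRingLTensor.exists_rep M
  obtain ⟨eL⟩ := DRingLBase.nonempty_lbase_iso (algebraMap B B') hK
  let eM : (DRing.LBaseChange (algebraMap B B')).obj M ≅
      DRing.toD ((DRingLTensor.extC' (algebraMap B B')).obj K) :=
    (DRing.LBaseChange _).mapIso e.symm ≪≫ eL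
  let P := MvPolynomial (Fin k) A
  let D := MvPolynomial (Fin k) A'
  letI : Algebra P B := φ.toAlgebra
  letI : Algebra D B' := (bcChart (A' := A') (B' := B') φ).toAlgebra
  letI : Algebra P B' := ((algebraMap B B').comp φ).toAlgebra
  haveI : IsScalarTower P B B' := IsScalarTower.of_algebraMap_eq fun _ => rfl
  haveI : IsScalarTower P D B' := IsScalarTower.of_algebraMap_eq fun p =>
    (RingHom.congr_fun (bcChart_comp_map (A' := A') φ hC) p).symm
  haveI : IsScalarTower A P B := IsScalarTower.of_algebraMap_eq fun a => (RingHom.congr_fun hC a).symm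
  haveI : IsScalarTower A' D B' := IsScalarTower.of_algebraMap_eq fun a => by
    exact (eval₂Hom_C (algebraMap A' B') _ a).symm
  haveI : IsScalarTower A A' D := IsScalarTower.of_algebraMap_eq fun a => rfl
  haveI : IsScalarTower A P D := IsScalarTower.of_algebraMap_eq fun a => by
    exact (MvPolynomial.map_C (algebraMap A A') a).symm
  haveI : IsScalarTower A D B' := IsScalarTower.of_algebraMap_eq fun a => by
    rw [IsScalarTower.algebraMap_apply A A' B', IsScalarTower.algebraMap_apply A A' D,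
      ← IsScalarTower.algebraMap_apply A' D B']
  haveI : IsScalarTower A P B' := IsScalarTower.of_algebraMap_eq fun a => by
    rw [IsScalarTower.algebraMap_apply A B B', IsScalarTower.algebraMap_apply A P B,
      ← IsScalarTower.algebraMap_apply P B B']
  haveI hAB : Algebra.IsPushout A B A' B' := Algebra.IsPushout.symm ‹_›
  haveI : Algebra.IsPushout A P A' D := inferInstance
  haveI : Algebra.IsPushout P B D B' := (Algebra.IsPushout.comp_iff A P A' D).1 hAB
  haveI hpo : Algebra.IsPushout P D B B' := Algebra.IsPushout.symm ‹_›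
  have h : (algebraMap B B').comp φ =
      (bcChart (A' := A') (B' := B') φ).comp (MvPolynomial.map (algebraMap A A')) :=
    (bcChart_comp_map φ hC).symm
  have hiso : ∀ M, IsIso (bcMap h M) := fun M =>
    isIso_bcMap h (i₁ := ‹Algebra P B›) (i₂ := inferInstanceAs (Algebra P D)) (i₃ := ‹Algebra B B'›)
      (i₄ := ‹Algebra D B'›) rfl rfl rfl rfl M
  haveI : Algebra.IsPushout A A' P D := inferInstance
  let eD : TensorProduct A P A' ≃ₐ[P] D := Algebra.IsPushout.equiv A P A' D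
  haveI : Module.Flat P D := Module.Flat.of_linearEquiv eD.symm.toLinearEquiv
  refine ⟨fun hM => ?_, fun hff hM => ?_⟩
  · refine (DRingRelPC.iff_via β hβ _ m).2 (DRingPC.of_iso ((DRing.restrictD _).mapIso eM).symm ?_)
    exact pc_bc h hiso (RingHom.flat_algebraMap_iff.2 (inferInstance : Module.Flat P D)) (K := K)
      (DRingPC.of_iso ((DRing.restrictD _).mapIso e.symm) ((DRingRelPC.iff_via α hα M m).1 hM))
  · haveI : Module.FaithfullyFlat P D :=
      Module.FaithfullyFlat.of_linearEquiv P _ eD.symm.toLinearEquiv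
    refine (DRingRelPC.iff_via α hα M m).2 (DRingPC.of_iso ((DRing.restrictD _).mapIso e) ?_)
    exact pc_bc_descent h hiso
      (RingHom.faithfullyFlat_algebraMap_iff.2 (inferInstance : Module.FaithfullyFlat P D)) (K := K)
      (DRingPC.of_iso ((DRing.restrictD _).mapIso eM) ((DRingRelPC.iff_via β hβ _ m).1 hM))

end Ring

section Scheme

open AlgebraicGeometry Groth.Agent.KFlatLib

variable {X Y X' Y' : Scheme.{u}} {g' : X' ⟶ X} {f' : X' ⟶ Y'} {f : X ⟶ Y} {h : Y' ⟶ Y}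

/-- Flat base change on a pair of affine opens. -/
theorem pcOn_lpull_bc [LocallyOfFiniteType f] [LocallyOfFiniteType f'] [Flat h] (hc : IsPullback g' f' f h) [DCoh.HasLpull g']
    {E : DCoh.D X} (hE : DCoh.IsQCohD E) (m : ℤ) {U : X.Opens} (hU : IsAffineOpen U)
    {V : Y.Opens} (hV : IsAffineOpen V) {V' : Y'.Opens} (hV' : IsAffineOpen V')
    (hUV : U ≤ f ⁻¹ᵁ V) (hVV : V' ≤ h ⁻¹ᵁ V) :
    ∃ _ : IsAffineOpen (g' ⁻¹ᵁ U ⊓ f' ⁻¹ᵁ V'),
      (PCOn f m E U V → PCOn f' m ((DCoh.Lpull g').obj E) (g' ⁻¹ᵁ U ⊓ f' ⁻¹ᵁ V') V') ∧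
      ((∀ y ∈ V, ∃ y' ∈ V', h.base y' = y) →
        PCOn f' m ((DCoh.Lpull g').obj E) (g' ⁻¹ᵁ U ⊓ f' ⁻¹ᵁ V') V' → PCOn f m E U V) := by
  let W : X'.Opens := g' ⁻¹ᵁ U ⊓ f' ⁻¹ᵁ V'
  have hW : IsAffineOpen W := by
    haveI : IsAffine _ := hV
    haveI : IsAffine _ := hV'
    haveI : IsAffine _ := hU
    exact .of_isIso (Scheme.Hom.isPullback_resLE hc hVV hUV (UY := W) rfl).isoPullback.hom
  have hpo := (isIso_pushoutSection_iff hc hVV hUV (UY := W) rfl).mp
    (isIso_pushoutSection_of_isAffineOpen hc hVV hUV rfl hV hV' hU)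
  letI : Algebra Γ(Y, V) Γ(X, U) := (f.appLE V U hUV).hom.toAlgebra
  letI : Algebra Γ(Y, V) Γ(Y', V') := (h.appLE V V' hVV).hom.toAlgebra
  letI : Algebra Γ(X, U) Γ(X', W) := (g'.appLE U W inf_le_left).hom.toAlgebra
  letI : Algebra Γ(Y', V') Γ(X', W) := (f'.appLE V' W inf_le_right).hom.toAlgebra
  letI : Algebra Γ(Y, V) Γ(X', W) := (f.appLE V U hUV ≫ g'.appLE U W inf_le_left).hom.toAlgebra
  haveI : IsScalarTower Γ(Y, V) Γ(X, U) Γ(X', W) := .of_algebraMap_eq fun _ => rfl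
  haveI : IsScalarTower Γ(Y, V) Γ(Y', V') Γ(X', W) := .of_algebraMap_eq fun r => congr($(hpo.w).hom r)
  haveI : Algebra.IsPushout Γ(Y, V) Γ(Y', V') Γ(X, U) Γ(X', W) :=
    CommRingCat.isPushout_iff_isPushout.mp hpo.flip
  haveI : Module.Flat Γ(Y, V) Γ(Y', V') := h.flat_appLE hV hV' hVV
  haveI : Algebra.FiniteType Γ(Y, V) Γ(X, U) := f.finiteType_appLE hV hU hUV
  haveI : PreservesFiniteLimits (tilde.functor Γ(X, U)) := QCoh.tilde_preservesFiniteLimits
  haveI : PreservesFiniteLimits (tilde.functor Γ(X', W)) := QCoh.tilde_preservesFiniteLimits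
  haveI : DRing.HasLBaseChange (algebraMap Γ(X, U) Γ(X', W)) := H9Misc.DRingLBase.hasLBaseChange _
  haveI : DRing.HasLBaseChange (g'.appLE U W inf_le_left).hom := H9Misc.DRingLBase.hasLBaseChange _
  obtain ⟨M, ⟨eM⟩⟩ := exists_sections_model hE hU
  obtain ⟨eM'⟩ := nonempty_lpull_model_iso g' E hU hW inf_le_left M eM
  refine ⟨hW, fun hp => (pcOn_iff_ring hW hV' inf_le_right m _ eM').2
    ((rel_lbase_bc_iff (A' := Γ(Y', V')) (B' := Γ(X', W)) M).1 ((pcOn_iff_ring hU hV hUV m M eM).1 hp)),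
    fun hs hp => ?_⟩
  haveI : Module.FaithfullyFlat Γ(Y, V) Γ(Y', V') := by
    refine Module.FaithfullyFlat.of_comap_surjective fun q => ?_
    have hq : hV.fromSpec.base q ∈ V := by
      rw [← SetLike.mem_coe, ← hV.range_fromSpec]
      exact ⟨q, rfl⟩
    obtain ⟨y, hy, hyq⟩ := hs _ hq
    obtain ⟨q', rfl⟩ : y ∈ Set.range hV'.fromSpec.base := by
      rw [hV'.range_fromSpec]; exact hy
    refine ⟨q', hV.fromSpec.isOpenEmbedding.injective ?_⟩
    rw [← hyq]
    show (Spec.map (h.appLE V V' hVV) ≫ hV.fromSpec).base q' = (hV'.fromSpec ≫ h).base q'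
    rw [IsAffineOpen.SpecMap_appLE_fromSpec h hV hV' hVV]
  exact (pcOn_iff_ring hU hV hUV m M eM).2
    ((rel_lbase_bc_iff (A' := Γ(Y', V')) (B' := Γ(X', W)) M).2 inferInstance
      ((pcOn_iff_ring hW hV' inf_le_right m _ eM').1 hp))

/-- Relative pseudo-coherence is stable under flat base change. -/
theorem rel_lpull_bc [LocallyOfFiniteType f] [Flat h] (hc : IsPullback g' f' f h) [DCoh.HasLpull g']
    {E : DCoh.D X} (hE : DCoh.IsQCohD E) {m : ℤ} (hf : DerSch.IsPseudoCoherentRel f m E) :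
    DerSch.IsPseudoCoherentRel f' m ((DCoh.Lpull g').obj E) := by
  haveI : LocallyOfFiniteType f' := MorphismProperty.of_isPullback hc inferInstance
  refine ⟨inferInstance, {V' | ∃ V : Y.affineOpens, (V' : Y'.Opens) ≤ h ⁻¹ᵁ (V : Y.Opens)}, ?_, fun V' hV' => ?_⟩
  · refine top_le_iff.1 fun y _ => ?_
    obtain ⟨_, ⟨V, hV, rfl⟩, hyV, -⟩ := Y.isBasis_affineOpens.exists_subset_of_mem_open
      (show h.base y ∈ (⊤ : Y.Opens) from trivial) (⊤ : Y.Opens).2
    obtain ⟨_, ⟨V', hV', rfl⟩, hyV', hVV⟩ := Y'.isBasis_affineOpens.exists_subset_of_mem_open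
      (show y ∈ h ⁻¹ᵁ V from hyV) (h ⁻¹ᵁ V).2
    simp only [TopologicalSpace.Opens.mem_iSup]
    exact ⟨⟨V', hV'⟩, ⟨⟨V, hV⟩, hVV⟩, hyV'⟩
  obtain ⟨V, hVV⟩ := hV'
  refine ⟨{W | ∃ U : X.affineOpens, (U : X.Opens) ≤ f ⁻¹ᵁ (V : Y.Opens) ∧
    (W : X'.Opens) = g' ⁻¹ᵁ (U : X.Opens) ⊓ f' ⁻¹ᵁ (V' : Y'.Opens)},
    le_antisymm (iSup₂_le fun W hW => ?_) fun x hx => ?_, fun W hW hle => ?_⟩
  · obtain ⟨U, -, hW'⟩ := hW
    rw [hW']
    exact inf_le_right
  · have hx' : g'.base x ∈ f ⁻¹ᵁ (V : Y.Opens) := by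
      show (g' ≫ f).base x ∈ (V : Y.Opens)
      rw [hc.w]
      exact hVV hx
    obtain ⟨_, ⟨U, hU, rfl⟩, hxU, hUV⟩ := X.isBasis_affineOpens.exists_subset_of_mem_open hx'
      (f ⁻¹ᵁ (V : Y.Opens)).2
    obtain ⟨hW, -⟩ := pcOn_lpull_bc hc hE m hU V.2 V'.2 hUV hVV
    simp only [TopologicalSpace.Opens.mem_iSup]
    exact ⟨⟨_, hW⟩, ⟨⟨U, hU⟩, hUV, rfl⟩, hxU, hx⟩
  · obtain ⟨U, hUV, hW'⟩ := hW
    obtain ⟨W, hWa⟩ := W
    obtain rfl : W = g' ⁻¹ᵁ (U : X.Opens) ⊓ f' ⁻¹ᵁ (V' : Y'.Opens) := hW'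
    obtain ⟨-, hfwd, -⟩ := pcOn_lpull_bc hc hE m U.2 V.2 V'.2 hUV hVV
    obtain ⟨k, ψ, hψ⟩ := exists_chart (f := f') hle (f'.finiteType_appLE V'.2 hWa hle)
    exact ⟨k, ψ, hψ, (hfwd (pcOn_of_isPseudoCoherentRel hf U.2 V.2 hUV)).chartPC hWa hψ⟩

/-- Relative pseudo-coherence descends along flat surjective quasi-compact base changes. -/
theorem rel_of_lpull_bc [LocallyOfFiniteType f] [Flat h] [Surjective h] [QuasiCompact h]
    (hc : IsPullback g' f' f h) [DCoh.HasLpull g'] {E : DCoh.D X} (hE : DCoh.IsQCohD E) {m : ℤ}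
    (hf : DerSch.IsPseudoCoherentRel f' m ((DCoh.Lpull g').obj E)) :
    DerSch.IsPseudoCoherentRel f m E := by
  haveI : LocallyOfFiniteType f' := MorphismProperty.of_isPullback hc inferInstance
  refine isPseudoCoherentRel_of_forall fun U V hUV => ?_
  haveI : CompactSpace (h ⁻¹ᵁ (V : Y.Opens) : Scheme.{u}) :=
    isCompact_iff_compactSpace.1 (h.isCompact_preimage V.2.isCompact)
  obtain ⟨T, p, hp, hpf, hT⟩ := Scheme.exists_hom_isAffine_of_isZariskiLocalAtSource @Flat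
    (h ⁻¹ᵁ (V : Y.Opens) : Scheme.{u})
  haveI := hpf
  haveI := hp
  let j := p ≫ (h ⁻¹ᵁ (V : Y.Opens)).ι
  have hc2 : IsPullback (pullback.fst f' j ≫ g') (pullback.snd f' j) f (j ≫ h) :=
    (IsPullback.of_hasPullback f' j).paste_horiz hc
  haveI := hasLpull (pullback.fst f' j)
  haveI := hasLpull (pullback.fst f' j ≫ g')
  haveI : LocallyOfFiniteType (pullback.snd f' j) := inferInstance
  obtain ⟨e⟩ := nonempty_lpull_comp (pullback.fst f' j) g'
  have hf2 := rel_of_iso (e.app E)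
    (rel_lpull_bc (IsPullback.of_hasPullback f' j) (isQCohD_lpull g' hE) hf)
  have hTV : (⊤ : T.Opens) ≤ (j ≫ h) ⁻¹ᵁ (V : Y.Opens) := fun t _ => (p.base t).2
  obtain ⟨hW, -, hdesc⟩ := pcOn_lpull_bc hc2 hE m U.2 V.2 (isAffineOpen_top T) hUV hTV
  refine hdesc (fun y hy => ?_) (pcOn_of_isPseudoCoherentRel hf2 hW (isAffineOpen_top T) inf_le_right)
  obtain ⟨y', rfl⟩ := h.surjective y
  obtain ⟨t, ht⟩ := p.surjective ⟨y', hy⟩
  exact ⟨t, trivial, congrArg (fun z : (h ⁻¹ᵁ (V : Y.Opens) : Scheme.{u}) => h.base z.1) ht⟩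

end Scheme

end Groth.Agent.RelPC65
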