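import Groth.Agent.RelPC65.TorBC
import Groth.Agent.RelPC65.BCTor
import Groth.Agent.RelPC65.LpullBC
import Groth.Agent.S2137

/-!
# Tor independent base change of relative pseudo-coherence of complexes
-/

set_option autoImplicit false
set_option linter.style.haveILetI false
set_option backward.isDefEq.respectTransparency false
set_option backward.isDefEq.respectTransparency.types false

universe u

open CategoryTheory CategoryTheory.Limits MvPolynomial
open Groth.Agent.H9Misc Groth.Agent.H9Misc.DRingLTensor Groth.Agent.RelPC13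

attribute [local instance] HasDerivedCategory.standard MvPolynomial.algebraMvPolynomial

namespace Groth.Agent.RelPC65

section Square

variable {P A D C : Type u} [CommRing P] [CommRing A] [CommRing D] [CommRing C]
  {φ : P →+* A} {ρ : P →+* D} {α : A →+* C} {φ' : D →+* C}

/-- Pseudo-coherence after a tor independent base change. -/
theorem pc_bc_tor {O O' : Type u} [CommRing O] [CommRing O'] {σ : O →+* P} {ω : O →+* O'}
    {κ : O' →+* D} (hσ : σ.Flat) (hφσ : (φ.comp σ).Flat) (h₀ : ρ.comp σ = κ.comp ω)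
    (hpo₀ : IsPushout (CommRingCat.ofHom σ) (CommRingCat.ofHom ω) (CommRingCat.ofHom ρ)
      (CommRingCat.ofHom κ))
    (h : α.comp φ = φ'.comp ρ)
    (hpo : IsPushout (CommRingCat.ofHom φ) (CommRingCat.ofHom ρ) (CommRingCat.ofHom α)
      (CommRingCat.ofHom φ')) {m : ℤ} (K : DRing.Cx A) (hKF : Groth.Agent.H9Misc.DRingLTensor.IsKF K)
    (hK : DRing.IsPseudoCoherent P m ((DRing.restrictD φ).obj (DRing.toD K))) :
    DRing.IsPseudoCoherent D m ((DRing.restrictD φ').obj (DRing.toD ((extC' α).obj K))) := by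
  open Groth.Agent.KFlatLib in
  let N := (DRing.restrictCx φ).obj K
  haveI hs := (KFlatLib.ringCover P).quasiIso_ψ N
  let R := (KFlatLib.ringCover P).P.obj N
  let s := (KFlatLib.ringCover P).ψ.app N
  haveI : QuasiIso s := hs
  have hR : Groth.Agent.H9Misc.DRingLTensor.IsKF R := KFlatLib.kFlat_ringRes N
  have hR' : Groth.Agent.H9Misc.DRingLTensor.IsKF ((DRing.restrictCx σ).obj R) := isKF_restrict σ hσ hR
  have hK' : Groth.Agent.H9Misc.DRingLTensor.IsKF ((DRing.restrictCx σ).obj N) :=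
    KFlatLib.KFlat.of_iso (resCompCx σ φ _ rfl K) (isKF_restrict (φ.comp σ) hφσ hKF)
  haveI : QuasiIso ((DRing.restrictCx σ).map s) := by
    constructor
    intro n
    show QuasiIsoAt (((ModuleCat.restrictScalars σ).mapHomologicalComplex (ComplexShape.up ℤ)).map s) n
    infer_instance
  have hq := KFlatLib.quasiIso_extendScalars ω ((DRing.restrictCx σ).map s) hR' hK'
  have h1 : QuasiIso (((ModuleCat.restrictScalars κ).mapHomologicalComplex (ComplexShape.up ℤ)).map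
      ((extC' ρ).map s)) := by
    refine (quasiIso_iff_of_arrow_mk_iso _ _
      (Arrow.isoMk (bcCxIso h₀ hpo₀ R) (bcCxIso h₀ hpo₀ N) ?_)).1 hq
    exact HomologicalComplex.hom_ext _ _ fun i =>
      ((bcIso h₀ (isIso_bcMap_of_isPushout h₀ hpo₀)).hom.naturality (s.f i)).symm
  haveI : IsIso (DerivedCategory.Q.map ((extC' ρ).map s)) :=
    (DerivedCategory.isIso_Q_map_iff_quasiIso _ _).2
      ((HomologicalComplex.quasiIso_map_iff_of_preservesHomology ((extC' ρ).map s)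
        (ModuleCat.restrictScalars κ)).1 h1)
  haveI : IsIso (DerivedCategory.Q.map s) := (DerivedCategory.isIso_Q_map_iff_quasiIso _ _).2 hs
  haveI := DRingLBase.hasLBaseChange ρ
  obtain ⟨eL⟩ := DRingLBase.nonempty_lbase_iso ρ hR
  refine DRingPC.of_iso ?_ (Groth.Agent.S2137.result ρ (DRing.toD R) m
    (DRingPC.of_iso ((ModuleCat.restrictScalars φ).mapDerivedCategoryFactors.app K ≪≫
      (asIso (DerivedCategory.Q.map s)).symm) hK))
  exact eL ≪≫ asIso (DerivedCategory.Q.map ((extC' ρ).map s)) ≪≫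
    DerivedCategory.Q.mapIso (bcCxIso h hpo K) ≪≫
      ((ModuleCat.restrictScalars φ').mapDerivedCategoryFactors.app _).symm

end Square

section Ring

variable (R₀ R' : Type u) {A B A' B' : Type u} [CommRing R₀] [CommRing R'] [CommRing A] [CommRing B] [CommRing A'] [CommRing B']
  [Algebra R₀ R'] [Algebra R₀ A] [Algebra R' A'] [Algebra R₀ A'] [IsScalarTower R₀ R' A'] [Algebra A A'] [IsScalarTower R₀ A A']
  [Algebra A B] [Algebra R₀ B] [IsScalarTower R₀ A B]
  [Algebra A' B'] [Algebra B B'] [Algebra A B'] [IsScalarTower A A' B'] [IsScalarTower A B B']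
  [Algebra.IsPushout A A' B B'] [Algebra.IsPushout R₀ R' A A'] [Module.Flat R₀ A] [Module.Flat R₀ B]

include R₀ R' in
/-- Tor independent base change of relative pseudo-coherence. -/
theorem rel_lbase_tor [Algebra.FiniteType A B] [DRing.HasLBaseChange (algebraMap B B')] {m : ℤ}
    (M : Dual.D B) (hM : DerCA.IsRelPseudoCoherent A B m M) :
    DerCA.IsRelPseudoCoherent A' B' m ((DRing.LBaseChange (algebraMap B B')).obj M) := by
  obtain ⟨k, α, hα⟩ := DRingRelPC.exists_presentation A B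
  let φ : MvPolynomial (Fin k) A →+* B := α.toRingHom
  have hC : φ.comp C = algebraMap A B := α.comp_algebraMap
  let β : MvPolynomial (Fin k) A' →ₐ[A'] B' :=
    { bcChart (A' := A') (B' := B') φ with commutes' := fun a => eval₂Hom_C (algebraMap A' B') _ a }
  have hβ : Function.Surjective β := bcChart_surjective φ hC hα
  obtain ⟨K, hK, -, ⟨e⟩⟩ := DRingLTensor.exists_rep M
  obtain ⟨eL⟩ := DRingLBase.nonempty_lbase_iso (algebraMap B B') hK
  let P := MvPolynomial (Fin k) A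
  let D := MvPolynomial (Fin k) A'
  letI : Algebra P B := φ.toAlgebra
  letI : Algebra D B' := (bcChart (A' := A') (B' := B') φ).toAlgebra
  letI : Algebra P B' := ((algebraMap B B').comp φ).toAlgebra
  haveI : IsScalarTower P B B' := IsScalarTower.of_algebraMap_eq fun _ => rfl
  haveI : IsScalarTower P D B' := IsScalarTower.of_algebraMap_eq fun p =>
    (RingHom.congr_fun (bcChart_comp_map (A' := A') φ hC) p).symm
  haveI : IsScalarTower A P B := IsScalarTower.of_algebraMap_eq fun a => (RingHom.congr_fun hC a).symm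
  haveI : IsScalarTower A' D B' := IsScalarTower.of_algebraMap_eq fun a => by
    exact (eval₂Hom_C (algebraMap A' B') _ a).symm
  haveI : IsScalarTower A A' D := IsScalarTower.of_algebraMap_eq fun a => rfl
  haveI : IsScalarTower A P D := IsScalarTower.of_algebraMap_eq fun a => by
    exact (MvPolynomial.map_C (algebraMap A A') a).symm
  haveI : IsScalarTower A D B' := IsScalarTower.of_algebraMap_eq fun a => by
    rw [IsScalarTower.algebraMap_apply A A' B', IsScalarTower.algebraMap_apply A A' D,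
      ← IsScalarTower.algebraMap_apply A' D B']
  haveI : IsScalarTower A P B' := IsScalarTower.of_algebraMap_eq fun a => by
    rw [IsScalarTower.algebraMap_apply A B B', IsScalarTower.algebraMap_apply A P B,
      ← IsScalarTower.algebraMap_apply P B B']
  haveI hAB : Algebra.IsPushout A B A' B' := Algebra.IsPushout.symm ‹_›
  haveI : Algebra.IsPushout A P A' D := inferInstance
  haveI : Algebra.IsPushout P B D B' := (Algebra.IsPushout.comp_iff A P A' D).1 hAB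
  haveI hpo : Algebra.IsPushout P D B B' := Algebra.IsPushout.symm ‹_›
  haveI : IsScalarTower R₀ A P := IsScalarTower.of_algebraMap_eq fun a => rfl
  haveI : IsScalarTower R₀ P B := IsScalarTower.of_algebraMap_eq fun a => by
    rw [IsScalarTower.algebraMap_apply R₀ A B, IsScalarTower.algebraMap_apply A P B,
      ← IsScalarTower.algebraMap_apply R₀ A P]
  haveI : IsScalarTower R₀ R' D := IsScalarTower.of_algebraMap_eq fun a => by
    exact congrArg MvPolynomial.C (IsScalarTower.algebraMap_apply R₀ R' A' a)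
  haveI : IsScalarTower R₀ P D := IsScalarTower.of_algebraMap_eq fun a => by
    exact ((MvPolynomial.map_C (algebraMap A A') _).trans
      (congrArg MvPolynomial.C (IsScalarTower.algebraMap_apply R₀ A A' a).symm)).symm
  haveI : Module.Flat R₀ P := Module.Flat.trans R₀ A P
  haveI : Algebra.IsPushout R₀ R' P D := by
    haveI : Algebra.IsPushout R₀ A R' A' := Algebra.IsPushout.symm ‹_›
    haveI : Algebra.IsPushout A P A' D := inferInstance
    haveI : IsScalarTower R' A' D := IsScalarTower.of_algebraMap_eq fun a => rfl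
    haveI : IsScalarTower R₀ A' D := IsScalarTower.of_algebraMap_eq fun a => rfl
    exact Algebra.IsPushout.symm ((Algebra.IsPushout.comp_iff R₀ A R' A').2 ‹Algebra.IsPushout A P A' D›)
  have hφσ : (φ.comp (algebraMap R₀ P)).Flat := by
    rw [show φ.comp (algebraMap R₀ P) = algebraMap R₀ B from (IsScalarTower.algebraMap_eq R₀ P B).symm]
    exact RingHom.flat_algebraMap_iff.2 inferInstance
  refine (DRingRelPC.iff_via β hβ _ m).2
    (DRingPC.of_iso ((DRing.restrictD _).mapIso (eL.symm ≪≫ (DRing.LBaseChange _).mapIso e)) ?_)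
  exact pc_bc_tor (O := R₀) (O' := R') (σ := algebraMap R₀ P) (ω := algebraMap R₀ R')
    (κ := algebraMap R' D) (ρ := algebraMap P D) (φ := φ) (α := algebraMap B B')
    (φ' := bcChart (A' := A') (B' := B') φ)
    (RingHom.flat_algebraMap_iff.2 inferInstance) hφσ
    ((IsScalarTower.algebraMap_eq R₀ P D).symm.trans (IsScalarTower.algebraMap_eq R₀ R' D))
    (CommRingCat.isPushout_iff_isPushout.mpr ‹Algebra.IsPushout R₀ R' P D›).flip
    (bcChart_comp_map φ hC).symm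
    (CommRingCat.isPushout_iff_isPushout.mpr hpo).flip K hK
    (DRingPC.of_iso ((DRing.restrictD _).mapIso e.symm) ((DRingRelPC.iff_via α hα M m).1 hM))

end Ring

section Scheme

open AlgebraicGeometry Groth.Agent.KFlatLib

variable {S S' X Y X' Y' : Scheme.{u}} {g' : X' ⟶ X} {f' : X' ⟶ Y'} {f : X ⟶ Y} {h : Y' ⟶ Y}
  {q : Y ⟶ S} {q' : Y' ⟶ S'} {u : S' ⟶ S}

/-- Tor independent base change on affine opens. -/
theorem pcOn_lpull_tor [LocallyOfFiniteType f] [LocallyOfFiniteType f'] [Flat q] [Flat (f ≫ q)]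
    (hY : IsPullback h q' q u) (hc : IsPullback g' f' f h) [DCoh.HasLpull g']
    {E : DCoh.D X} (hE : DCoh.IsQCohD E) (m : ℤ)
    {O : S.Opens} (hO : IsAffineOpen O) {O' : S'.Opens} (hO' : IsAffineOpen O') (hOO : O' ≤ u ⁻¹ᵁ O)
    {U : X.Opens} (hU : IsAffineOpen U) {V : Y.Opens} (hV : IsAffineOpen V)
    (hUV : U ≤ f ⁻¹ᵁ V) (hVO : V ≤ q ⁻¹ᵁ O) :
    ∃ (_ : IsAffineOpen (g' ⁻¹ᵁ U ⊓ f' ⁻¹ᵁ (h ⁻¹ᵁ V ⊓ q' ⁻¹ᵁ O'))),
      PCOn f m E U V → PCOn f' m ((DCoh.Lpull g').obj E)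
        (g' ⁻¹ᵁ U ⊓ f' ⁻¹ᵁ (h ⁻¹ᵁ V ⊓ q' ⁻¹ᵁ O')) (h ⁻¹ᵁ V ⊓ q' ⁻¹ᵁ O') := by
  let V' : Y'.Opens := h ⁻¹ᵁ V ⊓ q' ⁻¹ᵁ O'
  let W : X'.Opens := g' ⁻¹ᵁ U ⊓ f' ⁻¹ᵁ V'
  have hV' : IsAffineOpen V' := by
    haveI : IsAffine _ := hV
    haveI : IsAffine _ := hO'
    haveI : IsAffine _ := hO
    exact .of_isIso (Scheme.Hom.isPullback_resLE hY hOO hVO (UY := V') rfl).isoPullback.hom
  have hVV : V' ≤ h ⁻¹ᵁ V := inf_le_left
  have hW : IsAffineOpen W := by
    haveI : IsAffine _ := hV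
    haveI : IsAffine _ := hV'
    haveI : IsAffine _ := hU
    exact .of_isIso (Scheme.Hom.isPullback_resLE hc hVV hUV (UY := W) rfl).isoPullback.hom
  have hpY := (isIso_pushoutSection_iff hY hOO hVO (UY := V') rfl).mp
    (isIso_pushoutSection_of_isAffineOpen hY hOO hVO rfl hO hO' hV)
  have hpo := (isIso_pushoutSection_iff hc hVV hUV (UY := W) rfl).mp
    (isIso_pushoutSection_of_isAffineOpen hc hVV hUV rfl hV hV' hU)
  letI : Algebra Γ(S, O) Γ(Y, V) := (q.appLE O V hVO).hom.toAlgebra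
  letI : Algebra Γ(S, O) Γ(S', O') := (u.appLE O O' hOO).hom.toAlgebra
  letI : Algebra Γ(S', O') Γ(Y', V') := (q'.appLE O' V' inf_le_right).hom.toAlgebra
  letI : Algebra Γ(Y, V) Γ(Y', V') := (h.appLE V V' hVV).hom.toAlgebra
  letI : Algebra Γ(S, O) Γ(Y', V') := (q.appLE O V hVO ≫ h.appLE V V' hVV).hom.toAlgebra
  haveI : IsScalarTower Γ(S, O) Γ(Y, V) Γ(Y', V') := .of_algebraMap_eq fun _ => rfl
  haveI : IsScalarTower Γ(S, O) Γ(S', O') Γ(Y', V') := .of_algebraMap_eq fun r => congr($(hpY.w).hom r)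
  haveI : Algebra.IsPushout Γ(S, O) Γ(S', O') Γ(Y, V) Γ(Y', V') :=
    CommRingCat.isPushout_iff_isPushout.mp hpY.flip
  letI : Algebra Γ(Y, V) Γ(X, U) := (f.appLE V U hUV).hom.toAlgebra
  letI : Algebra Γ(S, O) Γ(X, U) := (q.appLE O V hVO ≫ f.appLE V U hUV).hom.toAlgebra
  haveI : IsScalarTower Γ(S, O) Γ(Y, V) Γ(X, U) := .of_algebraMap_eq fun _ => rfl
  letI : Algebra Γ(X, U) Γ(X', W) := (g'.appLE U W inf_le_left).hom.toAlgebra
  letI : Algebra Γ(Y', V') Γ(X', W) := (f'.appLE V' W inf_le_right).hom.toAlgebra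
  letI : Algebra Γ(Y, V) Γ(X', W) := (f.appLE V U hUV ≫ g'.appLE U W inf_le_left).hom.toAlgebra
  haveI : IsScalarTower Γ(Y, V) Γ(X, U) Γ(X', W) := .of_algebraMap_eq fun _ => rfl
  haveI : IsScalarTower Γ(Y, V) Γ(Y', V') Γ(X', W) := .of_algebraMap_eq fun r => congr($(hpo.w).hom r)
  haveI : Algebra.IsPushout Γ(Y, V) Γ(Y', V') Γ(X, U) Γ(X', W) :=
    CommRingCat.isPushout_iff_isPushout.mp hpo.flip
  haveI : Module.Flat Γ(S, O) Γ(Y, V) := q.flat_appLE hO hV hVO
  haveI : Module.Flat Γ(S, O) Γ(X, U) := by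
    have hle : U ≤ (f ≫ q) ⁻¹ᵁ O := fun x hx => hVO (hUV hx)
    have h1 := (f ≫ q).flat_appLE hO hU hle
    rw [← Scheme.Hom.appLE_comp_appLE f q O V U hVO hUV] at h1
    exact h1
  haveI : Algebra.FiniteType Γ(Y, V) Γ(X, U) := f.finiteType_appLE hV hU hUV
  haveI : PreservesFiniteLimits (tilde.functor Γ(X, U)) := QCoh.tilde_preservesFiniteLimits
  haveI : PreservesFiniteLimits (tilde.functor Γ(X', W)) := QCoh.tilde_preservesFiniteLimits
  haveI : DRing.HasLBaseChange (algebraMap Γ(X, U) Γ(X', W)) := H9Misc.DRingLBase.hasLBaseChange _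
  haveI : DRing.HasLBaseChange (g'.appLE U W inf_le_left).hom := H9Misc.DRingLBase.hasLBaseChange _
  obtain ⟨M, ⟨eM⟩⟩ := exists_sections_model hE hU
  obtain ⟨eM'⟩ := nonempty_lpull_model_iso g' E hU hW inf_le_left M eM
  exact ⟨hW, fun hp => (pcOn_iff_ring hW hV' inf_le_right m _ eM').2
    (rel_lbase_tor Γ(S, O) Γ(S', O') (A' := Γ(Y', V')) (B' := Γ(X', W)) M
      ((pcOn_iff_ring hU hV hUV m M eM).1 hp))⟩

/-- Relative pseudo-coherence over flat `S`-schemes is stable under any change of base. -/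
theorem rel_lpull_tor [LocallyOfFiniteType f] [Flat q] [Flat (f ≫ q)]
    (hY : IsPullback h q' q u) (hc : IsPullback g' f' f h) [DCoh.HasLpull g']
    {E : DCoh.D X} (hE : DCoh.IsQCohD E) {m : ℤ} (hf : DerSch.IsPseudoCoherentRel f m E) :
    DerSch.IsPseudoCoherentRel f' m ((DCoh.Lpull g').obj E) := by
  haveI : LocallyOfFiniteType f' := MorphismProperty.of_isPullback hc inferInstance
  refine ⟨inferInstance, {V' | ∃ (O : S.affineOpens) (O' : S'.affineOpens) (V : Y.affineOpens),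
      (O' : S'.Opens) ≤ u ⁻¹ᵁ (O : S.Opens) ∧ (V : Y.Opens) ≤ q ⁻¹ᵁ (O : S.Opens) ∧
      (V' : Y'.Opens) = h ⁻¹ᵁ (V : Y.Opens) ⊓ q' ⁻¹ᵁ (O' : S'.Opens)}, ?_, fun V' hV' => ?_⟩
  · refine top_le_iff.1 fun y _ => ?_
    obtain ⟨_, ⟨O, hO, rfl⟩, hyO, -⟩ := S.isBasis_affineOpens.exists_subset_of_mem_open
      (show u.base (q'.base y) ∈ (⊤ : S.Opens) from trivial) (⊤ : S.Opens).2
    obtain ⟨_, ⟨O', hO', rfl⟩, hyO', hOO⟩ := S'.isBasis_affineOpens.exists_subset_of_mem_open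
      (show q'.base y ∈ u ⁻¹ᵁ O from hyO) (u ⁻¹ᵁ O).2
    have hyq : h.base y ∈ q ⁻¹ᵁ O := by
      show (h ≫ q).base y ∈ O
      rw [hY.w]; exact hyO
    obtain ⟨_, ⟨V, hV, rfl⟩, hyV, hVO⟩ := Y.isBasis_affineOpens.exists_subset_of_mem_open hyq (q ⁻¹ᵁ O).2
    have hV' : IsAffineOpen (h ⁻¹ᵁ V ⊓ q' ⁻¹ᵁ O') := by
      haveI : IsAffine _ := hV
      haveI : IsAffine _ := hO'
      haveI : IsAffine _ := hO
      exact .of_isIso (Scheme.Hom.isPullback_resLE hY hOO hVO rfl).isoPullback.hom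
    simp only [TopologicalSpace.Opens.mem_iSup]
    exact ⟨⟨_, hV'⟩, ⟨⟨O, hO⟩, ⟨O', hO'⟩, ⟨V, hV⟩, hOO, hVO, rfl⟩, hyV, hyO'⟩
  obtain ⟨O, O', V, hOO, hVO, hV'eq⟩ := hV'
  obtain ⟨V', hV'a⟩ := V'
  obtain rfl : V' = h ⁻¹ᵁ (V : Y.Opens) ⊓ q' ⁻¹ᵁ (O' : S'.Opens) := hV'eq
  refine ⟨{W | ∃ U : X.affineOpens, (U : X.Opens) ≤ f ⁻¹ᵁ (V : Y.Opens) ∧
    (W : X'.Opens) = g' ⁻¹ᵁ (U : X.Opens) ⊓ f' ⁻¹ᵁ (h ⁻¹ᵁ (V : Y.Opens) ⊓ q' ⁻¹ᵁ (O' : S'.Opens))},
    le_antisymm (iSup₂_le fun W hW => ?_) fun x hx => ?_, fun W hW hle => ?_⟩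
  · obtain ⟨U, -, hW'⟩ := hW
    rw [hW']
    exact inf_le_right
  · have hx' : g'.base x ∈ f ⁻¹ᵁ (V : Y.Opens) := by
      show (g' ≫ f).base x ∈ (V : Y.Opens)
      rw [hc.w]
      exact hx.1
    obtain ⟨_, ⟨U, hU, rfl⟩, hxU, hUV⟩ := X.isBasis_affineOpens.exists_subset_of_mem_open hx'
      (f ⁻¹ᵁ (V : Y.Opens)).2
    obtain ⟨hW, -⟩ := pcOn_lpull_tor hY hc hE m O.2 O'.2 hOO hU V.2 hUV hVO
    simp only [TopologicalSpace.Opens.mem_iSup]
    exact ⟨⟨_, hW⟩, ⟨⟨U, hU⟩, hUV, rfl⟩, hxU, hx⟩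
  · obtain ⟨U, hUV, hW'⟩ := hW
    obtain ⟨W, hWa⟩ := W
    obtain rfl : W = g' ⁻¹ᵁ (U : X.Opens) ⊓ f' ⁻¹ᵁ (h ⁻¹ᵁ (V : Y.Opens) ⊓ q' ⁻¹ᵁ (O' : S'.Opens)) := hW'
    obtain ⟨-, hfwd⟩ := pcOn_lpull_tor hY hc hE m O.2 O'.2 hOO U.2 V.2 hUV hVO
    obtain ⟨k, ψ, hψ⟩ := exists_chart (f := f') hle (f'.finiteType_appLE hV'a hWa hle)
    exact ⟨k, ψ, hψ, (hfwd (pcOn_of_isPseudoCoherentRel hf U.2 V.2 hUV)).chartPC hWa hψ⟩

end Scheme

end Groth.Agent.RelPC65
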