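import Groth.Agent.RelPC65.LTensorRel
import Groth.Agent.RelPC65.LpullTor
import Groth.Agent.RelPC65.ExtBdd
import Groth.Agent.KFlatLib.Scheme.LpullLE

/-!
# Relative pseudo-coherence of external derived tensor products
-/

set_option autoImplicit false
set_option linter.style.haveILetI false
set_option backward.isDefEq.respectTransparency false
set_option backward.isDefEq.respectTransparency.types false
set_option maxHeartbeats 800000

universe u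

open CategoryTheory CategoryTheory.Limits AlgebraicGeometry MonoidalCategory

attribute [local instance] HasDerivedCategory.standard

namespace Groth.Agent.RelPC65

open Groth.Agent.KFlatLib Groth.Agent.RelPC13 Groth.Agent.H9Misc Groth.Agent.H9Misc.DRingLTensor

section Tensor

variable {X : Scheme.{u}}

/-- Derived tensor products are symmetric. -/
theorem nonempty_ltensor_swap (K₁ K₂ : CochainComplex X.Modules ℤ) [DCoh.HasLTensorCx K₁]
    [DCoh.HasLTensorCx K₂] :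
    Nonempty ((DCoh.LTensorCx K₂).obj (DCoh.toD X K₁) ≅ (DCoh.LTensorCx K₁).obj (DCoh.toD X K₂)) := by
  let P₁ := (kRes X).obj K₁
  let P₂ := (kRes X).obj K₂
  haveI := (flatCover X).quasiIso_ψ K₁
  haveI := (flatCover X).quasiIso_ψ K₂
  haveI : QuasiIso ((DCoh.tensorCx.obj P₁).map ((flatCover X).ψ.app K₂)) :=
    KFlat.quasiIso_map' (tensorBiFlipIso X) (isKFlat_kRes K₁) _
  haveI : QuasiIso ((DCoh.tensorCx.obj P₂).map ((flatCover X).ψ.app K₁)) :=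
    KFlat.quasiIso_map' (tensorBiFlipIso X) (isKFlat_kRes K₂) _
  haveI := isIso_Q_map ((DCoh.tensorCx.obj P₁).map ((flatCover X).ψ.app K₂)) inferInstance
  haveI := isIso_Q_map ((DCoh.tensorCx.obj P₂).map ((flatCover X).ψ.app K₁)) inferInstance
  exact ⟨(DCoh.LTensorCx K₂).mapIso ((resQIso X).app K₁).symm ≪≫ ltensorCxIso K₂ (isKFlat_kRes K₁) ≪≫
    (asIso (DerivedCategory.Q.map ((DCoh.tensorCx.obj P₁).map ((flatCover X).ψ.app K₂)))).symm ≪≫
    DerivedCategory.Q.mapIso ((symmIso (tensorBiFlipIso X) P₂).app P₁) ≪≫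
    asIso (DerivedCategory.Q.map ((DCoh.tensorCx.obj P₂).map ((flatCover X).ψ.app K₁))) ≪≫
    (ltensorCxIso K₁ (isKFlat_kRes K₂)).symm ≪≫ (DCoh.LTensorCx K₁).mapIso ((resQIso X).app K₂)⟩

/-- `- ⊗^L K` is right t-exact up to the bound of `K`. -/
theorem isLE_ltensor (K : CochainComplex X.Modules ℤ) [DCoh.HasLTensorCx K] (E : DCoh.D X) (a b : ℤ)
    [E.IsLE a] [(DCoh.toD X K).IsLE b] : ((DCoh.LTensorCx K).obj E).IsLE (a + b) := by
  obtain ⟨K₀, hK₀, ⟨e⟩⟩ := DerivedCategory.exists_iso_Q_obj_of_isLE E a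
  let R := (kRes X).obj K₀
  let e' : DCoh.toD X ((DCoh.tensorCx.obj R).obj K) ≅ (DCoh.LTensorCx K).obj E :=
    (ltensorCxIso K (isKFlat_kRes K₀)).symm ≪≫ (DCoh.LTensorCx K).mapIso ((resQIso X).app K₀ ≪≫ e.symm)
  haveI : (DCoh.toD X ((DCoh.tensorCx.obj R).obj K)).IsLE (a + b) :=
    (DerivedCategory.isLE_Q_obj_iff _ _).2 ((CochainComplex.isLE_iff _ _).2 fun i hi =>
      (exact_iff_stalk _).2 fun x => by
        have h : (tns ((stalkCx x).obj K) ((stalkCx x).obj R)).ExactAt i :=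
          exactAt_tensor_above ((kFlat_iff_stalk _).1 (isKFlat_kRes K₀) x)
            (fun j hj => exactAt_stalkCx ((CochainComplex.isLE_iff K b).1
              ((DerivedCategory.isLE_Q_obj_iff K b).1 ‹_›) j hj) x)
            (fun j hj => exactAt_stalkCx (exactAt_kRes (K₀.exactAt_of_isLE a j hj)) x)
            (i := i) (by omega)
        exact h.of_iso (((symmIso curriedTensorFlipIso ((stalkCx x).obj K)).app ((stalkCx x).obj R)).symm ≪≫
          stalkTensorCxIso x R K))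
  exact DerivedCategory.TStructure.t.isLE_of_iso e' _

end Tensor

section External

variable {S X₁ Y₁ X₂ Y₂ X Y : Scheme.{u}} {f₁ : X₁ ⟶ Y₁} {q₁ : Y₁ ⟶ S} {f₂ : X₂ ⟶ Y₂} {q₂ : Y₂ ⟶ S}
  [Flat q₂] [Flat (f₂ ≫ q₂)] {pX₁ : X ⟶ X₁} {pX₂ : X ⟶ X₂}
  {pY₁ : Y ⟶ Y₁} {pY₂ : Y ⟶ Y₂} {f : X ⟶ Y}

/-- The external derived tensor product of relatively pseudo-coherent objects. -/
theorem rel_external (hX : IsPullback pX₁ pX₂ (f₁ ≫ q₁) (f₂ ≫ q₂))
    (hY : IsPullback pY₁ pY₂ q₁ q₂) (hf₁ : f ≫ pY₁ = pX₁ ≫ f₁) (hf₂ : f ≫ pY₂ = pX₂ ≫ f₂)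
    [LocallyOfFiniteType f₁] [LocallyOfFiniteType f₂] [DCoh.HasLpull pX₁] [DCoh.HasLpull pX₂]
    {E₁ : DCoh.D X₁} (hq₁ : DCoh.IsQCohD E₁) {a₁ b₁ : ℤ} [E₁.IsLE b₁]
    (h₁ : DerSch.IsPseudoCoherentRel f₁ a₁ E₁)
    {E₂ : DCoh.D X₂} (hq₂ : DCoh.IsQCohD E₂) {a₂ b₂ : ℤ} [E₂.IsLE b₂]
    (h₂ : DerSch.IsPseudoCoherentRel f₂ a₂ E₂)
    {K₂ : CochainComplex X.Modules ℤ} [DCoh.HasLTensorCx K₂]
    (e : DCoh.toD X K₂ ≅ (DCoh.Lpull pX₂).obj E₂) :
    DerSch.IsPseudoCoherentRel f (max (a₁ + b₂) (a₂ + b₁))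
      ((DCoh.LTensorCx K₂).obj ((DCoh.Lpull pX₁).obj E₁)) := by
  let M := pullback (f₁ ≫ q₁) q₂
  let pM₁ : M ⟶ X₁ := pullback.fst _ _
  let pM₂ : M ⟶ Y₂ := pullback.snd _ _
  have hM : IsPullback pM₁ pM₂ (f₁ ≫ q₁) q₂ := IsPullback.of_hasPullback _ _
  let v : X ⟶ M := hM.lift pX₁ (pX₂ ≫ f₂) (by simpa using hX.w)
  have hp : v ≫ pM₁ = pX₁ := hM.lift_fst _ _ _
  have hv : IsPullback pX₂ v f₂ pM₂ :=
    IsPullback.of_bot (by rw [hp]; exact hX.flip) (hM.lift_snd _ _ _).symm hM.flip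
  let u : M ⟶ Y := hY.lift (pM₁ ≫ f₁) pM₂ (by simpa using hM.w)
  have hu : IsPullback pM₁ u f₁ pY₁ :=
    IsPullback.of_bot (by rw [show u ≫ pY₂ = pM₂ from hY.lift_snd _ _ _]; exact hM)
      (hY.lift_fst _ _ _).symm hY
  have hvu : v ≫ u = f := by
    apply hY.hom_ext
    · simp [v, u, hf₁]
    · simp [v, u, hf₂]
  haveI : Flat pY₁ := MorphismProperty.of_isPullback hY.flip inferInstance
  haveI : LocallyOfFiniteType v := MorphismProperty.of_isPullback hv inferInstance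
  haveI : LocallyOfFiniteType u := MorphismProperty.of_isPullback hu inferInstance
  haveI := hasLpull pM₁
  haveI := hasLpull v
  haveI : DCoh.HasLpull (v ≫ pM₁) := hasLpull _
  obtain ⟨ec⟩ := nonempty_lpull_comp v pM₁
  have key : ∀ (w : X ⟶ X₁) [DCoh.HasLpull w], v ≫ pM₁ = w → Nonempty ((DCoh.Lpull w).obj E₁ ≅
      (DCoh.Lpull v).obj ((DCoh.Lpull pM₁).obj E₁)) := by
    intro w _ hw
    subst hw
    exact ⟨(ec.app E₁).symm⟩
  obtain ⟨e₁⟩ := key pX₁ hp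
  haveI : ((DCoh.Lpull pM₁).obj E₁).IsLE b₁ := isLE_lpull pM₁ E₁ b₁
  haveI : (DCoh.toD X K₂).IsLE b₂ :=
    haveI := isLE_lpull pX₂ E₂ b₂
    DerivedCategory.TStructure.t.isLE_of_iso e.symm b₂
  have hK₂ : DerSch.IsPseudoCoherentRel v a₂ (DCoh.toD X K₂) :=
    rel_of_iso e.symm (rel_lpull_tor hM.flip hv hq₂ h₂)
  have := rel_ltensor_lpull (f := v) (g := u) K₂ (isQCohD_of_iso e.symm (isQCohD_lpull pX₂ hq₂))
    (isQCohD_lpull pM₁ hq₁) (b := b₂) (d := b₁) hK₂ (rel_lpull_bc hu hq₁ h₁)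
  rw [hvu] at this
  exact rel_mono (by omega) (rel_of_iso ((DCoh.LTensorCx K₂).mapIso e₁.symm) this)

end External

end Groth.Agent.RelPC65
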