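import Mathlib

/-!
# Stalks of fibre products and pushouts of stalks
-/

set_option autoImplicit false
set_option linter.style.haveILetI false

universe u

open CategoryTheory CategoryTheory.Limits AlgebraicGeometry TensorProduct

namespace Groth.Agent.RelPC65

/-- A ring map through which a flat map factors after an epimorphism is flat. -/
theorem flat_of_epi_comp {R T C : CommRingCat.{u}} (ρ : R ⟶ T) [Epi ρ] (τ : T ⟶ C)
    (h : (ρ ≫ τ).hom.Flat) : τ.hom.Flat := by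
  letI := ρ.hom.toAlgebra
  letI := τ.hom.toAlgebra
  letI : Algebra R C := (ρ ≫ τ).hom.toAlgebra
  haveI : IsScalarTower R T C := IsScalarTower.of_algebraMap_eq fun _ => rfl
  haveI : Algebra.IsEpi R T :=
    CommRingCat.epi_iff_epi.mp (show Epi (CommRingCat.ofHom (algebraMap R T)) from ‹Epi ρ›)
  haveI : Module.Flat R C := h
  have hkey : ∀ (t : T) (c : C), (1 : T) ⊗ₜ[R] (t • c) = t ⊗ₜ[R] c := fun t c => by
    let b : T →ₗ[R] T →ₗ[R] T ⊗[R] C := LinearMap.mk₂ R (fun a a' => a ⊗ₜ[R] (a' • c))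
      (fun a a' a'' => add_tmul a a' _)
      (fun r a a' => smul_tmul' r a _)
      (fun a a' a'' => by rw [add_smul, tmul_add])
      (fun r a a' => by rw [smul_assoc, tmul_smul])
    have h1 : (1 : T) ⊗ₜ[R] t = t ⊗ₜ[R] 1 := (Algebra.isEpi_iff_forall_one_tmul_eq R T).1 inferInstance t
    simpa [b] using congrArg (TensorProduct.lift b) h1
  let i : C →ₗ[T] T ⊗[R] C :=
    { toFun := fun c => (1 : T) ⊗ₜ[R] c
      map_add' := tmul_add 1
      map_smul' := fun t c => (hkey t c).trans (by rw [RingHom.id_apply, smul_tmul', smul_eq_mul, mul_one]) }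
  exact Module.Flat.of_retract i (LinearMap.liftBaseChange T (LinearMap.id : C →ₗ[R] C))
    (LinearMap.ext fun c => by simp [i])

variable {X Y S X₁ X₂ : Scheme.{u}}

/-- The stalk map, from the stalk at a point equal to the image. -/
noncomputable def stm (f : X ⟶ Y) (x : X) (y : Y) (h : f x = y) :
    Y.presheaf.stalk y ⟶ X.presheaf.stalk x :=
  Y.presheaf.stalkSpecializes (specializes_of_eq h) ≫ f.stalkMap x

lemma stm_self (f : X ⟶ Y) (x : X) : stm f x (f x) rfl = f.stalkMap x := by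
  rw [stm, TopCat.Presheaf.stalkSpecializes_refl, Category.id_comp]

lemma stm_comp (f : X ⟶ Y) (g : Y ⟶ S) (x : X) (y : Y) (s : S) (hy : f x = y) (hs : g y = s) :
    stm (f ≫ g) x s (by rw [Scheme.Hom.comp_apply, hy, hs]) = stm g y s hs ≫ stm f x y hy := by
  subst hy hs
  rw [stm_self, stm_self]
  exact (stm_self (f ≫ g) x).trans (Scheme.Hom.stalkMap_comp f g x)

lemma stm_congr {f g : X ⟶ Y} (e : f = g) (x : X) (y : Y) (h : f x = y) :
    stm f x y h = stm g x y (e ▸ h) := by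
  subst e
  rfl

lemma stm_flat (f : X ⟶ Y) [Flat f] (x : X) (y : Y) (h : f x = y) : (stm f x y h).hom.Flat := by
  subst h
  rw [stm_self]
  exact Flat.stalkMap f x

/-- Germs and sections of a morphism. -/
lemma appLE_germ (f : X ⟶ Y) {V : Y.Opens} {U : X.Opens} (hle : U ≤ f ⁻¹ᵁ V) (x : X) (hx : x ∈ U)
    (y : Y) (h : f x = y) (hy : y ∈ V) :
    f.appLE V U hle ≫ X.presheaf.germ U x hx = Y.presheaf.germ V y hy ≫ stm f x y h := by
  subst h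
  rw [stm_self, Scheme.Hom.germ_stalkMap, Scheme.Hom.appLE, Category.assoc, TopCat.Presheaf.germ_res]

lemma epi_germ {U : X.Opens} (hU : IsAffineOpen U) (x : X) (hx : x ∈ U) :
    Epi (X.presheaf.germ U x hx) := by
  letI : Algebra Γ(X, U) (X.presheaf.stalk x) := TopCat.Presheaf.algebra_section_stalk X.presheaf ⟨x, hx⟩
  haveI : IsLocalization (hU.primeIdealOf ⟨x, hx⟩).asIdeal.primeCompl (X.presheaf.stalk x) :=
    hU.isLocalization_stalk ⟨x, hx⟩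
  exact IsLocalization.epi (hU.primeIdealOf ⟨x, hx⟩).asIdeal.primeCompl (X.presheaf.stalk x)

lemma flat_germ {U : X.Opens} (hU : IsAffineOpen U) (x : X) (hx : x ∈ U) :
    (X.presheaf.germ U x hx).hom.Flat := by
  letI : Algebra Γ(X, U) (X.presheaf.stalk x) := TopCat.Presheaf.algebra_section_stalk X.presheaf ⟨x, hx⟩
  haveI : IsLocalization (hU.primeIdealOf ⟨x, hx⟩).asIdeal.primeCompl (X.presheaf.stalk x) :=
    hU.isLocalization_stalk ⟨x, hx⟩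
  exact IsLocalization.flat (X.presheaf.stalk x) (hU.primeIdealOf ⟨x, hx⟩).asIdeal.primeCompl

/-- The stalk of a fibre product is flat, and an epimorphism, over the pushout of the stalks. -/
theorem stalk_pushout {p₁ : X ⟶ X₁} {p₂ : X ⟶ X₂} {u₁ : X₁ ⟶ S} {u₂ : X₂ ⟶ S}
    (hX : IsPullback p₁ p₂ u₁ u₂) (x : X) (x₁ : X₁) (x₂ : X₂) (s : S) (hx₁ : p₁ x = x₁) (hx₂ : p₂ x = x₂)
    (h₁ : u₁ x₁ = s) (h₂ : u₂ x₂ = s) {T : CommRingCat.{u}}
    {inl : X₁.presheaf.stalk x₁ ⟶ T} {inr : X₂.presheaf.stalk x₂ ⟶ T}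
    (hpo : IsPushout (stm u₁ x₁ s h₁) (stm u₂ x₂ s h₂) inl inr) (τ : T ⟶ X.presheaf.stalk x)
    (hl : inl ≫ τ = stm p₁ x x₁ hx₁) (hr : inr ≫ τ = stm p₂ x x₂ hx₂) :
    τ.hom.Flat ∧ Epi τ := by
  obtain ⟨_, ⟨V, hV, rfl⟩, hsV, -⟩ := S.isBasis_affineOpens.exists_subset_of_mem_open
    (show s ∈ (⊤ : S.Opens) from trivial) (⊤ : S.Opens).2
  obtain ⟨_, ⟨U₁, hU₁, rfl⟩, hxU₁, hle₁⟩ := X₁.isBasis_affineOpens.exists_subset_of_mem_open
    (show x₁ ∈ u₁ ⁻¹ᵁ V from show u₁ x₁ ∈ V from h₁ ▸ hsV) (u₁ ⁻¹ᵁ V).2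
  obtain ⟨_, ⟨U₂, hU₂, rfl⟩, hxU₂, hle₂⟩ := X₂.isBasis_affineOpens.exists_subset_of_mem_open
    (show x₂ ∈ u₂ ⁻¹ᵁ V from show u₂ x₂ ∈ V from h₂ ▸ hsV) (u₂ ⁻¹ᵁ V).2
  let W : X.Opens := p₁ ⁻¹ᵁ U₁ ⊓ p₂ ⁻¹ᵁ U₂
  have hW : IsAffineOpen W := by
    haveI : IsAffine _ := hV
    haveI : IsAffine _ := hU₁
    haveI : IsAffine _ := hU₂
    exact .of_isIso (Scheme.Hom.isPullback_resLE hX hle₂ hle₁ (UY := W) rfl).isoPullback.hom
  have hxW : x ∈ W := ⟨show p₁ x ∈ U₁ from hx₁ ▸ hxU₁, show p₂ x ∈ U₂ from hx₂ ▸ hxU₂⟩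
  have hG := (isIso_pushoutSection_iff hX hle₂ hle₁ (UY := W) rfl).mp
    (isIso_pushoutSection_of_isAffineOpen hX hle₂ hle₁ rfl hV hU₂ hU₁)
  have hcomm : u₁.appLE V U₁ hle₁ ≫ X₁.presheaf.germ U₁ x₁ hxU₁ ≫ inl =
      u₂.appLE V U₂ hle₂ ≫ X₂.presheaf.germ U₂ x₂ hxU₂ ≫ inr := by
    rw [reassoc_of% appLE_germ u₁ hle₁ x₁ hxU₁ s h₁ hsV, reassoc_of% appLE_germ u₂ hle₂ x₂ hxU₂ s h₂ hsV,
      hpo.w]
  let ρ : Γ(X, W) ⟶ T := hG.desc _ _ hcomm
  have hρτ : ρ ≫ τ = X.presheaf.germ W x hxW := by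
    apply hG.hom_ext
    · rw [hG.inl_desc_assoc, Category.assoc, hl, appLE_germ p₁ _ x hxW x₁ hx₁ hxU₁]
    · rw [hG.inr_desc_assoc, Category.assoc, hr, appLE_germ p₂ _ x hxW x₂ hx₂ hxU₂]
  haveI : Epi ρ := ⟨fun a b hab => by
    haveI := epi_germ hU₁ x₁ hxU₁
    haveI := epi_germ hU₂ x₂ hxU₂
    apply hpo.hom_ext
    · rw [← cancel_epi (X₁.presheaf.germ U₁ x₁ hxU₁)]
      simpa [ρ, hG.inl_desc_assoc] using congrArg (p₁.appLE U₁ W inf_le_left ≫ ·) hab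
    · rw [← cancel_epi (X₂.presheaf.germ U₂ x₂ hxU₂)]
      simpa [ρ, hG.inr_desc_assoc] using congrArg (p₂.appLE U₂ W inf_le_right ≫ ·) hab⟩
  haveI : Epi (ρ ≫ τ) := hρτ ▸ epi_germ hW x hxW
  exact ⟨flat_of_epi_comp ρ τ (hρτ ▸ flat_germ hW x hxW), epi_of_epi ρ τ⟩

end Groth.Agent.RelPC65
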