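import Groth.Agent.RelPC65.TorBC
import Groth.Agent.RelPC65.StalkPushout
import Groth.Agent.PCMor.Ring

/-!
# Tor amplitude after flat base change and of external products, on stalks
-/

set_option autoImplicit false
set_option linter.style.haveILetI false
set_option backward.isDefEq.respectTransparency false
set_option backward.isDefEq.respectTransparency.types false

universe u

open CategoryTheory CategoryTheory.Limits AlgebraicGeometry MonoidalCategory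

attribute [local instance] HasDerivedCategory.standard

namespace Groth.Agent.RelPC65

open Groth.Agent.KFlatLib Groth.Agent.H9Misc Groth.Agent.H9Misc.DRingLTensor Groth.Agent.RelPC13
open Groth.Agent.H9Misc.DRingTorDescent

section Ring

lemma flat_of_isPushout {A B₁ B₂ U : CommRingCat.{u}} {a₁ : A ⟶ B₁} {a₂ : A ⟶ B₂} {i₁ : B₁ ⟶ U}
    {i₂ : B₂ ⟶ U} (h : IsPushout a₁ a₂ i₁ i₂) (ha : a₂.hom.Flat) : i₁.hom.Flat := by
  letI := a₁.hom.toAlgebra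
  letI := a₂.hom.toAlgebra
  letI := i₁.hom.toAlgebra
  letI := i₂.hom.toAlgebra
  letI : Algebra A U := (a₁ ≫ i₁).hom.toAlgebra
  haveI : IsScalarTower A B₁ U := IsScalarTower.of_algebraMap_eq fun _ => rfl
  haveI : IsScalarTower A B₂ U := IsScalarTower.of_algebraMap_eq fun r => congr($(h.w).hom r)
  haveI : Algebra.IsPushout A B₁ B₂ U := CommRingCat.isPushout_iff_isPushout.mp h
  haveI : Module.Flat A B₂ := ha
  exact Module.Flat.of_linearEquiv (Algebra.IsPushout.equiv A B₁ B₂ U).symm.toLinearEquiv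

variable {A B₁ B₂ B C₁ C₂ C U : CommRingCat.{u}} {a₁ : A ⟶ B₁} {a₂ : A ⟶ B₂} (c₁ : B₁ ⟶ C₁)
  (c₂ : B₂ ⟶ C₂) {d₁ : B₁ ⟶ B} {d₂ : B₂ ⟶ B} {e₁ : C₁ ⟶ C} {e₂ : C₂ ⟶ C} {f₀ : B ⟶ C}
  {i₁ : B₁ ⟶ U} {i₂ : B₂ ⟶ U}

/-- The amplitude of the second factor over the pushout, and the data attached to it. -/
theorem exists_middle (hU : IsPushout a₁ a₂ i₁ i₂) (ha₂ : a₂.hom.Flat) (hc₂ : (a₂ ≫ c₂).hom.Flat)
    (τ : U ⟶ B) (hd₁ : i₁ ≫ τ = d₁) (hd₂ : i₂ ≫ τ = d₂) (hf₁ : d₁ ≫ f₀ = c₁ ≫ e₁)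
    (hf₂ : d₂ ≫ f₀ = c₂ ≫ e₂)
    (hτ : ∀ (T : CommRingCat.{u}) (inl : C₁ ⟶ T) (inr : C₂ ⟶ T),
      IsPushout (a₁ ≫ c₁) (a₂ ≫ c₂) inl inr → ∀ τ' : T ⟶ C, inl ≫ τ' = e₁ → inr ≫ τ' = e₂ → τ'.hom.Flat) :
    ∃ (M : CommRingCat.{u}) (m : C₁ ⟶ M) (φ : U ⟶ M) (ψ : M ⟶ C),
      IsPushout c₁ i₁ m φ ∧ i₁.hom.Flat ∧ m ≫ ψ = e₁ ∧ φ ≫ ψ = τ ≫ f₀ ∧
      ∀ (P₂ : DRing.Cx C₂) (_ : IsKF P₂) (a b : ℤ),
        DRing.HasTorAmplitudeIn B₂ a b (DRing.toD ((DRing.restrictCx c₂.hom).obj P₂)) →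
        DRing.HasTorAmplitudeIn M a b
          (DRing.toD ((DRing.restrictCx ψ.hom).obj ((extC' e₂.hom).obj P₂))) := by
  have hM := IsPushout.of_hasPushout c₁ i₁
  let M := pushout c₁ i₁
  let m : C₁ ⟶ M := pushout.inl _ _
  let φ : U ⟶ M := pushout.inr _ _
  have hM' : IsPushout (a₁ ≫ c₁) a₂ m (i₂ ≫ φ) := (hU.flip.paste_vert hM.flip).flip
  have hT := IsPushout.of_hasPushout (i₂ ≫ φ) c₂
  let T := pushout (i₂ ≫ φ) c₂
  let t₁ : M ⟶ T := pushout.inl _ _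
  let t₂ : C₂ ⟶ T := pushout.inr _ _
  have hT' : IsPushout (a₁ ≫ c₁) (a₂ ≫ c₂) (m ≫ t₁) t₂ := hM'.paste_vert hT
  have hw : c₁ ≫ e₁ = i₁ ≫ τ ≫ f₀ := by rw [← Category.assoc, hd₁, hf₁]
  let ψ : M ⟶ C := hM.desc e₁ (τ ≫ f₀) hw
  have hm : m ≫ ψ = e₁ := hM.inl_desc _ _ _
  have hφ : φ ≫ ψ = τ ≫ f₀ := hM.inr_desc _ _ _
  have hw' : (i₂ ≫ φ) ≫ ψ = c₂ ≫ e₂ := by rw [Category.assoc, hφ, ← Category.assoc, hd₂, hf₂]
  let τ' : T ⟶ C := hT.desc ψ e₂ hw'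
  have hψ : t₁ ≫ τ' = ψ := hT.inl_desc _ _ _
  have he₂ : t₂ ≫ τ' = e₂ := hT.inr_desc _ _ _
  have hτ' : τ'.hom.Flat := hτ T _ _ hT' τ' (by rw [Category.assoc, hψ, hm]) he₂
  refine ⟨M, m, φ, ψ, hM, flat_of_isPushout hU ha₂, hm, hφ, fun P₂ hP₂ a b hamp => ?_⟩
  have h1 : DRing.HasTorAmplitudeIn M a b
      (DRing.toD ((DRing.restrictCx t₁.hom).obj ((extC' t₂.hom).obj P₂))) :=
    hasTorAmplitudeIn_bc_tor (φ := c₂.hom) (ρ := (i₂ ≫ φ).hom) (α := t₂.hom) (φ' := t₁.hom)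
      (σ := a₂.hom) (ω := (a₁ ≫ c₁).hom) (κ := m.hom) ha₂ hc₂
      (congrArg CommRingCat.Hom.hom hM'.w.symm) hM'.flip
      (congrArg CommRingCat.Hom.hom hT.w.symm) hT.flip P₂ hP₂ hamp
  refine DRingTor.of_iso (DerivedCategory.Q.mapIso ?_) (hasTorAmplitudeIn_flat_extC t₁.hom τ'.hom hτ' _ h1)
  exact eqToIso (by rw [← hψ]; rfl) ≪≫
    (DRing.restrictCx ψ.hom).mapIso (extCompCx t₂.hom τ'.hom e₂.hom (by rw [← he₂]; rfl) P₂).symm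

/-- The amplitude of an external tensor product over the base. -/
theorem hasTorAmplitudeIn_external (hU : IsPushout a₁ a₂ i₁ i₂) (ha₂ : a₂.hom.Flat)
    (hc₂ : (a₂ ≫ c₂).hom.Flat)
    (τ : U ⟶ B) (hτf : τ.hom.Flat) [Epi τ] (hd₁ : i₁ ≫ τ = d₁) (hd₂ : i₂ ≫ τ = d₂)
    (hf₁ : d₁ ≫ f₀ = c₁ ≫ e₁) (hf₂ : d₂ ≫ f₀ = c₂ ≫ e₂)
    (hτ : ∀ (T : CommRingCat.{u}) (inl : C₁ ⟶ T) (inr : C₂ ⟶ T),
      IsPushout (a₁ ≫ c₁) (a₂ ≫ c₂) inl inr → ∀ τ' : T ⟶ C, inl ≫ τ' = e₁ → inr ≫ τ' = e₂ → τ'.hom.Flat)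
    (P₁ : DRing.Cx C₁) (hP₁ : IsKF P₁) (P₂ : DRing.Cx C₂) (hP₂ : IsKF P₂) {α₁ β₁ α₂ β₂ : ℤ}
    (h₁ : DRing.HasTorAmplitudeIn B₁ α₁ β₁ (DRing.toD ((DRing.restrictCx c₁.hom).obj P₁)))
    (h₂ : DRing.HasTorAmplitudeIn B₂ α₂ β₂ (DRing.toD ((DRing.restrictCx c₂.hom).obj P₂))) :
    DRing.HasTorAmplitudeIn B (α₁ + α₂) (β₁ + β₂) (DRing.toD ((DRing.restrictCx f₀.hom).obj
      (((curriedTensor (ModuleCat.{u} C)).map₂CochainComplex.obj ((extC' e₂.hom).obj P₂)).obj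
        ((extC' e₁.hom).obj P₁)))) := by
  obtain ⟨M, m, φ, ψ, hM, hi₁, hm, hφ, hmid⟩ := exists_middle c₁ c₂ hU ha₂ hc₂ τ hd₁ hd₂ hf₁ hf₂ hτ
  have hL : DRing.HasTorAmplitudeIn U α₁ β₁
      (DRing.toD ((DRing.restrictCx φ.hom).obj ((extC' m.hom).obj P₁))) :=
    hasTorAmplitudeIn_bc_flat (congrArg CommRingCat.Hom.hom hM.w) hM hi₁ P₁ h₁
  have h := hasTorAmplitudeIn_tensor_res φ.hom _ _ (kFlat_extendScalars m.hom hP₁) (hmid P₂ hP₂ _ _ h₂) hL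
  rw [add_comm α₂, add_comm β₂] at h
  refine hasTorAmplitudeIn_of_epi τ.hom hτf ‹Epi τ› _ (DRingTor.of_iso (DerivedCategory.Q.mapIso ?_) h)
  let X₂ := (extC' e₂.hom).obj P₂
  exact (DRing.restrictCx φ.hom).mapIso (projIso ψ.hom X₂ ((extC' m.hom).obj P₁)).symm ≪≫
    (DRing.restrictCx φ.hom).mapIso ((DRing.restrictCx ψ.hom).mapIso
      (((curriedTensor (ModuleCat.{u} C)).map₂CochainComplex.obj X₂).mapIso
        (extCompCx m.hom ψ.hom e₁.hom (by rw [← hm]; rfl) P₁).symm)) ≪≫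
    (resCompCx φ.hom ψ.hom (φ ≫ ψ).hom rfl _).symm ≪≫
    eqToIso (by rw [hφ]) ≪≫ resCompCx τ.hom f₀.hom (τ ≫ f₀).hom rfl _

/-- The tor dimension of an external product over the base. -/
theorem hasTorAmplitudeIn_external_unit (hU : IsPushout a₁ a₂ i₁ i₂) (ha₂ : a₂.hom.Flat)
    (hc₂ : (a₂ ≫ c₂).hom.Flat)
    (τ : U ⟶ B) (hτf : τ.hom.Flat) [Epi τ] (hd₁ : i₁ ≫ τ = d₁) (hd₂ : i₂ ≫ τ = d₂)
    (hf₁ : d₁ ≫ f₀ = c₁ ≫ e₁) (hf₂ : d₂ ≫ f₀ = c₂ ≫ e₂)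
    (hτ : ∀ (T : CommRingCat.{u}) (inl : C₁ ⟶ T) (inr : C₂ ⟶ T),
      IsPushout (a₁ ≫ c₁) (a₂ ≫ c₂) inl inr → ∀ τ' : T ⟶ C, inl ≫ τ' = e₁ → inr ≫ τ' = e₂ → τ'.hom.Flat)
    {n₁ n₂ : ℕ}
    (h₁ : DRing.HasTorAmplitudeIn B₁ (-(n₁ : ℤ)) 0 (DRing.toD
      ((HomologicalComplex.single (ModuleCat.{u} B₁) (ComplexShape.up ℤ) 0).obj (resB c₁.hom))))
    (h₂ : DRing.HasTorAmplitudeIn B₂ (-(n₂ : ℤ)) 0 (DRing.toD
      ((HomologicalComplex.single (ModuleCat.{u} B₂) (ComplexShape.up ℤ) 0).obj (resB c₂.hom)))) :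
    DRing.HasTorAmplitudeIn B (-((n₁ + n₂ : ℕ) : ℤ)) 0 (DRing.toD
      ((HomologicalComplex.single (ModuleCat.{u} B) (ComplexShape.up ℤ) 0).obj (resB f₀.hom))) := by
  obtain ⟨M, m, φ, ψ, hM, hi₁, hm, hφ, hmid⟩ := exists_middle c₁ c₂ hU ha₂ hc₂ τ hd₁ hd₂ hf₁ hf₂ hτ
  have hKF : ∀ (R : CommRingCat.{u}), IsKF
      ((HomologicalComplex.single (ModuleCat.{u} R) (ComplexShape.up ℤ) 0).obj (ModuleCat.of R R)) :=
    fun R => DRingTor.isKF_of_flat (b := 0)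
      (fun i => by
        by_cases hi : i = 0
        · subst hi
          exact Module.Flat.of_linearEquiv
            (HomologicalComplex.singleObjXSelf (ComplexShape.up ℤ) 0 (ModuleCat.of R R)).toLinearEquiv
        · haveI := ModuleCat.subsingleton_of_isZero
            (HomologicalComplex.isZero_single_obj_X (ComplexShape.up ℤ) 0 (ModuleCat.of R R) i hi)
          infer_instance)
      (fun i hi => HomologicalComplex.isZero_single_obj_X _ _ _ _ (by omega))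
  have sres : ∀ {R R' : CommRingCat.{u}} (g : R ⟶ R'),
      Nonempty ((DRing.restrictCx g.hom).obj
          ((HomologicalComplex.single (ModuleCat.{u} R') (ComplexShape.up ℤ) 0).obj (ModuleCat.of R' R')) ≅
        (HomologicalComplex.single (ModuleCat.{u} R) (ComplexShape.up ℤ) 0).obj (resB g.hom)) := fun g =>
    ⟨(HomologicalComplex.singleMapHomologicalComplex (ModuleCat.restrictScalars g.hom)
      (ComplexShape.up ℤ) 0).app _⟩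
  have sext : ∀ {R R' : CommRingCat.{u}} (g : R ⟶ R'),
      Nonempty ((extC' g.hom).obj
          ((HomologicalComplex.single (ModuleCat.{u} R) (ComplexShape.up ℤ) 0).obj (ModuleCat.of R R)) ≅
        (HomologicalComplex.single (ModuleCat.{u} R') (ComplexShape.up ℤ) 0).obj (ModuleCat.of R' R')) :=
    fun g => ⟨(HomologicalComplex.singleMapHomologicalComplex (ModuleCat.extendScalars.{u, u, u} g.hom)
      (ComplexShape.up ℤ) 0).app _ ≪≫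
        (HomologicalComplex.single _ (ComplexShape.up ℤ) 0).mapIso (PCMor.extendSelfIso g.hom)⟩
  obtain ⟨r₁⟩ := sres c₁
  obtain ⟨r₂⟩ := sres c₂
  obtain ⟨rφ⟩ := sres φ
  obtain ⟨x₁⟩ := sext m
  obtain ⟨x₂⟩ := sext e₂
  obtain ⟨r₀⟩ := sres f₀
  have hL : DRing.HasTorAmplitudeIn U (-(n₁ : ℤ)) 0 (DRing.toD ((DRing.restrictCx φ.hom).obj
      ((extC' m.hom).obj _))) :=
    hasTorAmplitudeIn_bc_flat (congrArg CommRingCat.Hom.hom hM.w) hM hi₁ _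
      (DRingTor.of_iso (DerivedCategory.Q.mapIso r₁.symm) h₁)
  have hX := hmid _ (hKF C₂) _ _ (DRingTor.of_iso (DerivedCategory.Q.mapIso r₂.symm) h₂)
  letI := φ.hom.toAlgebra
  have hB : DRing.HasTorAmplitudeIn U (-(n₁ : ℤ)) 0 (Dual.inD U M) :=
    DRingTor.of_iso (DerivedCategory.Q.mapIso ((DRing.restrictCx φ.hom).mapIso x₁ ≪≫ rφ ≪≫
        (HomologicalComplex.single _ (ComplexShape.up ℤ) 0).mapIso (resBIso (A := U) M)) ≪≫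
      ((DerivedCategory.singleFunctorIsoCompQ (ModuleCat.{u} U) 0).app _).symm) hL
  have h := DRingTor.hasTorAmplitudeIn_restrictScalars n₁ hB _ _ _ hX
  have h' : DRing.HasTorAmplitudeIn U (-((n₁ + n₂ : ℕ) : ℤ)) 0 (DRing.toD
      ((DRing.restrictCx τ.hom).obj ((DRing.restrictCx f₀.hom).obj
        ((HomologicalComplex.single (ModuleCat.{u} C) (ComplexShape.up ℤ) 0).obj (ModuleCat.of C C))))) := by
    refine DRingTor.mono (a := -(n₂ : ℤ) - (n₁ : ℤ)) (b := 0) (by push_cast; omega) le_rfl ?_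
    refine DRingTor.of_iso ?_ h
    exact (ModuleCat.restrictScalars φ.hom).mapDerivedCategoryFactors.app _ ≪≫ DerivedCategory.Q.mapIso
      ((DRing.restrictCx φ.hom).mapIso ((DRing.restrictCx ψ.hom).mapIso x₂) ≪≫
        (resCompCx φ.hom ψ.hom (φ ≫ ψ).hom rfl _).symm ≪≫
        eqToIso (by rw [hφ]) ≪≫ resCompCx τ.hom f₀.hom (τ ≫ f₀).hom rfl _)
  exact DRingTor.of_iso (DerivedCategory.Q.mapIso r₀) (hasTorAmplitudeIn_of_epi τ.hom hτf ‹Epi τ› _ h')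

end Ring

section Scheme

variable {X Y X' Y' : Scheme.{u}}

/-- Amplitude of a pullback by a flat base change. -/
theorem hasTorAmplitudeAt_bc {g : X' ⟶ X} {f' : X' ⟶ Y'} {f : X ⟶ Y} {h : Y' ⟶ Y} [Flat h]
    (sq : IsPullback g f' f h) {K : CochainComplex X.Modules ℤ} {a b : ℤ}
    {x' : X'} (hK : DerSch.HasTorAmplitudeAt f a b K (g.base x')) :
    DerSch.HasTorAmplitudeAt f' a b ((pullCx g).obj K) x' := by
  have hy : h (f'.base x') = f.base (g.base x') :=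
    (congr($(sq.w) x')).symm
  let c := f.stalkMap (g.base x')
  let a₂ := stm h (f'.base x') (f.base (g.base x')) hy
  let e₁ := g.stalkMap x'
  let e₂ := f'.stalkMap x'
  have hw : c ≫ e₁ = a₂ ≫ e₂ := by
    have h1 := stm_comp g f x' (g.base x') (f.base (g.base x')) rfl rfl
    have h2 := stm_comp f' h x' (f'.base x') (f.base (g.base x')) rfl hy
    rw [stm_self, stm_self] at h1
    rw [stm_self] at h2
    exact h1.symm.trans ((stm_congr sq.w x' _ _).trans h2)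
  have hpo := IsPushout.of_hasPushout c a₂
  let τ := hpo.desc e₁ e₂ hw
  have hτ : τ.hom.Flat :=
    (stalk_pushout (inl := pushout.inl c a₂) (inr := pushout.inr c a₂) sq x' _ _ _ rfl rfl rfl hy
      (by rw [stm_self]; exact hpo) τ (by rw [stm_self]; exact hpo.inl_desc _ _ _)
      (by rw [stm_self]; exact hpo.inr_desc _ _ _)).1
  have h1 := hasTorAmplitudeIn_bc_flat (congrArg CommRingCat.Hom.hom hpo.w) hpo (stm_flat h _ _ hy)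
    ((stalkCx (g.base x')).obj K) hK
  refine DRingTor.of_iso (DerivedCategory.Q.mapIso ?_) (hasTorAmplitudeIn_flat_extC _ τ.hom hτ _ h1)
  exact eqToIso (congrArg (fun χ => (DRing.restrictCx χ).obj _)
      (congrArg CommRingCat.Hom.hom (hpo.inr_desc e₁ e₂ hw))) ≪≫
    (DRing.restrictCx (f'.stalkMap x').hom).mapIso
      ((extCompCx (pushout.inl c a₂).hom τ.hom e₁.hom
          (congrArg CommRingCat.Hom.hom (hpo.inl_desc e₁ e₂ hw)).symm _).symm ≪≫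
        (stalkPullCxIso g x' K).symm)

/-- The same at all points. -/
theorem hasTorAmplitude_bc {g : X' ⟶ X} {f' : X' ⟶ Y'} {f : X ⟶ Y} {h : Y' ⟶ Y} [Flat h]
    (sq : IsPullback g f' f h) {K : CochainComplex X.Modules ℤ} {a b : ℤ}
    (hK : DerSch.HasTorAmplitude f a b K) :
    DerSch.HasTorAmplitude f' a b ((pullCx g).obj K) := fun x' =>
  hasTorAmplitudeAt_bc sq (hK (g.base x'))

/-- Amplitude of `Lg^*` for a flat base change. -/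
theorem hasTorAmplitudeD_lpull_bc {g : X' ⟶ X} {f' : X' ⟶ Y'} {f : X ⟶ Y} {h : Y' ⟶ Y} [Flat h]
    (sq : IsPullback g f' f h) [DCoh.HasLpull g] {F : CochainComplex X.Modules ℤ} {a b : ℤ}
    (hF : DerSch.HasTorAmplitude f a b F) :
    DerSch.HasTorAmplitudeD f' a b ((DCoh.Lpull g).obj (DCoh.toD X F)) :=
  hasTorAmplitudeD_of_rep _ (lpullObjIso g F) (hasTorAmplitude_bc sq (hasTorAmplitude_kRes f hF))

variable {S X₁ Y₁ X₂ Y₂ : Scheme.{u}} {f₁ : X₁ ⟶ Y₁} {q₁ : Y₁ ⟶ S} {f₂ : X₂ ⟶ Y₂} {q₂ : Y₂ ⟶ S}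
  [Flat q₂] [Flat (f₂ ≫ q₂)] {pX₁ : X ⟶ X₁} {pX₂ : X ⟶ X₂}
  {pY₁ : Y ⟶ Y₁} {pY₂ : Y ⟶ Y₂} {f : X ⟶ Y}

/-- The ring data at a point of the source of a product of morphisms. -/
theorem exists_stalk_data (hX : IsPullback pX₁ pX₂ (f₁ ≫ q₁) (f₂ ≫ q₂)) (hY : IsPullback pY₁ pY₂ q₁ q₂)
    (hf₁ : f ≫ pY₁ = pX₁ ≫ f₁) (hf₂ : f ≫ pY₂ = pX₂ ≫ f₂) (x : X) :
    ∃ (A U : CommRingCat.{u}) (a₁ : A ⟶ Y₁.presheaf.stalk (f₁.base (pX₁.base x)))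
      (a₂ : A ⟶ Y₂.presheaf.stalk (f₂.base (pX₂.base x)))
      (i₁ : Y₁.presheaf.stalk (f₁.base (pX₁.base x)) ⟶ U)
      (i₂ : Y₂.presheaf.stalk (f₂.base (pX₂.base x)) ⟶ U) (τ : U ⟶ Y.presheaf.stalk (f.base x))
      (d₁ : Y₁.presheaf.stalk (f₁.base (pX₁.base x)) ⟶ Y.presheaf.stalk (f.base x))
      (d₂ : Y₂.presheaf.stalk (f₂.base (pX₂.base x)) ⟶ Y.presheaf.stalk (f.base x)),
      IsPushout a₁ a₂ i₁ i₂ ∧ a₂.hom.Flat ∧ (a₂ ≫ f₂.stalkMap (pX₂.base x)).hom.Flat ∧ τ.hom.Flat ∧ Epi τ ∧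
      i₁ ≫ τ = d₁ ∧ i₂ ≫ τ = d₂ ∧
      d₁ ≫ f.stalkMap x = f₁.stalkMap (pX₁.base x) ≫ pX₁.stalkMap x ∧
      d₂ ≫ f.stalkMap x = f₂.stalkMap (pX₂.base x) ≫ pX₂.stalkMap x ∧
      ∀ (T : CommRingCat.{u}) (inl : X₁.presheaf.stalk (pX₁.base x) ⟶ T)
        (inr : X₂.presheaf.stalk (pX₂.base x) ⟶ T),
        IsPushout (a₁ ≫ f₁.stalkMap (pX₁.base x)) (a₂ ≫ f₂.stalkMap (pX₂.base x)) inl inr →
        ∀ τ' : T ⟶ X.presheaf.stalk x, inl ≫ τ' = pX₁.stalkMap x → inr ≫ τ' = pX₂.stalkMap x →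
          τ'.hom.Flat := by
  let x₁ := pX₁.base x
  let x₂ := pX₂.base x
  let y := f.base x
  have hy₁ : pY₁ y = f₁.base x₁ := congr($(hf₁) x)
  have hy₂ : pY₂ y = f₂.base x₂ := congr($(hf₂) x)
  let s := q₁.base (f₁.base x₁)
  have hs : q₂ (f₂.base x₂) = s := (congr($(hX.w) x)).symm
  let a₁ := stm q₁ (f₁.base x₁) s rfl
  let a₂ := stm q₂ (f₂.base x₂) s hs
  let d₁ := stm pY₁ y _ hy₁
  let d₂ := stm pY₂ y _ hy₂
  have hU := IsPushout.of_hasPushout a₁ a₂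
  have hd : a₁ ≫ d₁ = a₂ ≫ d₂ :=
    (stm_comp pY₁ q₁ y _ s hy₁ rfl).symm.trans
      ((stm_congr hY.w y s _).trans (stm_comp pY₂ q₂ y _ s hy₂ hs))
  let τ := hU.desc d₁ d₂ hd
  have hτ := stalk_pushout (inl := pushout.inl a₁ a₂) (inr := pushout.inr a₁ a₂) hY y _ _ s hy₁ hy₂ rfl hs
    hU τ (hU.inl_desc _ _ _) (hU.inr_desc _ _ _)
  have hc₂ : stm (f₂ ≫ q₂) x₂ s hs = a₂ ≫ f₂.stalkMap x₂ := by
    rw [← stm_self f₂ x₂]
    exact stm_comp f₂ q₂ x₂ _ s rfl hs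
  have hc₁ : stm (f₁ ≫ q₁) x₁ s rfl = a₁ ≫ f₁.stalkMap x₁ := by
    rw [← stm_self f₁ x₁]
    exact stm_comp f₁ q₁ x₁ _ s rfl rfl
  refine ⟨_, _, a₁, a₂, _, _, τ, d₁, d₂, hU, stm_flat q₂ _ _ hs, hc₂ ▸ stm_flat (f₂ ≫ q₂) _ _ hs,
    hτ.1, hτ.2, hU.inl_desc _ _ _, hU.inr_desc _ _ _, ?_, ?_, fun T inl inr hpo τ' hl hr => ?_⟩
  · rw [← stm_self f x, ← stm_self f₁ x₁, ← stm_self pX₁ x]
    exact (stm_comp f pY₁ x y _ rfl hy₁).symm.trans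
      ((stm_congr hf₁ x _ _).trans (stm_comp pX₁ f₁ x x₁ _ rfl rfl))
  · rw [← stm_self f x, ← stm_self f₂ x₂, ← stm_self pX₂ x]
    exact (stm_comp f pY₂ x y _ rfl hy₂).symm.trans
      ((stm_congr hf₂ x _ _).trans (stm_comp pX₂ f₂ x x₂ _ rfl rfl))
  · rw [← hc₁, ← hc₂] at hpo
    exact (stalk_pushout hX x x₁ x₂ s rfl rfl rfl hs hpo τ' (by rw [stm_self]; exact hl)
      (by rw [stm_self]; exact hr)).1

/-- Amplitude of an external product. -/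
theorem hasTorAmplitude_external (hX : IsPullback pX₁ pX₂ (f₁ ≫ q₁) (f₂ ≫ q₂))
    (hY : IsPullback pY₁ pY₂ q₁ q₂) (hf₁ : f ≫ pY₁ = pX₁ ≫ f₁) (hf₂ : f ≫ pY₂ = pX₂ ≫ f₂)
    {K₁ : CochainComplex X₁.Modules ℤ} (hK₁ : DCoh.IsKFlat K₁) {α₁ β₁ : ℤ}
    (h₁ : DerSch.HasTorAmplitude f₁ α₁ β₁ K₁)
    {K₂ : CochainComplex X₂.Modules ℤ} (hK₂ : DCoh.IsKFlat K₂) {α₂ β₂ : ℤ}
    (h₂ : DerSch.HasTorAmplitude f₂ α₂ β₂ K₂) :
    DerSch.HasTorAmplitude f (α₁ + α₂) (β₁ + β₂)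
      ((DCoh.tensorCx.obj ((pullCx pX₂).obj K₂)).obj ((pullCx pX₁).obj K₁)) := fun x => by
  obtain ⟨A, U, a₁, a₂, i₁, i₂, τ, d₁, d₂, hU, ha₂, hc₂, hτf, hepi, hd₁, hd₂, he₁, he₂, hτ⟩ :=
    exists_stalk_data hX hY hf₁ hf₂ x
  haveI := hepi
  refine DRingTor.of_iso (DerivedCategory.Q.mapIso ?_)
    (hasTorAmplitudeIn_external (f₁.stalkMap (pX₁.base x)) (f₂.stalkMap (pX₂.base x)) hU ha₂ hc₂ τ hτf
      hd₁ hd₂ he₁ he₂ hτ ((stalkCx (pX₁.base x)).obj K₁) ((kFlat_iff_stalk K₁).1 hK₁ _)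
      ((stalkCx (pX₂.base x)).obj K₂) ((kFlat_iff_stalk K₂).1 hK₂ _) (h₁ _) (h₂ _))
  exact (DRing.restrictCx (f.stalkMap x).hom).mapIso
    (((curriedTensor (ModuleCat.{u} (X.presheaf.stalk x))).map₂CochainComplex.obj _).mapIso
        (stalkPullCxIso pX₁ x K₁).symm ≪≫
      ((curriedTensor (ModuleCat.{u} (X.presheaf.stalk x))).map₂CochainComplex.mapIso
        (stalkPullCxIso pX₂ x K₂).symm).app _ ≪≫
      stalkTensorCxIso x ((pullCx pX₂).obj K₂) ((pullCx pX₁).obj K₁))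

/-- Tor dimension of a product of morphisms. -/
theorem hasTorDimLE_external (hX : IsPullback pX₁ pX₂ (f₁ ≫ q₁) (f₂ ≫ q₂))
    (hY : IsPullback pY₁ pY₂ q₁ q₂) (hf₁ : f ≫ pY₁ = pX₁ ≫ f₁) (hf₂ : f ≫ pY₂ = pX₂ ≫ f₂)
    {n₁ n₂ : ℕ} (h₁ : DerSch.HasTorDimLE f₁ n₁) (h₂ : DerSch.HasTorDimLE f₂ n₂) :
    DerSch.HasTorDimLE f (n₁ + n₂) := fun x => by
  obtain ⟨A, U, a₁, a₂, i₁, i₂, τ, d₁, d₂, hU, ha₂, hc₂, hτf, hepi, hd₁, hd₂, he₁, he₂, hτ⟩ :=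
    exists_stalk_data hX hY hf₁ hf₂ x
  haveI := hepi
  exact DRingTor.of_iso (DerivedCategory.Q.mapIso (stalkUnitCxIso f x).symm)
    (hasTorAmplitudeIn_external_unit (f₁.stalkMap (pX₁.base x)) (f₂.stalkMap (pX₂.base x)) hU ha₂ hc₂ τ hτf
      hd₁ hd₂ he₁ he₂ hτ (DRingTor.of_iso (DerivedCategory.Q.mapIso (stalkUnitCxIso f₁ _)) (h₁ _))
      (DRingTor.of_iso (DerivedCategory.Q.mapIso (stalkUnitCxIso f₂ _)) (h₂ _)))

/-- The external derived product has the expected amplitude. -/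
theorem hasTorAmplitudeD_external (hX : IsPullback pX₁ pX₂ (f₁ ≫ q₁) (f₂ ≫ q₂))
    (hY : IsPullback pY₁ pY₂ q₁ q₂) (hf₁ : f ≫ pY₁ = pX₁ ≫ f₁) (hf₂ : f ≫ pY₂ = pX₂ ≫ f₂)
    {E₁ : CochainComplex X₁.Modules ℤ} {α₁ β₁ : ℤ} (h₁ : DerSch.HasTorAmplitude f₁ α₁ β₁ E₁)
    {E₂ : CochainComplex X₂.Modules ℤ} {α₂ β₂ : ℤ} (h₂ : DerSch.HasTorAmplitude f₂ α₂ β₂ E₂)
    [DCoh.HasLpull pX₁] [DCoh.HasLpull pX₂] {K₂ : CochainComplex X.Modules ℤ} [DCoh.HasLTensorCx K₂]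
    (e : DCoh.toD X K₂ ≅ (DCoh.Lpull pX₂).obj (DCoh.toD X₂ E₂)) :
    DerSch.HasTorAmplitudeD f (α₁ + α₂) (β₁ + β₂)
      ((DCoh.LTensorCx K₂).obj ((DCoh.Lpull pX₁).obj (DCoh.toD X₁ E₁))) := by
  let P₁ := (pullCx pX₁).obj ((kRes X₁).obj E₁)
  let P₂ := (pullCx pX₂).obj ((kRes X₂).obj E₂)
  have hP₁ : DCoh.IsKFlat P₁ := isKFlat_pullback pX₁ (isKFlat_kRes E₁)
  haveI := isIso_LTensorCx_counit K₂ hP₁
  refine hasTorAmplitudeD_of_rep f ?_ (hasTorAmplitude_external hX hY hf₁ hf₂ (isKFlat_kRes E₁)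
    (hasTorAmplitude_kRes f₁ h₁) (isKFlat_kRes E₂) (hasTorAmplitude_kRes f₂ h₂))
  refine ?_ ≪≫ (asIso (((DCoh.tensorCxQ K₂).totalLeftDerivedCounit DerivedCategory.Q (qisX X)).app P₁)).symm ≪≫
    (DCoh.LTensorCx K₂).mapIso (lpullObjIso pX₁ E₁)
  let Φ := DCoh.tensorCx.flip.obj P₁ ⋙ DerivedCategory.Q
  have hΦ : (qisX X).IsInvertedBy Φ := fun K K' s hs => by
    haveI : QuasiIso s := hs
    haveI : QuasiIso ((DCoh.tensorBi.map₂CochainComplex.map s).app P₁) :=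
      KFlat.quasiIso_map (T := DCoh.tensorBi) hP₁ s
    exact (DerivedCategory.isIso_Q_map_iff_quasiIso _ _).2 this
  exact ((Localization.fac Φ hΦ DerivedCategory.Q).app P₂).symm ≪≫
    (Localization.lift Φ hΦ DerivedCategory.Q).mapIso (lpullObjIso pX₂ E₂ ≪≫ e.symm) ≪≫
    (Localization.fac Φ hΦ DerivedCategory.Q).app K₂ ≪≫
    DerivedCategory.Q.mapIso ((symmIso (tensorBiFlipIso X) K₂).app P₁).symm

end Scheme

end Groth.Agent.RelPC65
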