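import Groth.Agent.PerfMor.FlatPC
import Groth.Agent.H9Misc.DRingRelPC2
import Groth.Agent.H9Misc.DRingCechCompl
import Mathlib

/-!
# A flat finitely presented module over a polynomial ring is pseudo-coherent
-/

set_option linter.style.haveILetI false
set_option backward.isDefEq.respectTransparency false
set_option backward.isDefEq.respectTransparency.types false

universe u

open CategoryTheory CategoryTheory.Limits MvPolynomial
open Groth.Agent.H9Misc

attribute [local instance] HasDerivedCategory.standard

namespace Groth.Agent.RelPC65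

/-- A module finitely presented over a polynomial ring `P` over `A` and flat over `A` is pseudo-coherent
over `P` (apply the statement about flat finitely presented algebras to `P ⊕ M`). -/
theorem pc'_of_flat_fp {A : Type u} [CommRing A] {n : ℕ} (M : Type u) [AddCommGroup M]
    [Module (MvPolynomial (Fin n) A) M] [Module.FinitePresentation (MvPolynomial (Fin n) A) M]
    [Module A M] [IsScalarTower A (MvPolynomial (Fin n) A) M] [Module.Flat A M] :
    DRing.IsPseudoCoherentModule' (MvPolynomial (Fin n) A) M := by
  let P := MvPolynomial (Fin n) A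
  letI : Module Pᵐᵒᵖ M := Module.compHom M ((RingHom.id P).fromOpposite mul_comm)
  haveI : IsCentralScalar P M := ⟨fun _ _ => rfl⟩
  haveI : IsScalarTower A Pᵐᵒᵖ M := ⟨fun a p x => smul_assoc a p.unop x⟩
  haveI : SMulCommClass P Pᵐᵒᵖ M := ⟨fun p q x => smul_comm p q.unop x⟩
  let B := TrivSqZeroExt P M
  let e : (P × M) ≃ₗ[P] B := LinearEquiv.refl P (P × M)
  haveI : Module.FinitePresentation P B := Module.FinitePresentation.of_equiv e
  haveI : Module.Finite P B := inferInstance
  haveI : Algebra.FinitePresentation P B := Algebra.FinitePresentation.of_finitePresentation _ _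
  haveI : IsScalarTower A P B := IsScalarTower.of_algebraMap_eq fun _ => rfl
  haveI : Algebra.FinitePresentation A B := Algebra.FinitePresentation.trans A P B
  haveI : Module.Flat A (P × M) :=
    DRingCechCompl.flat_prod (Module.Flat.of_free (R := A) (M := P)) inferInstance
  haveI : Module.Flat A B := Module.Flat.of_linearEquiv (e.restrictScalars A).symm
  obtain ⟨k, ψ, hC, hψ, hp⟩ := PerfMor.q_of_flat_fp A B
  let α : MvPolynomial (Fin k) A →ₐ[A] B := { ψ with commutes' := RingHom.congr_fun hC }
  have hall : ∀ m : ℤ, DerCA.IsRelPseudoCoherent A B m (Dual.inD B (ModuleCat.of B B)) := fun m =>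
    ⟨k, α, hψ, DRingPC.of_iso (DRingRestrict.restrictInDIso _ _).symm ((DRingPC.pc'_iff _).1 hp m)⟩
  have hB : DRing.IsPseudoCoherentModule' P ((ModuleCat.restrictScalars (algebraMap P B)).obj (ModuleCat.of B B)) :=
    (DRingPC.pc'_iff _).2 fun m => by
      have h := (DRingRelPC.finite_iff (R := A) (A := P) (B := B) _ m).1 (hall m)
      have h2 := (DRingRelPC.iff_via (AlgHom.id A P) Function.surjective_id _ m).1 h
      exact DRingPC.of_iso (((DRingRelPC.restrictDCompIso (RingHom.id P) (algebraMap P B)).app _).symm ≪≫
        DRingRestrict.restrictInDIso _ _) h2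
  let e0 : ((ModuleCat.restrictScalars (algebraMap P B)).obj (ModuleCat.of B B) : Type u) ≃ₗ[P] B :=
    { AddEquiv.refl B with map_smul' := fun p x => (Algebra.smul_def (A := B) p x).symm }
  let eB : (ModuleCat.restrictScalars (algebraMap P B)).obj (ModuleCat.of B B) ≅
      ModuleCat.of P P ⊞ ModuleCat.of P M :=
    (e0.trans e.symm).toModuleIso ≪≫
      (ModuleCat.biprodIsoProd (ModuleCat.of P P) (ModuleCat.of P M)).symm
  let F := DerivedCategory.singleFunctor (ModuleCat.{u} P) 0
  haveI := preservesBinaryBiproducts_of_preservesBiproducts F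
  exact (DRingPC.summand' (DRingPC.of_iso'
    (F.mapIso eB ≪≫
      F.mapBiprod _ _) hB)).2

end Groth.Agent.RelPC65
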