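import Groth.Agent.RelPC65.StalkTor
import Groth.Agent.RelPC13.TensPC
import Groth.Agent.H9Misc.DRingPerfect
import Groth.Agent.H9Misc.DRingDesc
import Mathlib.Algebra.Homology.BifunctorShift
import Mathlib.Algebra.Homology.HomotopyCategory.DegreewiseSplit

/-!
# Tensor products of pseudo-coherent complexes
-/

set_option autoImplicit false
set_option linter.style.haveILetI false
set_option backward.isDefEq.respectTransparency false
set_option backward.isDefEq.respectTransparency.types false

universe u

open CategoryTheory CategoryTheory.Limits MonoidalCategory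
open CategoryTheory.Pretriangulated

attribute [local instance] HasDerivedCategory.standard

namespace Groth.Agent.RelPC65

open Groth.Agent.KFlatLib Groth.Agent.H9Misc Groth.Agent.H9Misc.DRingLTensor Groth.Agent.RelPC13

variable {P' A' : Type u} [CommRing P'] [CommRing A'] (θ : P' →+* A') {K : DRing.Cx A'}

/-- `X ⊗ K` on complexes. -/
noncomputable abbrev tns (X K : DRing.Cx A') : DRing.Cx A' :=
  ((curriedTensor (ModuleCat.{u} A')).map₂CochainComplex.obj X).obj K

/-- Upper bound for the cohomology of a tensor product with a K-flat complex. -/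
lemma exactAt_tensor_above {X : DRing.Cx A'} (hK : IsKF K) {b d : ℤ} (hX : ∀ j, b < j → X.ExactAt j)
    (hKz : ∀ j, d < j → K.ExactAt j) {i : ℤ} (hi : b + d < i) : (tns X K).ExactAt i := by
  obtain ⟨R, ψ, hψ, hflat, hRb⟩ := (ringCover A').exists_bounded_resolution X b fun m hm =>
    (HomologicalComplex.exactAt_iff_isZero_homology _ _).1 (hX m hm)
  haveI := hψ
  have hR : IsKF R := DRingTor.isKF_of_flat hflat hRb
  haveI : QuasiIso (((curriedTensor (ModuleCat.{u} A')).map₂CochainComplex.map ψ).app K) :=
    hK.quasiIso_map ψ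
  refine (DRingTorLTensor.exactAt_iff_of_quasiIso
    (((curriedTensor (ModuleCat.{u} A')).map₂CochainComplex.map ψ).app K) i).1 ?_
  haveI : K.IsLE d := (CochainComplex.isLE_iff K d).2 fun j hj => hKz j hj
  haveI : QuasiIso (((curriedTensor (ModuleCat.{u} A')).map₂CochainComplex.obj R).map (K.ιTruncLE d)) :=
    quasiIso_tensorHom_id _ hR
  refine (DRingTorLTensor.exactAt_iff_of_quasiIso
    (((curriedTensor (ModuleCat.{u} A')).map₂CochainComplex.obj R).map (K.ιTruncLE d)) i).1 ?_
  exact ShortComplex.exact_of_isZero_X₂ _ (DRingLTensorCx.vanishesAbove_tensor (P := R) hRb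
    (fun j hj => CochainComplex.isZero_of_isStrictlyLE (K.truncLE d) d j hj) i hi)

lemma pc_of_exactAt {m : ℤ} {Y : DRing.Cx A'} (h : ∀ j, m ≤ j → Y.ExactAt j) :
    DRing.IsPseudoCoherent P' m ((DRing.restrictD θ).obj (DRing.toD Y)) :=
  DRingPC.of_vanish _ fun i hi => DRingRestrict.isZero_H_restrict θ
    (((HomologicalComplex.exactAt_iff_isZero_homology _ _).1 (h i hi)).of_iso
      ((DerivedCategory.homologyFunctorFactors (ModuleCat.{u} A') i).app _))

/-- A module in degree `q` tensored with a complex. -/
noncomputable def tensCSingleIso (q : ℤ) (N : ModuleCat.{u} A') (K : DRing.Cx A') :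
    (tensC N).obj (K⟦-q⟧) ≅
      tns ((HomologicalComplex.single (ModuleCat.{u} A') (ComplexShape.up ℤ) q).obj N) K :=
  let T := curriedTensor (ModuleCat.{u} A')
  let S := (HomologicalComplex.single (ModuleCat.{u} A') (ComplexShape.up ℤ) 0).obj N
  ((singleIso T N).app (K⟦-q⟧)).symm ≪≫ (symmIso curriedTensorFlipIso S).app (K⟦-q⟧) ≪≫
    CochainComplex.mapBifunctorShift₂Iso S K T (-q) ≪≫
    (CochainComplex.mapBifunctorShift₁Iso S K T (-q)).symm ≪≫
    (T.map₂CochainComplex.mapIso
      (((CochainComplex.singleFunctors (ModuleCat.{u} A')).shiftIso (-q) q 0 (by omega)).app N)).app K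

variable {c : ℤ}

/-- A finite projective module in degree `q`. -/
lemma pc_tensor_single (hK : DRing.IsPseudoCoherent P' c ((DRing.restrictD θ).obj (DRing.toD K)))
    (q : ℤ) (N : ModuleCat.{u} A') [Module.Finite A' N] [Module.Projective A' N] :
    DRing.IsPseudoCoherent P' (q + c) ((DRing.restrictD θ).obj (DRing.toD
      (tns ((HomologicalComplex.single (ModuleCat.{u} A') (ComplexShape.up ℤ) q).obj N) K))) := by
  refine DRingPC.of_iso ((DRing.restrictD θ).mapIso (DerivedCategory.Q.mapIso (tensCSingleIso q N K))) ?_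
  have hK' : DRing.IsPseudoCoherent P' (q + c)
      ((DRing.restrictD θ).obj (DRing.toD (K⟦-q⟧))) := by
    refine DRingPC.of_iso ?_ (show DRing.IsPseudoCoherent P' (q + c) _ from by
      have h := DRingPC.shift hK (-q)
      rwa [show c - -q = q + c by ring] at h)
    exact (((DRing.restrictD θ).commShiftIso (-q)).app (DRing.toD K)).symm ≪≫
      (DRing.restrictD θ).mapIso ((DerivedCategory.Q.commShiftIso (-q)).app K).symm
  obtain ⟨n, π, hπ⟩ := Module.Finite.exists_fin' A' N
  obtain ⟨s, hs⟩ := Module.projective_lifting_property π LinearMap.id hπ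
  let r : ModuleCat.of A' (Fin n → A') ⟶ N := ModuleCat.ofHom π
  let sec : N ⟶ ModuleCat.of A' (Fin n → A') := ModuleCat.ofHom s
  have hsr : sec ≫ r = 𝟙 _ := ModuleCat.hom_ext hs
  let S : ShortComplex (ModuleCat.{u} A') := ShortComplex.mk (kernel.ι r) r (kernel.condition r)
  let sp : S.Splitting := ShortComplex.Splitting.ofExactOfSection S
    (ShortComplex.exact_of_f_is_kernel S (kernelIsKernel r)) sec hsr inferInstance
  haveI := preservesBinaryBiproducts_of_preservesBiproducts (tensRes θ (K⟦-q⟧))
  let e : ModuleCat.of A' (Fin n → A') ≅ kernel r ⊞ N := sp.isoBinaryBiproduct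
  exact (DRingPC.summand (DRingPC.of_iso
    ((tensRes θ (K⟦-q⟧)).mapIso e ≪≫ (tensRes θ (K⟦-q⟧)).mapBiprod _ _) (pc_tensRes_free hK' n))).2

/-- A bounded complex of finite projective modules. -/
lemma pc_tensor_finProj (hK : DRing.IsPseudoCoherent P' c ((DRing.restrictD θ).obj (DRing.toD K))) :
    ∀ (k : ℕ) (q : ℤ) (F : DRing.Cx A'), (∀ i, (i ≤ q - k ∨ q < i) → IsZero (F.X i)) →
      DRing.TermwiseFiniteProjective F →
      DRing.IsPseudoCoherent P' (q + c) ((DRing.restrictD θ).obj (DRing.toD (tns F K))) := by
  intro k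
  induction k with
  | zero =>
    intro q F hz _
    have hF : IsZero F := (IsZero.iff_id_eq_zero _).2 (HomologicalComplex.hom_ext _ _ fun i =>
      (hz i (by rcases le_or_gt i q with h | h
                · exact Or.inl (by omega)
                · exact Or.inr h)).eq_of_src _ _)
    refine DRingPC.of_vanish _ fun i _ => Functor.map_isZero _ ((DRing.restrictD θ).map_isZero ?_)
    exact DerivedCategory.Q.map_isZero
      (((curriedTensor (ModuleCat.{u} A')).map₂CochainComplex.flip.obj K).map_isZero hF)
  | succ k ih =>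
    intro q F hz hP
    let ι : (HomologicalComplex.single (ModuleCat.{u} A') (ComplexShape.up ℤ) q).obj (F.X q) ⟶ F :=
      HomologicalComplex.mkHomFromSingle (𝟙 _)
        fun i (hi : q + 1 = i) => (hz i (Or.inr (by omega))).eq_of_tgt _ _
    have hιq : ι.f q = (HomologicalComplex.singleObjXSelf (ComplexShape.up ℤ) q (F.X q)).hom := by
      simp [ι]
    haveI : ∀ i, Mono (ι.f i) := fun i => by
      rcases eq_or_ne i q with rfl | hi
      · rw [hιq]; infer_instance
      · exact ⟨fun g h _ => (HomologicalComplex.isZero_single_obj_X _ _ _ _ hi).eq_of_tgt g h⟩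
    haveI : Mono ι := HomologicalComplex.mono_of_mono_f ι inferInstance
    let S := ShortComplex.mk ι (cokernel.π ι) (cokernel.condition ι)
    have hS : S.ShortExact :=
      { exact := ShortComplex.exact_of_g_is_cokernel _ (cokernelIsCokernel ι) }
    have hS' := fun i : ℤ => hS.map_of_exact (HomologicalComplex.eval (ModuleCat.{u} A') (ComplexShape.up ℤ) i)
    have hq' : IsZero ((cokernel ι).X q) := by
      haveI : Epi ((cokernel.π ι).f q) := (hS' q).epi_g
      haveI : Epi (ι.f q) := by rw [hιq]; infer_instance
      refine IsZero.of_epi_eq_zero ((cokernel.π ι).f q) ((cancel_epi (ι.f q)).1 ?_)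
      rw [← HomologicalComplex.comp_f, cokernel.condition, comp_zero]
      rfl
    have hne : ∀ i, i ≠ q → IsIso ((cokernel.π ι).f i) := fun i hi => by
      haveI : Epi ((cokernel.π ι).f i) := (hS' i).epi_g
      haveI : Mono ((cokernel.π ι).f i) := (hS' i).exact.mono_g
        ((HomologicalComplex.isZero_single_obj_X (ComplexShape.up ℤ) q (F.X q) i hi).eq_of_src _ _)
      exact isIso_of_mono_of_epi _
    have hPc : DRing.TermwiseFiniteProjective (cokernel ι) := fun i => by
      rcases eq_or_ne i q with rfl | hi
      · haveI := ModuleCat.subsingleton_of_isZero hq'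
        exact ⟨inferInstance, inferInstance⟩
      · haveI := hne i hi
        let e := (asIso ((cokernel.π ι).f i)).toLinearEquiv
        haveI := (hP i).1
        haveI := (hP i).2
        exact ⟨Module.Finite.equiv e, Module.Projective.of_equiv e⟩
    have hzc : ∀ i, (i ≤ q - 1 - k ∨ q - 1 < i) → IsZero ((cokernel ι).X i) := fun i hi => by
      rcases eq_or_ne i q with rfl | hiq
      · exact hq'
      · haveI := hne i hiq
        exact (hz i (by omega)).of_iso (asIso ((cokernel.π ι).f i)).symm
    have h₃ := DRingPC.mono (show q - 1 + c ≤ q + c by omega) (ih (q - 1) (cokernel ι) hzc hPc)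
    have hsplit : ∀ n, Nonempty
        (S.map (HomologicalComplex.eval (ModuleCat.{u} A') (ComplexShape.up ℤ) n)).Splitting := fun n => by
      haveI : Module.Projective A' ((cokernel ι).X n) := (hPc n).2
      haveI : Projective (S.map (HomologicalComplex.eval (ModuleCat.{u} A') (ComplexShape.up ℤ) n)).X₃ :=
        (IsProjective.iff_projective _).1 this
      exact ⟨(hS' n).splittingOfProjective⟩
    have hT := shortExact₁_of_splitting (T := curriedTensor (ModuleCat.{u} A')) K S hsplit
    haveI := (hP q).1
    haveI := (hP q).2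
    exact (Groth.Agent.S2067.result _
      ((DRing.restrictD θ).map_distinguished _ (DerivedCategory.triangleOfSES_distinguished hT)) (q + c)).2.1
      (pc_tensor_single θ hK q (F.X q)) h₃

lemma exists_lift_hom {F X : DRing.Cx A'} [F.IsKProjective]
    (α : DerivedCategory.Q.obj F ⟶ DerivedCategory.Q.obj X) :
    ∃ β : F ⟶ X, DerivedCategory.Q.map β = α := by
  let q := DerivedCategory.quotientCompQhIso (ModuleCat.{u} A')
  obtain ⟨g, hg⟩ := (CochainComplex.IsKProjective.Qh_map_bijective F
    ((HomotopyCategory.quotient _ _).obj X)).2 (q.hom.app F ≫ α ≫ q.inv.app X)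
  obtain ⟨β, rfl⟩ := (HomotopyCategory.quotient _ _).map_surjective g
  refine ⟨β, ?_⟩
  have := q.hom.naturality β
  simp only [Functor.comp_map, hg, Category.assoc, Iso.inv_hom_id_app, Category.comp_id] at this
  exact (cancel_epi (q.hom.app F)).1 this.symm

/-- Tensor product of a pseudo-coherent complex with a relatively pseudo-coherent one. -/
theorem pc_tensor (hK : IsKF K) {d : ℤ} (hKz : ∀ j, d < j → K.ExactAt j)
    (hKpc : DRing.IsPseudoCoherent P' c ((DRing.restrictD θ).obj (DRing.toD K)))
    {a b : ℤ} {X : DRing.Cx A'} (hXz : ∀ j, b < j → X.ExactAt j)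
    (hX : DRing.IsPseudoCoherent A' a (DRing.toD X)) :
    DRing.IsPseudoCoherent P' (max (a + d) (b + c)) ((DRing.restrictD θ).obj (DRing.toD (tns X K))) := by
  rcases lt_or_ge b a with hab | hab
  · exact pc_of_exactAt θ fun j hj => exactAt_tensor_above hK hXz hKz
      (by have := le_max_left (a + d) (b + c); omega)
  obtain ⟨E, p, q, α, hz, hE, hiso, hepi⟩ := hX
  let HF := DerivedCategory.homologyFunctor (ModuleCat.{u} A')
  have hpc : DRing.IsPseudoCoherent' A' (DRing.toD E) :=
    ⟨E, q, fun i hi => hz i (Or.inr hi), hE, ⟨Iso.refl _⟩⟩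
  have hamp : DRing.HasTorAmplitudeIn A' p b (DRing.toD E) := by
    refine DRingTor.shrink (DRingPerfect.amp_of_finProj hz
      (fun i => haveI := (hE i).2; inferInstance) (Iso.refl _)) fun i hi => ?_
    haveI := hiso i (by omega)
    exact (((HomologicalComplex.exactAt_iff_isZero_homology _ _).1 (hXz i hi)).of_iso
      ((DerivedCategory.homologyFunctorFactors (ModuleCat.{u} A') i).app X)).of_iso (asIso ((HF i).map α))
  obtain ⟨F, hFz, hF, ⟨eF⟩⟩ := DRingPerfect.exists_finProj_rep hpc hamp
  haveI : F.IsKProjective :=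
    DRingProjAmp.isKProjective (fun i => (hF i).2) (b := b) (fun i hi => hFz i (Or.inr hi))
  obtain ⟨β, hβ⟩ := exists_lift_hom (eF.hom ≫ α)
  have hβiso : ∀ i, a < i → IsIso ((HF i).map (DerivedCategory.Q.map β)) := fun i hi => by
    haveI := hiso i hi
    rw [hβ, Functor.map_comp]; infer_instance
  have hβepi : ∀ i, a ≤ i → Epi ((HF i).map (DerivedCategory.Q.map β)) := fun i hi => by
    rcases eq_or_lt_of_le hi with rfl | h
    · haveI := hepi
      rw [hβ, Functor.map_comp]; infer_instance
    · haveI := hβiso i h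
      infer_instance
  let C := CochainComplex.mappingCone β
  let T := DerivedCategory.Q.mapTriangle.obj (CochainComplex.mappingCone.triangle β)
  have hTd : T ∈ distinguishedTriangles := DerivedCategory.mappingCone_triangle_distinguished β
  have hC : ∀ j, a ≤ j → C.ExactAt j := fun j hj => by
    rw [HomologicalComplex.exactAt_iff_isZero_homology]
    refine IsZero.of_iso ?_ ((DerivedCategory.homologyFunctorFactors (ModuleCat.{u} A') j).app C).symm
    refine (DerivedCategory.HomologySequence.exact₃ T hTd j (j + 1) rfl).isZero_X₂ ?_ ?_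
    · exact (DerivedCategory.HomologySequence.epi_homologyMap_mor₁_iff T hTd j).1 (hβepi j hj)
    · haveI := hβiso (j + 1) (by omega)
      exact (DerivedCategory.HomologySequence.mono_homologyMap_mor₁_iff T hTd j (j + 1) rfl).1
        (inferInstanceAs (Mono ((HF (j + 1)).map (DerivedCategory.Q.map β))))
  let S := CochainComplex.mappingCone.triangleRotateShortComplex β
  have hT := shortExact₁_of_splitting (T := curriedTensor (ModuleCat.{u} A')) K S
    fun n => ⟨CochainComplex.mappingCone.triangleRotateShortComplexSplitting β n⟩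
  let m := max (a + d) (b + c)
  have h₂ : DRing.IsPseudoCoherent P' m ((DRing.restrictD θ).obj (DRing.toD (tns C K))) :=
    pc_of_exactAt θ fun j hj => exactAt_tensor_above (b := a - 1) hK
      (fun l hl => hC l (by omega)) hKz (by have := le_max_left (a + d) (b + c); omega)
  have h₃ : DRing.IsPseudoCoherent P' (m - 1) ((DRing.restrictD θ).obj (DRing.toD (tns (F⟦(1 : ℤ)⟧) K))) := by
    refine DRingPC.mono (show b - 1 + c ≤ m - 1 by have := le_max_right (a + d) (b + c); omega) ?_
    exact pc_tensor_finProj θ hKpc (b - p + 1).toNat (b - 1) _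
      (fun i hi => hFz (i + 1) (by omega)) (fun i => hF (i + 1))
  have h := (Groth.Agent.S2067.result _
    ((DRing.restrictD θ).map_distinguished _ (DerivedCategory.triangleOfSES_distinguished hT)) (m - 1)).2.2
    (show DRing.IsPseudoCoherent P' (m - 1 + 1) _ by rw [sub_add_cancel]; exact h₂) h₃
  rw [sub_add_cancel] at h
  exact h

end Groth.Agent.RelPC65
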