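import Groth.Agent.QCoh.TensorSections
import Groth.Agent.QCoh.Tilde
import Groth.Agent.KFlatLib.Scheme.PullTensorCx
import Groth.Agent.KFlatLib.Scheme.Tilde
import Groth.Agent.KFlatLib.Scheme.StalkCx

/-!
# The tilde functor commutes with tensor products, naturally
-/

set_option autoImplicit false
set_option linter.style.haveILetI false
set_option backward.isDefEq.respectTransparency false
set_option backward.isDefEq.respectTransparency.types false
set_option maxHeartbeats 800000

universe u

open CategoryTheory CategoryTheory.Limits AlgebraicGeometry TopologicalSpace Opposite MonoidalCategory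
open scoped TensorProduct

namespace Groth.Agent.RelPC65

variable {R : CommRingCat.{u}}

/-- `M ⊗ N` as global sections of the tensor product of sheaves. -/
noncomputable def tmTopEquiv (M N : ModuleCat.{u} R) :
    (M ⊗ N : ModuleCat.{u} R) ≃ₗ[R]
      moduleSpecΓFunctor.obj ((DCoh.tensorBi.obj (tilde M)).obj (tilde N)) :=
  haveI : TensorProduct.CompatibleSMul R Γ(Spec R, ⊤) Γ(tilde M, ⊤) Γ(tilde N, ⊤) := ⟨fun g m n => by
    obtain ⟨r, rfl⟩ : ∃ r : R, algebraMap R Γ(Spec R, ⊤) r = g := by
      refine ⟨(Scheme.ΓSpecIso R).hom g, ?_⟩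
      change ((Spec R).presheaf.map (⊤ : (Spec R).Opens).leTop.op)
        ((Scheme.ΓSpecIso R).inv ((Scheme.ΓSpecIso R).hom g)) = g
      rw [Subsingleton.elim (⊤ : (Spec R).Opens).leTop (𝟙 _), op_id, CategoryTheory.Functor.map_id]
      exact congr($((Scheme.ΓSpecIso R).hom_inv_id) g)
    rw [algebraMap_smul, algebraMap_smul, TensorProduct.smul_tmul]⟩
  ((TensorProduct.congr (tilde.isoTop M).toLinearEquiv (tilde.isoTop N).toLinearEquiv).trans
    (TensorProduct.equivOfCompatibleSMul Γ(Spec R, ⊤) R R Γ(tilde M, ⊤) Γ(tilde N, ⊤))).trans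
    ((LinearEquiv.ofBijective _ (QCoh.bijective_tmLin (M := tilde M) (N := tilde N)
      inferInstance inferInstance (isAffineOpen_top (Spec R)))).restrictScalars R)

lemma tmTopEquiv_tmul (M N : ModuleCat.{u} R) (m : M) (n : N) :
    tmTopEquiv M N (m ⊗ₜ[R] n) =
      KFlatLib.tmSh (tilde M) (tilde N) ((tilde.isoTop M).hom m) ((tilde.isoTop N).hom n) := rfl

/-- The comparison on global sections. -/
noncomputable def tmTopIso (M N : ModuleCat.{u} R) :
    M ⊗ N ≅ moduleSpecΓFunctor.obj ((DCoh.tensorBi.obj (tilde M)).obj (tilde N)) :=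
  (tmTopEquiv M N).toModuleIso

lemma tmTopIso_natural_right (M : ModuleCat.{u} R) {N N' : ModuleCat.{u} R} (g : N ⟶ N') :
    (M ◁ g) ≫ (tmTopIso M N').hom = (tmTopIso M N).hom ≫
      moduleSpecΓFunctor.map ((DCoh.tensorBi.obj (tilde M)).map ((tilde.functor R).map g)) := by
  refine ModuleCat.MonoidalCategory.tensor_ext fun m n => ?_
  refine (tmTopEquiv_tmul M N' m (g n)).trans ?_
  refine Eq.trans ?_ (KFlatLib.tmSh_naturality_right (tilde M) ((tilde.functor R).map g) (U := ⊤)
    ((tilde.isoTop M).hom m) ((tilde.isoTop N).hom n)).symm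
  exact congrArg (KFlatLib.tmSh (tilde M) (tilde N') ((tilde.isoTop M).hom m))
    (ConcreteCategory.congr_hom ((tilde.toTildeΓNatIso (R := R)).hom.naturality g) n)

lemma tmTopIso_natural_left {M M' : ModuleCat.{u} R} (g : M ⟶ M') (N : ModuleCat.{u} R) :
    (g ▷ N) ≫ (tmTopIso M' N).hom = (tmTopIso M N).hom ≫
      moduleSpecΓFunctor.map ((DCoh.tensorBi.map ((tilde.functor R).map g)).app (tilde N)) := by
  refine ModuleCat.MonoidalCategory.tensor_ext fun m n => ?_
  refine (tmTopEquiv_tmul M' N (g m) n).trans ?_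
  refine Eq.trans ?_ (KFlatLib.tmSh_naturality_left ((tilde.functor R).map g) (tilde N) (U := ⊤)
    ((tilde.isoTop M).hom m) ((tilde.isoTop N).hom n)).symm
  exact congrArg (fun s => KFlatLib.tmSh (tilde M') (tilde N) s ((tilde.isoTop N).hom n))
    (ConcreteCategory.congr_hom ((tilde.toTildeΓNatIso (R := R)).hom.naturality g) m)

/-- `(M ⊗ N)^~ ⟶ M^~ ⊗ N^~`. -/
noncomputable def tildeTensorHom (M N : ModuleCat.{u} R) :
    (tilde.functor R).obj (M ⊗ N) ⟶
      (DCoh.tensorBi.obj ((tilde.functor R).obj M)).obj ((tilde.functor R).obj N) :=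
  (tilde.adjunction.homEquiv _ _).symm (tmTopIso M N).hom

instance (M N : ModuleCat.{u} R) : IsIso (tildeTensorHom M N) := by
  let T := (DCoh.tensorBi.obj ((tilde.functor R).obj M)).obj ((tilde.functor R).obj N)
  have hM : Coh.IsQCoh (tilde M) := inferInstance
  have hN : Coh.IsQCoh (tilde N) := inferInstance
  haveI : IsIso T.fromTildeΓ :=
    (isQuasicoherent_iff_isIso_fromTildeΓ T).1 (KFlatLib.isQCoh_tensor hM hN)
  haveI : IsIso ((tilde.adjunction (R := R)).counit.app T) :=
    (inferInstance : IsIso T.fromTildeΓ)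
  rw [tildeTensorHom, Adjunction.homEquiv_counit]
  infer_instance

/-- `~` commutes with tensor products, naturally in both variables. -/
noncomputable def tildeTensorBiIso (R : CommRingCat.{u}) :
    curriedTensor (ModuleCat.{u} R) ⋙ (Functor.whiskeringRight _ _ _).obj (tilde.functor R) ≅
      tilde.functor R ⋙ DCoh.tensorBi ⋙ (Functor.whiskeringLeft _ _ _).obj (tilde.functor R) :=
  NatIso.ofComponents (fun M => NatIso.ofComponents (fun N => asIso (tildeTensorHom M N))
    (fun {N N'} g => by
      simp only [asIso_hom, tildeTensorHom]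
      refine ((tilde.adjunction (R := R)).homEquiv_naturality_left_symm _ _).symm.trans ?_
      refine Eq.trans ?_ ((tilde.adjunction (R := R)).homEquiv_naturality_right_symm _ _)
      exact congrArg _ (tmTopIso_natural_right M g)))
    (fun {M M'} g => by
      ext N : 2
      refine ((tilde.adjunction (R := R)).homEquiv_naturality_left_symm _ _).symm.trans ?_
      refine Eq.trans ?_ ((tilde.adjunction (R := R)).homEquiv_naturality_right_symm _ _)
      exact congrArg _ (tmTopIso_natural_left g N))

/-- `~` commutes with tensor products of complexes. -/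
noncomputable def tildeTensorCxIso (L K : CochainComplex (ModuleCat.{u} R) ℤ) :
    (DCoh.tensorCx.obj (((tilde.functor R).mapHomologicalComplex (ComplexShape.up ℤ)).obj L)).obj
        (((tilde.functor R).mapHomologicalComplex (ComplexShape.up ℤ)).obj K) ≅
      ((tilde.functor R).mapHomologicalComplex (ComplexShape.up ℤ)).obj
        (((curriedTensor (ModuleCat.{u} R)).map₂CochainComplex.obj L).obj K) :=
  KFlatLib.totalMapIso (tildeTensorBiIso R) L K

end Groth.Agent.RelPC65
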