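import Groth.Agent.RelPC65.TorBC
import Groth.Agent.RelPC65.TensorPC
import Groth.Agent.RelPC65.TildeTensor
import Groth.Agent.RelPC65.LpullRel
import Groth.Agent.RelPC13.FppfCover
import Groth.Agent.KFlatLib.Scheme.ExtZero
import Groth.Agent.KFlatLib.Scheme.QCohDerived

/-!
# Relative pseudo-coherence of relative derived tensor products
-/

set_option autoImplicit false
set_option linter.style.haveILetI false
set_option backward.isDefEq.respectTransparency false
set_option backward.isDefEq.respectTransparency.types false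
set_option maxHeartbeats 800000

universe u

open CategoryTheory CategoryTheory.Limits AlgebraicGeometry MonoidalCategory

attribute [local instance] HasDerivedCategory.standard

namespace Groth.Agent.RelPC65

open Groth.Agent.KFlatLib Groth.Agent.RelPC13 Groth.Agent.H9Misc Groth.Agent.H9Misc.DRingLTensor

section Ring

open MvPolynomial

variable {R A C : Type u} [CommRing R] [CommRing A] [CommRing C]

lemma exactAt_extC_of_flat (φ : A →+* C) (hφ : φ.Flat) {K : DRing.Cx A} {i : ℤ} (h : K.ExactAt i) :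
    ((extC' φ).obj K).ExactAt i := by
  haveI := ModuleCat.preservesFiniteLimits_extendScalars_of_flat hφ
  haveI : PreservesFiniteColimits (ModuleCat.extendScalars.{u, u, u} φ) := by
    haveI : (ModuleCat.extendScalars.{u, u, u} φ).IsLeftAdjoint :=
      (ModuleCat.extendRestrictScalarsAdj φ).isLeftAdjoint
    infer_instance
  exact h.map (ModuleCat.extendScalars.{u, u, u} φ)

/-- Derived tensor products of relatively pseudo-coherent complexes, on rings. -/
theorem rel_tns [Algebra R A] [Algebra A C] [Algebra R C] [IsScalarTower R A C] {a b c d : ℤ}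
    (K : DRing.Cx A) (hK : IsKF K) (hKz : ∀ j, d < j → K.ExactAt j)
    (hKpc : DerCA.IsRelPseudoCoherent R A c (DRing.toD K))
    (X : DRing.Cx C) (hXz : ∀ j, b < j → X.ExactAt j)
    (hX : DerCA.IsRelPseudoCoherent A C a (DRing.toD X)) :
    DerCA.IsRelPseudoCoherent R C (max (a + d) (b + c))
      (DRing.toD (tns X ((extC' (algebraMap A C)).obj K))) := by
  obtain ⟨k, φ, hφs, hXpc⟩ := hX
  obtain ⟨n, α, hαs, hKpc⟩ := hKpc
  let φ₀ : MvPolynomial (Fin k) A →+* C := φ.toRingHom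
  let θ : MvPolynomial (Fin k) (MvPolynomial (Fin n) R) →+* MvPolynomial (Fin k) A :=
    MvPolynomial.map α.toRingHom
  let Kx := (extC' (MvPolynomial.C : A →+* MvPolynomial (Fin k) A)).obj K
  have hflat : (MvPolynomial.C : A →+* MvPolynomial (Fin k) A).Flat :=
    (RingHom.flat_algebraMap_iff (R := A) (S := MvPolynomial (Fin k) A)).2 inferInstance
  let X' := (DRing.restrictCx φ₀).obj X
  have hX' : DRing.IsPseudoCoherent (MvPolynomial (Fin k) A) a (DRing.toD X') :=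
    DRingPC.of_iso ((ModuleCat.restrictScalars φ₀).mapDerivedCategoryFactors.app X) hXpc
  have h1 := pc_tensor θ (X := X') (K := Kx) (kFlat_extendScalars _ hK)
    (fun j hj => exactAt_extC_of_flat _ hflat (hKz j hj)) (pc_ext_poly α.toRingHom hKpc k)
    (fun j hj => (hXz j hj).map (ModuleCat.restrictScalars φ₀)) hX'
  let e : (extC' φ₀).obj Kx ≅ (extC' (algebraMap A C)).obj K :=
    (extCompCx MvPolynomial.C φ₀ (algebraMap A C) φ.comp_algebraMap.symm K).symm
  have h2 : DRing.IsPseudoCoherent (MvPolynomial (Fin k) (MvPolynomial (Fin n) R)) (max (a + d) (b + c))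
      ((DRing.restrictD (φ₀.comp θ)).obj (DRing.toD (tns X ((extC' (algebraMap A C)).obj K)))) := by
    refine DRingPC.of_iso ?_ h1
    exact (DRing.restrictD θ).mapIso (DerivedCategory.Q.mapIso ((projIso φ₀ X Kx).symm ≪≫
        ((ModuleCat.restrictScalars φ₀).mapHomologicalComplex (ComplexShape.up ℤ)).mapIso
          (((curriedTensor (ModuleCat.{u} C)).map₂CochainComplex.obj X).mapIso e)) ≪≫
        ((ModuleCat.restrictScalars φ₀).mapDerivedCategoryFactors.app _).symm) ≪≫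
      ((DRingRelPC.restrictDCompIso θ φ₀).app _).symm
  let σ : MvPolynomial (Fin (k + n)) R →+* MvPolynomial (Fin k) (MvPolynomial (Fin n) R) :=
    (PCMor.nestEquiv R k n).toRingEquiv.toRingHom
  refine ⟨k + n, { (φ₀.comp θ).comp σ with commutes' := fun r => ?_ }, ?_, ?_⟩
  · show φ₀ (θ (σ (MvPolynomial.C r))) = algebraMap R C r
    rw [show σ (MvPolynomial.C r) = MvPolynomial.C (MvPolynomial.C r) from
      (PCMor.nestEquiv R k n).commutes r, show θ (MvPolynomial.C (MvPolynomial.C r)) =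
        MvPolynomial.C (α (MvPolynomial.C r)) from MvPolynomial.map_C _ _]
    exact ((φ.commutes (α (MvPolynomial.C r))).trans (congrArg _ (α.commutes r))).trans
      (IsScalarTower.algebraMap_apply R A C r).symm
  · exact (hφs.comp (MvPolynomial.map_surjective α.toRingHom hαs)).comp (PCMor.nestEquiv R k n).surjective
  · exact (DRingRelPC.pc_iff_comp (DRingRelPC.PCHom.of_bijective (PCMor.nestEquiv R k n).bijective) _
      ((φ₀.comp θ).comp σ) rfl _ _).1 h2

end Ring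

section Scheme

variable {X Y Z : Scheme.{u}} {f : X ⟶ Y} {g : Y ⟶ Z}

/-- A model over the ring of sections, as a complex. -/
theorem exists_cx_model {E : DCoh.D X} (hE : DCoh.IsQCohD E) {U : X.Opens} (hU : IsAffineOpen U)
    [PreservesFiniteLimits (tilde.functor Γ(X, U))] :
    ∃ M : DRing.Cx Γ(X, U), IsKF M ∧ Nonempty ((DCoh.tildeD Γ(X, U)).obj (DRing.toD M) ≅
      (pD hU.isoSpec.hom).obj ((rho U.ι).obj E)) := by
  obtain ⟨M, ⟨eM⟩⟩ := exists_sections_model hE hU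
  obtain ⟨P, hP, -, ⟨e⟩⟩ := DRingLTensor.exists_rep M
  exact ⟨P, hP, ⟨(DCoh.tildeD Γ(X, U)).mapIso e ≪≫ eM⟩⟩

lemma exactAt_of_tilde {R : CommRingCat.{u}} [PreservesFiniteLimits (tilde.functor R)] {M : DRing.Cx R}
    {E : DCoh.D (Spec R)} (e : (DCoh.tildeD R).obj (DRing.toD M) ≅ E) {b : ℤ} [E.IsLE b] {j : ℤ}
    (hj : b < j) : M.ExactAt j := by
  haveI : PreservesFiniteColimits (tilde.functor R) := QCoh.tilde_preservesFiniteColimits
  have h0 := DerivedCategory.isZero_of_isLE E b j hj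
  have h1 : IsZero (((((tilde.functor R).mapHomologicalComplex (ComplexShape.up ℤ)).obj M)).homology j) :=
    h0.of_iso (((DerivedCategory.homologyFunctorFactors _ j).app _).symm ≪≫
      (DerivedCategory.homologyFunctor _ j).mapIso
        (((tilde.functor R).mapDerivedCategoryFactors.app M).symm ≪≫ e))
  exact (ShortComplex.exact_map_iff_of_faithful (M.sc j) (tilde.functor R)).1
    ((HomologicalComplex.exactAt_iff_isZero_homology _ _).2 h1)

lemma isLE_pD_rho {E : DCoh.D X} (b : ℤ) [E.IsLE b] {U : X.Opens} (hU : IsAffineOpen U) :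
    ((pD hU.isoSpec.hom).obj ((rho U.ι).obj E)).IsLE b :=
  (DerivedCategory.isLE_iff _ b).2 fun i hi =>
    ((Scheme.Modules.pushforward hU.isoSpec.hom).map_isZero
      ((Scheme.Modules.restrictFunctor U.ι).map_isZero (DerivedCategory.isZero_of_isLE E b i hi))).of_iso
      (hdPDIso hU.isoSpec.hom _ i ≪≫
        (Scheme.Modules.pushforward hU.isoSpec.hom).mapIso
          ((mapDCHomologyIso (Scheme.Modules.restrictFunctor U.ι) i).app E))

/-- Derived tensor products on a triple of affine opens. -/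
theorem pcOn_ltensor_lpull [LocallyOfFiniteType f] [LocallyOfFiniteType g] [DCoh.HasLpull f]
    (E : CochainComplex X.Modules ℤ) [DCoh.HasLTensorCx E] (hEq : DCoh.IsQCohD (DCoh.toD X E))
    {F : DCoh.D Y} (hFq : DCoh.IsQCohD F) {a b c d : ℤ} [(DCoh.toD X E).IsLE b] [F.IsLE d]
    {U : X.Opens} (hU : IsAffineOpen U) {V : Y.Opens} (hV : IsAffineOpen V) (hUV : U ≤ f ⁻¹ᵁ V)
    {W : Z.Opens} (hW : IsAffineOpen W) (hVW : V ≤ g ⁻¹ᵁ W)
    (hE : PCOn f a (DCoh.toD X E) U V) (hF : PCOn g c F V W) :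
    PCOn (f ≫ g) (max (a + d) (b + c)) ((DCoh.LTensorCx E).obj ((DCoh.Lpull f).obj F)) U W := by
  haveI : PreservesFiniteLimits (tilde.functor Γ(Y, V)) := QCoh.tilde_preservesFiniteLimits
  haveI : PreservesFiniteLimits (tilde.functor Γ(X, U)) := QCoh.tilde_preservesFiniteLimits
  haveI : PreservesFiniteColimits (tilde.functor Γ(X, U)) := QCoh.tilde_preservesFiniteColimits
  have h' : U ≤ (f ≫ g) ⁻¹ᵁ W := fun x hx => hVW (hUV hx)
  letI : Algebra Γ(Y, V) Γ(X, U) := (f.appLE V U hUV).hom.toAlgebra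
  haveI : DRing.HasLBaseChange (algebraMap Γ(Y, V) Γ(X, U)) := DRingLBase.hasLBaseChange _
  haveI : DRing.HasLBaseChange (f.appLE V U hUV).hom := DRingLBase.hasLBaseChange _
  obtain ⟨Kf, hKf, ⟨eK⟩⟩ := exists_cx_model hFq hV
  obtain ⟨Xc, -, ⟨eX⟩⟩ := exists_cx_model hEq hU
  obtain ⟨eL⟩ := DRingLBase.nonempty_lbase_iso (f.appLE V U hUV).hom hKf
  obtain ⟨eF⟩ := nonempty_lpull_model_iso f F hV hU hUV _ eK
  let L := (extC' (f.appLE V U hUV).hom).obj Kf
  let tU : CochainComplex (ModuleCat.{u} Γ(X, U)) ℤ ⥤ CochainComplex (Spec Γ(X, U)).Modules ℤ :=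
    (tilde.functor Γ(X, U)).mapHomologicalComplex (ComplexShape.up ℤ)
  let j := hU.fromSpec
  let Kp := (kRes X).obj (DerivedCategory.Q.objPreimage ((DCoh.Lpull f).obj F))
  have hKp : DCoh.IsKFlat Kp := isKFlat_kRes _
  let eKp : DCoh.toD X Kp ≅ (DCoh.Lpull f).obj F := (resQIso X).app _ ≪≫ repIso _
  haveI := isIso_LTensorCx_counit E hKp
  let rP := (rCx j).obj Kp
  let rE := (rCx j).obj E
  have hrP : DCoh.IsKFlat rP :=
    KFlatLib.KFlat.of_iso (T := DCoh.tensorBi)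
      ((NatIso.mapHomologicalComplex (Scheme.Modules.restrictFunctorIsoPullback j).symm
        (ComplexShape.up ℤ)).app Kp) (isKFlat_pullback j hKp)
  have htL : DCoh.IsKFlat (tU.obj L) := isKFlat_tilde L (kFlat_extendScalars _ hKf)
  let eP : DCoh.toD (Spec Γ(X, U)) (tU.obj L) ≅ DCoh.toD _ rP :=
    ((tilde.functor Γ(X, U)).mapDerivedCategoryFactors.app L).symm ≪≫
      (DCoh.tildeD Γ(X, U)).mapIso eL.symm ≪≫ eF ≪≫ pDIsoSpecFromSpec hU _ ≪≫
      (rho j).mapIso eKp.symm ≪≫ (Scheme.Modules.restrictFunctor j).mapDerivedCategoryFactors.app Kp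
  let eE : DCoh.toD (Spec Γ(X, U)) (tU.obj Xc) ≅ DCoh.toD _ rE :=
    ((tilde.functor Γ(X, U)).mapDerivedCategoryFactors.app Xc).symm ≪≫ eX ≪≫ pDIsoSpecFromSpec hU _ ≪≫
      (Scheme.Modules.restrictFunctor j).mapDerivedCategoryFactors.app E
  haveI := hasLTensorCx rE
  haveI := hasLTensorCx (tU.obj Xc)
  haveI := isIso_LTensorCx_counit rE hrP
  haveI := isIso_LTensorCx_counit rE htL
  let cE := ((DCoh.tensorCxQ rE).totalLeftDerivedCounit DerivedCategory.Q (qisX (Spec Γ(X, U))))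
  -- replace the left factor, then the right one
  let e₁ : DCoh.toD (Spec Γ(X, U)) ((DCoh.tensorCx.obj (tU.obj L)).obj rE) ≅
      DCoh.toD _ ((DCoh.tensorCx.obj rP).obj rE) :=
    (asIso (cE.app (tU.obj L))).symm ≪≫ (DCoh.LTensorCx rE).mapIso eP ≪≫ asIso (cE.app rP)
  let Φ := DCoh.tensorCx.obj (tU.obj L) ⋙ DerivedCategory.Q
  have hΦ : (qisX (Spec Γ(X, U))).IsInvertedBy Φ := fun K K' s hs => by
    haveI : QuasiIso s := hs
    haveI : QuasiIso ((DCoh.tensorCx.obj (tU.obj L)).map s) := KFlat.quasiIso_map' (tensorBiFlipIso _) htL s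
    exact (DerivedCategory.isIso_Q_map_iff_quasiIso _ _).2 this
  let e₂ : DCoh.toD (Spec Γ(X, U)) ((DCoh.tensorCx.obj (tU.obj L)).obj (tU.obj Xc)) ≅
      DCoh.toD _ ((DCoh.tensorCx.obj (tU.obj L)).obj rE) :=
    ((Localization.fac Φ hΦ DerivedCategory.Q).app (tU.obj Xc)).symm ≪≫
      (Localization.lift Φ hΦ DerivedCategory.Q).mapIso eE ≪≫
      (Localization.fac Φ hΦ DerivedCategory.Q).app rE
  let eM : (DCoh.tildeD Γ(X, U)).obj (DRing.toD (tns Xc L)) ≅
      (pD hU.isoSpec.hom).obj ((rho U.ι).obj ((DCoh.LTensorCx E).obj ((DCoh.Lpull f).obj F))) :=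
    (tilde.functor Γ(X, U)).mapDerivedCategoryFactors.app _ ≪≫
      DerivedCategory.Q.mapIso (tU.mapIso (((symmIso curriedTensorFlipIso Xc).app L).symm) ≪≫
        (tildeTensorCxIso L Xc).symm) ≪≫ e₂ ≪≫ e₁ ≪≫
      DerivedCategory.Q.mapIso (totalMapIso (restrictTensorBiIso j) Kp E) ≪≫
      ((Scheme.Modules.restrictFunctor j).mapDerivedCategoryFactors.app _).symm ≪≫
      (rho j).mapIso ((asIso (((DCoh.tensorCxQ E).totalLeftDerivedCounit DerivedCategory.Q (qisX X)).app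
          Kp)).symm ≪≫ (DCoh.LTensorCx E).mapIso eKp) ≪≫
      (pDIsoSpecFromSpec hU _).symm
  letI : Algebra Γ(Z, W) Γ(Y, V) := (g.appLE W V hVW).hom.toAlgebra
  letI : Algebra Γ(Z, W) Γ(X, U) := ((f ≫ g).appLE W U h').hom.toAlgebra
  haveI : IsScalarTower Γ(Z, W) Γ(Y, V) Γ(X, U) := IsScalarTower.of_algebraMap_eq fun z => by
    show ((f ≫ g).appLE W U h') z = (g.appLE W V hVW ≫ f.appLE V U hUV) z
    rw [Scheme.Hom.appLE_comp_appLE]
  haveI := isLE_pD_rho (E := F) d hV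
  haveI := isLE_pD_rho (E := DCoh.toD X E) b hU
  exact (pcOn_iff_ring hU hW h' _ _ eM).2
    (rel_tns (R := Γ(Z, W)) (A := Γ(Y, V)) (C := Γ(X, U)) Kf hKf
      (fun i hi => exactAt_of_tilde eK hi) ((pcOn_iff_ring hV hW hVW c _ eK).1 hF) Xc
      (fun i hi => exactAt_of_tilde eX hi) ((pcOn_iff_ring hU hV hUV a _ eX).1 hE))

/-- Relative derived tensor products of relatively pseudo-coherent objects. -/
theorem rel_ltensor_lpull [LocallyOfFiniteType f] [LocallyOfFiniteType g] [DCoh.HasLpull f]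
    (E : CochainComplex X.Modules ℤ) [DCoh.HasLTensorCx E] (hEq : DCoh.IsQCohD (DCoh.toD X E))
    {F : DCoh.D Y} (hFq : DCoh.IsQCohD F) {a b c d : ℤ} [(DCoh.toD X E).IsLE b] [F.IsLE d]
    (hE : DerSch.IsPseudoCoherentRel f a (DCoh.toD X E)) (hF : DerSch.IsPseudoCoherentRel g c F) :
    DerSch.IsPseudoCoherentRel (f ≫ g) (max (a + d) (b + c))
      ((DCoh.LTensorCx E).obj ((DCoh.Lpull f).obj F)) := by
  refine ⟨inferInstance, Set.univ, by simpa [iSup_univ] using iSup_affineOpens_eq_top Z, fun W _ => ?_⟩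
  refine ⟨{U | ∃ V : Y.affineOpens, (U : X.Opens) ≤ f ⁻¹ᵁ (V : Y.Opens) ∧
    (V : Y.Opens) ≤ g ⁻¹ᵁ (W : Z.Opens)}, le_antisymm (iSup₂_le ?_) fun x hx => ?_, fun U hU hle => ?_⟩
  · rintro U ⟨V, h1, h2⟩ x hx
    exact h2 (h1 hx)
  · obtain ⟨_, ⟨V, hV, rfl⟩, hxV, hVW⟩ := Y.isBasis_affineOpens.exists_subset_of_mem_open
      (show f.base x ∈ g ⁻¹ᵁ (W : Z.Opens) from hx) (g ⁻¹ᵁ (W : Z.Opens)).2
    obtain ⟨_, ⟨U, hU, rfl⟩, hxU, hUV⟩ := X.isBasis_affineOpens.exists_subset_of_mem_open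
      (show x ∈ f ⁻¹ᵁ V from hxV) (f ⁻¹ᵁ V).2
    simp only [TopologicalSpace.Opens.mem_iSup]
    exact ⟨⟨U, hU⟩, ⟨⟨V, hV⟩, hUV, hVW⟩, hxU⟩
  · obtain ⟨V, hUV, hVW⟩ := hU
    obtain ⟨l, ψ, hψ⟩ := exists_chart hle ((f ≫ g).finiteType_appLE W.2 U.2 hle)
    exact ⟨l, ψ, hψ, (pcOn_ltensor_lpull E hEq hFq U.2 V.2 hUV W.2 hVW
      (pcOn_of_isPseudoCoherentRel hE U.2 V.2 hUV)
      (pcOn_of_isPseudoCoherentRel hF V.2 W.2 hVW)).chartPC U.2 hψ⟩

end Scheme

end Groth.Agent.RelPC65
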