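import Groth.Agent.RelPC13.Imm

/-!
# Transfer along closed embeddings which are pseudo-coherent to a given order
-/

set_option linter.style.haveILetI false
set_option backward.isDefEq.respectTransparency false
set_option backward.isDefEq.respectTransparency.types false

universe u

open CategoryTheory CategoryTheory.Limits AlgebraicGeometry TopologicalSpace Opposite
open CategoryTheory.Pretriangulated Groth.Agent.KFlatLib Groth.Agent.RelPC13

attribute [local instance] HasDerivedCategory.standard

namespace Groth.Agent.RelPC65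

variable {X Y : Scheme.{u}}

/-- The pushforwards of the free modules of finite rank are `s`-pseudo-coherent. -/
def PushAt (f : X ⟶ Y) [IsClEmb f] (s : ℤ) : Prop :=
  ∀ n : ℕ, LocPC s ((pD f).obj (DCoh.inD X (FlatMod.freeMod X n)))

lemma PushAt.mono {f : X ⟶ Y} [IsClEmb f] {s s' : ℤ} (h : PushAt f s) (hs : s ≤ s') : PushAt f s' :=
  fun n => (h n).mono hs

lemma PushAt.restrict {f : X ⟶ Y} [IsClEmb f] {s : ℤ} (h : PushAt f s) (V : Y.Opens) :
    PushAt (f ∣_ V) s := fun n =>
  (((h n).restrict V.ι).of_iso (pDRho f V _)).of_iso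
    ((pD (f ∣_ V)).mapIso (rhoFreeIso (f ⁻¹ᵁ V).ι n))

theorem pushAt_of_structure (f : X ⟶ Y) [IsClEmb f] {m : ℤ}
    (h : LocPC m ((pD f).obj (DCoh.inD X (Coh.structureModule X)))) : PushAt f m := by
  intro n
  induction n with
  | zero =>
    refine locPC_of_isZero m _ fun i _ => ((Scheme.Modules.pushforward f).map_isZero ?_).of_iso
      (hdPDIso f _ i)
    exact isZero_HD_inD_of_isZero isZero_freeMod_zero i
  | succ n ih =>
    have h1 : LocPC m ((pD f).obj (DCoh.inD X (FlatMod.freeMod X 1))) :=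
      h.of_iso ((pD f).mapIso ((DerivedCategory.singleFunctor X.Modules 0).mapIso
        (coproductUniqueIso (fun _ : Fin 1 => Coh.structureModule X)).symm))
    let K := DCoh.inD X (FlatMod.freeMod X n)
    let L := DCoh.inD X (FlatMod.freeMod X 1)
    haveI := preservesBinaryBiproducts_of_preservesBiproducts (pD f)
    haveI := preservesBinaryBiproducts_of_preservesBiproducts (DerivedCategory.singleFunctor X.Modules 0)
    have hb : LocPC m (((pD f).obj K) ⊞ ((pD f).obj L)) :=
      locPC_ext _ (binaryBiproductTriangle_distinguished _ _) ih h1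
    exact hb.of_iso (((pD f).mapBiprod K L).symm ≪≫ (pD f).mapIso
      (((DerivedCategory.singleFunctor X.Modules 0).mapBiprod _ _).symm ≪≫
        (DerivedCategory.singleFunctor X.Modules 0).mapIso (biprodFreeIso n 1)))

/-- A ring map which is `s`-pseudo-coherent gives a transfer morphism of order `s`. -/
theorem pushAt_spec {A B : CommRingCat.{u}} (φ : A ⟶ B) [IsClEmb (Spec.map φ)] {s : ℤ}
    (h : DRing.IsPseudoCoherentModule A s ((ModuleCat.restrictScalars φ.hom).obj (ModuleCat.of B B))) :
    PushAt (Spec.map φ) s := by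
  refine pushAt_of_structure _ (LocPC.of_iso ?_ ((locPC_inD_tilde_iff (R := A) s _).2 h))
  exact (DerivedCategory.singleFunctor (Spec A).Modules 0).mapIso
    (((pushTildeIso φ).app (ModuleCat.of B B)).symm ≪≫
      (Scheme.Modules.pushforward (Spec.map φ)).mapIso tildeSelf) ≪≫ (pDSingle (Spec.map φ) _).symm

/-- Pseudo-coherence is detected after pushforward, for objects bounded above. -/
theorem locPC_of_push_bdd (m : ℤ) (k : ℕ) : ∀ {X Y : Scheme.{u}} (f : X ⟶ Y) [IsClEmb f],
    PushAt f (2 - k) → ∀ E : DCoh.D X, (∀ i, m + k ≤ i → IsZero (DCoh.HD E i)) →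
      LocPC m ((pD f).obj E) → LocPC m E := by
  induction k with
  | zero => exact fun f _ _ E hE _ => locPC_of_isZero m E fun i hi => hE i (by simpa using hi)
  | succ k ih =>
    intro X Y f _ hf E hE hpc
    refine LocPC.of_local fun x => ?_
    have hft : CohB1.IsFT (DCoh.HD E (m + k)) := by
      refine isFT_of_push f (isFT_iso (hdPDIso f E (m + k))
        (isFT_top (hpc.mono (by omega)) fun i hi => ?_))
      exact ((Scheme.Modules.pushforward f).map_isZero (hE i (by push_cast; omega))).of_iso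
        (hdPDIso f E i)
    obtain ⟨W, n, q, hxW, hq⟩ := exists_epi_free_of_isFT hft x
    let E' := (rho W.ι).obj E
    haveI : E'.IsLE (m + k) := (DerivedCategory.isLE_iff _ _).2 fun i hi =>
      ((Scheme.Modules.restrictFunctor W.ι).map_isZero (hE i (by push_cast; omega))).of_iso
        (hdRhoIso W.ι E i)
    let q' : FlatMod.freeMod (W : Scheme.{u}) n ⟶ DCoh.HD E' (m + k) :=
      q ≫ (hdRhoIso W.ι E (m + k)).inv
    haveI : Epi q' := epi_comp' hq inferInstance
    obtain ⟨W₁, γ, hx₁, hγ⟩ := exists_top_lift q' ⟨x, hxW⟩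
    obtain ⟨V, hV⟩ := exists_preimage_eq f (W.ι ''ᵁ W₁)
    let j := W₁.ι ≫ W.ι
    have hr : Set.range (f ⁻¹ᵁ V).ι.base ⊆ Set.range j.base := by
      rw [hV]
      rintro _ ⟨⟨_, y, hy, rfl⟩, rfl⟩
      exact ⟨⟨y, hy⟩, rfl⟩
    let i := IsOpenImmersion.lift j (f ⁻¹ᵁ V).ι hr
    have hi : i ≫ j = (f ⁻¹ᵁ V).ι := IsOpenImmersion.lift_fac _ _ _
    haveI : IsOpenImmersion (i ≫ j) := by rw [hi]; infer_instance
    haveI : IsOpenImmersion i := IsOpenImmersion.of_comp i j
    refine ⟨_, (f ⁻¹ᵁ V).ι, inferInstance, ⟨⟨x, ?_⟩, rfl⟩, ?_⟩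
    · rw [hV]
      exact ⟨⟨x, hxW⟩, hx₁, rfl⟩
    let G := (rho (f ⁻¹ᵁ V).ι).obj E
    let S := (DerivedCategory.singleFunctor (f ⁻¹ᵁ V : Scheme.{u}).Modules (m + k)).obj
      (FlatMod.freeMod (f ⁻¹ᵁ V : Scheme.{u}) n)
    let eS : (rho i).obj ((DerivedCategory.singleFunctor (W₁ : Scheme.{u}).Modules (m + k)).obj
        (FlatMod.freeMod (W₁ : Scheme.{u}) n)) ≅ S :=
      ((Scheme.Modules.restrictFunctor i).mapDerivedCategorySingleFunctor (m + k)).app _ ≪≫
        (DerivedCategory.singleFunctor _ (m + k)).mapIso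
          ((Scheme.Modules.restrictFunctorIsoPullback i).app _ ≪≫ pullFreeIso i n)
    let eG : (rho i).obj ((rho W₁.ι).obj E') ≅ G :=
      (rho i).mapIso (rhoComp W₁.ι W.ι j rfl E) ≪≫ rhoComp i j _ hi E
    let β : S ⟶ G := eS.inv ≫ (rho i).map γ ≫ eG.hom
    have hβ : Epi ((DerivedCategory.homologyFunctor _ (m + k)).map β) := by
      haveI : Epi ((DerivedCategory.homologyFunctor _ (m + k)).map ((rho i).map γ)) :=
        by
          haveI := hγ
          change Epi (((rho i) ⋙ DerivedCategory.homologyFunctor _ (m + k)).map γ)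
          rw [← NatIso.naturality_2 (mapDCHomologyIso (Scheme.Modules.restrictFunctor i) (m + k)) γ]
          haveI : Epi ((DerivedCategory.homologyFunctor _ (m + k) ⋙
            Scheme.Modules.restrictFunctor i).map γ) :=
            (Scheme.Modules.restrictFunctor i).map_epi _
          exact epi_comp' inferInstance (epi_comp' inferInstance inferInstance)
      simp only [β, Functor.map_comp]
      exact epi_comp' inferInstance (epi_comp' inferInstance inferInstance)
    have hG : ∀ d, m + k < d → IsZero (DCoh.HD G d) := fun d hd =>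
      ((Scheme.Modules.restrictFunctor _).map_isZero (hE d (by push_cast; omega))).of_iso
        (hdRhoIso _ E d)
    have hf' := hf.restrict V
    have hSfree : LocSP (DerivedCategory.Q.obj
        ((HomologicalComplex.single (f ⁻¹ᵁ V : Scheme.{u}).Modules (ComplexShape.up ℤ) 0).obj
          (FlatMod.freeMod (f ⁻¹ᵁ V : Scheme.{u}) n))) :=
      (isPerfect_iff _).1 (isPerfect_of_rep (Iso.refl _) fun _ =>
        ⟨⊤, trivial, _, isStrictlyPerfect_restrict _ (isStrictlyPerfect_single n), ⟨Iso.refl _⟩⟩)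
    have hS : ∀ l : ℤ, LocPC l S := fun l => locPC_single_shift (m + k)
      ((hSfree.locPC _).of_iso ((DerivedCategory.singleFunctorIsoCompQ _ 0).app _).symm)
    obtain ⟨C, g, δ, hT⟩ := Pretriangulated.distinguished_cocone_triangle β
    have hC : ∀ d, m + k ≤ d → IsZero (DCoh.HD C d) := fun d hd => by
      have hSd : IsZero (DCoh.HD S (d + 1)) :=
        DerivedCategory.isZero_of_isLE _ (m + k) (d + 1) (by omega)
      refine (DerivedCategory.HomologySequence.exact₃ _ hT d (d + 1) rfl).isZero_of_both_zeros ?_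
        (hSd.eq_of_tgt _ _)
      rcases eq_or_lt_of_le hd with rfl | hd'
      · exact (DerivedCategory.HomologySequence.epi_homologyMap_mor₁_iff _ hT (m + k)).1 hβ
      · exact (hG d hd').eq_of_src _ _
    have hpC : LocPC m ((pD (f ∣_ V)).obj C) :=
      (locPC_two_of_three m _ ((pD (f ∣_ V)).map_distinguished _ hT)).1
        ((locPC_single_shift (m + k) ((hf' n).mono (by push_cast; omega) |>.of_iso (pDSingle _ _))).of_iso
          ((((Scheme.Modules.pushforward (f ∣_ V)).mapDerivedCategorySingleFunctor (m + k)).app _).symm)) ((hpc.restrict V.ι).of_iso (pDRho f V E))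
    exact locPC_ext _ hT (hS m) (ih (f ∣_ V) (hf'.mono (by push_cast; omega)) C hC hpC)

/-- Pushforward preserves pseudo-coherence, for objects bounded above. -/
theorem locPC_push_bdd (m : ℤ) (k : ℕ) : ∀ {X Y : Scheme.{u}} (f : X ⟶ Y) [IsClEmb f],
    PushAt f (1 - k) → ∀ E : DCoh.D X, (∀ i, m + k ≤ i → IsZero (DCoh.HD E i)) →
      LocPC m E → LocPC m ((pD f).obj E) := by
  induction k with
  | zero => exact fun f _ _ E hE _ => locPC_of_isZero m _ fun i hi =>
      ((Scheme.Modules.pushforward f).map_isZero (hE i (by simpa using hi))).of_iso (hdPDIso f E i)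
  | succ k ih =>
    intro X Y f _ hf E hE hpc
    refine locPC_push_of_image f fun x => ?_
    have hft : CohB1.IsFT (DCoh.HD E (m + k)) :=
      isFT_top (hpc.mono (by omega)) fun i hi => hE i (by push_cast; omega)
    obtain ⟨W, n, q, hxW, hq⟩ := exists_epi_free_of_isFT hft x
    let E' := (rho W.ι).obj E
    haveI : E'.IsLE (m + k) := (DerivedCategory.isLE_iff _ _).2 fun i hi =>
      ((Scheme.Modules.restrictFunctor W.ι).map_isZero (hE i (by push_cast; omega))).of_iso
        (hdRhoIso W.ι E i)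
    let q' : FlatMod.freeMod (W : Scheme.{u}) n ⟶ DCoh.HD E' (m + k) :=
      q ≫ (hdRhoIso W.ι E (m + k)).inv
    haveI : Epi q' := epi_comp' hq inferInstance
    obtain ⟨W₁, γ, hx₁, hγ⟩ := exists_top_lift q' ⟨x, hxW⟩
    obtain ⟨V, hV⟩ := exists_preimage_eq f (W.ι ''ᵁ W₁)
    let j := W₁.ι ≫ W.ι
    have hr : Set.range (f ⁻¹ᵁ V).ι.base ⊆ Set.range j.base := by
      rw [hV]
      rintro _ ⟨⟨_, y, hy, rfl⟩, rfl⟩
      exact ⟨⟨y, hy⟩, rfl⟩
    let i := IsOpenImmersion.lift j (f ⁻¹ᵁ V).ι hr
    have hi : i ≫ j = (f ⁻¹ᵁ V).ι := IsOpenImmersion.lift_fac _ _ _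
    haveI : IsOpenImmersion (i ≫ j) := by rw [hi]; infer_instance
    haveI : IsOpenImmersion i := IsOpenImmersion.of_comp i j
    refine ⟨V, ?_, LocPC.of_iso (pDRho f V E).symm ?_⟩
    · show x ∈ f ⁻¹ᵁ V
      rw [hV]
      exact ⟨⟨x, hxW⟩, hx₁, rfl⟩
    let G := (rho (f ⁻¹ᵁ V).ι).obj E
    let S := (DerivedCategory.singleFunctor (f ⁻¹ᵁ V : Scheme.{u}).Modules (m + k)).obj
      (FlatMod.freeMod (f ⁻¹ᵁ V : Scheme.{u}) n)
    let eS : (rho i).obj ((DerivedCategory.singleFunctor (W₁ : Scheme.{u}).Modules (m + k)).obj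
        (FlatMod.freeMod (W₁ : Scheme.{u}) n)) ≅ S :=
      ((Scheme.Modules.restrictFunctor i).mapDerivedCategorySingleFunctor (m + k)).app _ ≪≫
        (DerivedCategory.singleFunctor _ (m + k)).mapIso
          ((Scheme.Modules.restrictFunctorIsoPullback i).app _ ≪≫ pullFreeIso i n)
    let eG : (rho i).obj ((rho W₁.ι).obj E') ≅ G :=
      (rho i).mapIso (rhoComp W₁.ι W.ι j rfl E) ≪≫ rhoComp i j _ hi E
    let β : S ⟶ G := eS.inv ≫ (rho i).map γ ≫ eG.hom
    have hβ : Epi ((DerivedCategory.homologyFunctor _ (m + k)).map β) := by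
      haveI : Epi ((DerivedCategory.homologyFunctor _ (m + k)).map ((rho i).map γ)) :=
        by
          haveI := hγ
          change Epi (((rho i) ⋙ DerivedCategory.homologyFunctor _ (m + k)).map γ)
          rw [← NatIso.naturality_2 (mapDCHomologyIso (Scheme.Modules.restrictFunctor i) (m + k)) γ]
          haveI : Epi ((DerivedCategory.homologyFunctor _ (m + k) ⋙
            Scheme.Modules.restrictFunctor i).map γ) :=
            (Scheme.Modules.restrictFunctor i).map_epi _
          exact epi_comp' inferInstance (epi_comp' inferInstance inferInstance)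
      simp only [β, Functor.map_comp]
      exact epi_comp' inferInstance (epi_comp' inferInstance inferInstance)
    have hG : ∀ d, m + k < d → IsZero (DCoh.HD G d) := fun d hd =>
      ((Scheme.Modules.restrictFunctor _).map_isZero (hE d (by push_cast; omega))).of_iso
        (hdRhoIso _ E d)
    have hf' := hf.restrict V
    have hSfree : LocSP (DerivedCategory.Q.obj
        ((HomologicalComplex.single (f ⁻¹ᵁ V : Scheme.{u}).Modules (ComplexShape.up ℤ) 0).obj
          (FlatMod.freeMod (f ⁻¹ᵁ V : Scheme.{u}) n))) :=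
      (isPerfect_iff _).1 (isPerfect_of_rep (Iso.refl _) fun _ =>
        ⟨⊤, trivial, _, isStrictlyPerfect_restrict _ (isStrictlyPerfect_single n), ⟨Iso.refl _⟩⟩)
    have hS : ∀ l : ℤ, LocPC l S := fun l => locPC_single_shift (m + k)
      ((hSfree.locPC _).of_iso ((DerivedCategory.singleFunctorIsoCompQ _ 0).app _).symm)
    obtain ⟨C, g, δ, hT⟩ := Pretriangulated.distinguished_cocone_triangle β
    have hC : ∀ d, m + k ≤ d → IsZero (DCoh.HD C d) := fun d hd => by
      have hSd : IsZero (DCoh.HD S (d + 1)) :=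
        DerivedCategory.isZero_of_isLE _ (m + k) (d + 1) (by omega)
      refine (DerivedCategory.HomologySequence.exact₃ _ hT d (d + 1) rfl).isZero_of_both_zeros ?_
        (hSd.eq_of_tgt _ _)
      rcases eq_or_lt_of_le hd with rfl | hd'
      · exact (DerivedCategory.HomologySequence.epi_homologyMap_mor₁_iff _ hT (m + k)).1 hβ
      · exact (hG d hd').eq_of_src _ _
    have hpC : LocPC m C :=
      (locPC_two_of_three m _ hT).1 (hS (m + 1)) (hpc.restrict _)
    exact locPC_ext _ ((pD (f ∣_ V)).map_distinguished _ hT)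
      ((locPC_single_shift (m + k) ((hf' n).mono (by push_cast; omega) |>.of_iso (pDSingle _ _))).of_iso
          ((((Scheme.Modules.pushforward (f ∣_ V)).mapDerivedCategorySingleFunctor (m + k)).app _).symm))
      (ih (f ∣_ V) (hf'.mono (by push_cast; omega)) C hC hpC)

end Groth.Agent.RelPC65
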