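import Groth.Agent.RelPC13.LBaseRel
import Groth.Agent.PCMor.Ring

/-!
# Base change of relative pseudo-coherence along a relatively pseudo-coherent algebra
-/

set_option linter.style.haveILetI false
set_option backward.isDefEq.respectTransparency false
set_option backward.isDefEq.respectTransparency.types false

universe u

open CategoryTheory CategoryTheory.Limits

attribute [local instance] HasDerivedCategory.standard

namespace Groth.Agent.RelPC65

open H9Misc RelPC13

variable {R A B : Type u} [CommRing R] [CommRing A] [CommRing B] [Algebra R A] [Algebra A B]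

lemma q_of_relAll [Algebra.FiniteType A B] (hB : DerCA.IsRelPseudoCoherentModuleAll A B B) :
    PCMor.Q (algebraMap A B) := by
  obtain ⟨n, α, hα⟩ := DRingRelPC.exists_presentation A B
  exact ⟨n, (α : MvPolynomial (Fin n) A →+* B), α.comp_algebraMap, hα,
    DRingPC.of_iso' (DRingRestrict.restrictInDIso _ _) ((DRingRelPC.all_iff_via α hα _).1 hB)⟩

variable [Algebra R B] [IsScalarTower R A B]

theorem rel_tensor_of_flat [Module.Flat A B] [Algebra.FiniteType A B]
    (hB : DerCA.IsRelPseudoCoherentModuleAll A B B) (m : ℤ) (M : Type u) [AddCommGroup M] [Module A M]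
    (h : DerCA.IsRelPseudoCoherentModule R A m M) :
    DerCA.IsRelPseudoCoherentModule R B m (TensorProduct A B M) := by
  haveI := DRingLBase.hasLBaseChange (algebraMap A B)
  have h1 := rel_lbase (q_of_relAll hB) h
  obtain ⟨P, hP, -, ⟨eP⟩⟩ := DRingLTensor.exists_rep (Dual.inD A (ModuleCat.of A M))
  obtain ⟨eL⟩ := DRingLBase.nonempty_lbase_iso (algebraMap A B) hP
  haveI := ModuleCat.preservesFiniteLimits_extendScalars_of_flat
    (RingHom.flat_algebraMap_iff.2 (inferInstance : Module.Flat A B))
  haveI : PreservesFiniteColimits (ModuleCat.extendScalars.{u, u, u} (algebraMap A B)) := by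
    haveI : (ModuleCat.extendScalars.{u, u, u} (algebraMap A B)).IsLeftAdjoint :=
      (ModuleCat.extendRestrictScalarsAdj (algebraMap A B)).isLeftAdjoint
    infer_instance
  let F := ModuleCat.extendScalars.{u, u, u} (algebraMap A B)
  let e1 : ((ModuleCat.restrictScalars (algebraMap A B)).obj (ModuleCat.of B B) : Type u) ≃ₗ[A] B :=
    { AddEquiv.refl B with map_smul' := fun a x => (Algebra.smul_def (A := B) a x).symm }
  let e2 : (F.obj (ModuleCat.of A M) : Type u) ≃+ TensorProduct A B M :=
    (TensorProduct.congr e1 (LinearEquiv.refl A M)).toAddEquiv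
  let eB : F.obj (ModuleCat.of A M) ≅ ModuleCat.of B (TensorProduct A B M) :=
    (e2.toLinearEquiv fun (b : B) x => by
      induction x using TensorProduct.induction_on with
      | zero => rw [smul_zero, map_zero]; exact (smul_zero b).symm
      | tmul c y => rfl
      | add x y hx hy => rw [smul_add, map_add, map_add, hx, hy, smul_add]).toModuleIso
  exact rel_iso ((DRing.LBaseChange _).mapIso eP.symm ≪≫ eL ≪≫ (F.mapDerivedCategoryFactors.app P).symm ≪≫
    F.mapDerivedCategory.mapIso eP ≪≫ (F.mapDerivedCategorySingleFunctor 0).app (ModuleCat.of A M) ≪≫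
    (DerivedCategory.singleFunctor _ 0).mapIso eB) h1

end Groth.Agent.RelPC65
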