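import Groth.Agent.RelPC13.Closure
import Groth.Agent.KFlatLib.Scheme.Pullback

/-!
# Relative pseudo-coherence and restriction to open subschemes
-/

set_option linter.style.haveILetI false
set_option backward.isDefEq.respectTransparency false
set_option backward.isDefEq.respectTransparency.types false

universe u

open CategoryTheory CategoryTheory.Limits AlgebraicGeometry TopologicalSpace
open Groth.Agent.KFlatLib

attribute [local instance] HasDerivedCategory.standard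

namespace Groth.Agent.RelPC65

open Groth.Agent.RelPC13

variable {X S : Scheme.{u}} {f : X ⟶ S} {m : ℤ} {E : DCoh.D X} {U : X.Opens}

lemma ipc_rho_iff {W P : Scheme.{u}} (j : W ⟶ (U : Scheme.{u})) [IsOpenImmersion j] (j' : W ⟶ X)
    [IsOpenImmersion j'] (h : j ≫ U.ι = j') (c : W ⟶ P) [IsClEmb c] :
    IPC m ((rho U.ι).obj E) j c ↔ IPC m E j' c := by
  let e : (pD c).obj ((rho j).obj ((rho U.ι).obj E)) ≅ (pD c).obj ((rho j').obj E) :=
    (pD c).mapIso (rhoComp j U.ι j' h E)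
  exact ⟨fun hh => LocPC.of_iso e hh, fun hh => LocPC.of_iso e.symm hh⟩

lemma appLE_ι (W : (U : Scheme.{u}).Opens) (V : S.Opens) (h : W ≤ (U.ι ≫ f) ⁻¹ᵁ V) (h' : U.ι ''ᵁ W ≤ f ⁻¹ᵁ V) :
    (U.ι ≫ f).appLE V W h = f.appLE V (U.ι ''ᵁ W) h' := by
  rw [← Scheme.Hom.appLE_comp_appLE U.ι f V (U.ι ''ᵁ W) W h' (U.ι.preimage_image_eq W).ge,
    Scheme.Opens.ι_appLE]
  exact (congrArg (f.appLE V (U.ι ''ᵁ W) h' ≫ ·) (X.presheaf.map_id _)).trans (Category.comp_id _)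

lemma image_le {W : (U : Scheme.{u}).Opens} {V : S.Opens} (h : W ≤ (U.ι ≫ f) ⁻¹ᵁ V) :
    U.ι ''ᵁ W ≤ f ⁻¹ᵁ V := by
  rintro _ ⟨w, hw, rfl⟩
  exact h hw

/-- Test functors agree. -/
theorem spc_restrict_iff (W : (U : Scheme.{u}).Opens) (hW : IsAffineOpen W) {Q : Type u} [CommRing Q]
    (χ : Q →+* Γ((U : Scheme.{u}), W)) (hχ : Function.Surjective χ) :
    SPC m ((rho U.ι).obj E) W χ ↔ SPC (X := X) m E (U.ι ''ᵁ W) χ := by
  have hW' := hW.image_of_isOpenImmersion U.ι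
  haveI := isClEmb_imm hW hχ
  haveI := isClEmb_imm (U := U.ι ''ᵁ W) hW' (χ := χ) hχ
  let σ : (W : Scheme.{u}) ⟶ (U.ι ''ᵁ W : Scheme.{u}) := (U.ι.isoImage W).hom
  have hσ : σ ≫ (U.ι ''ᵁ W).ι = W.ι ≫ U.ι := Scheme.Hom.isoImage_hom_ι _ _
  have htoSpec : σ ≫ (U.ι ''ᵁ W).toSpecΓ = W.toSpecΓ := by
    rw [← cancel_mono hW'.fromSpec, Category.assoc, IsAffineOpen.toSpecΓ_fromSpec, hσ]
    have := IsAffineOpen.SpecMap_appLE_fromSpec U.ι hW' hW (U.ι.preimage_image_eq W).ge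
    rw [Scheme.Opens.ι_appLE] at this
    refine Eq.trans ?_ (congrArg (W.toSpecΓ ≫ ·) ((congrArg (· ≫ hW'.fromSpec) (Spec.map_id _)).trans
      (Category.id_comp _)))
    rw [show Spec.map (𝟙 Γ(X, U.ι ''ᵁ W)) ≫ hW'.fromSpec = hW.fromSpec ≫ U.ι from by
      refine Eq.trans ?_ this
      congr 1
      exact congrArg Spec.map (X.presheaf.map_id _).symm, ← Category.assoc,
      IsAffineOpen.toSpecΓ_fromSpec]
  have hc : σ ≫ imm (U.ι ''ᵁ W) χ = imm W χ := by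
    simp only [imm, ← Category.assoc]
    exact congrArg (· ≫ Spec.map (CommRingCat.ofHom χ)) htoSpec
  have key : IPC m ((rho U.ι).obj E) W.ι (imm W χ) ↔ IPC m E (U.ι ''ᵁ W).ι (imm (U.ι ''ᵁ W) χ) :=
    (ipc_rho_iff W.ι (W.ι ≫ U.ι) rfl (imm W χ)).trans
      (ipc_src_iff σ (j := (U.ι ''ᵁ W).ι) hσ (c := imm (U.ι ''ᵁ W) χ) hc)
  exact ⟨fun h => ⟨inferInstance, key.1 h.2⟩, fun h => ⟨inferInstance, key.2 h.2⟩⟩

theorem pcOn_restrict_iff (W : (U : Scheme.{u}).Opens) (hW : IsAffineOpen W) (V : S.Opens) :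
    PCOn (U.ι ≫ f) m ((rho U.ι).obj E) W V ↔ PCOn f m E (U.ι ''ᵁ W) V := by
  constructor
  · rintro ⟨h, hh⟩
    refine ⟨image_le h, fun n φ hφ => (spc_restrict_iff W hW φ hφ.1).1 (hh n φ ⟨hφ.1, ?_⟩)⟩
    exact hφ.2.trans (congrArg CommRingCat.Hom.hom (appLE_ι W V h (image_le h)).symm)
  · rintro ⟨h', hh⟩
    have h : W ≤ (U.ι ≫ f) ⁻¹ᵁ V := fun w hw => h' ⟨w, hw, rfl⟩
    refine ⟨h, fun n φ hφ => (spc_restrict_iff W hW φ hφ.1).2 (hh n φ ⟨hφ.1, ?_⟩)⟩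
    exact hφ.2.trans (congrArg CommRingCat.Hom.hom (appLE_ι W V h h'))

/-- Relative pseudo-coherence restricts to opens. -/
theorem rel_restrict (hE : DerSch.IsPseudoCoherentRel f m E) (U : X.Opens) :
    DerSch.IsPseudoCoherentRel (U.ι ≫ f) m ((rho U.ι).obj E) := by
  haveI := hE.1
  refine isPseudoCoherentRel_of_forall fun W V h => (pcOn_restrict_iff W.1 W.2 (V : S.Opens)).2 ?_
  exact pcOn_of_isPseudoCoherentRel hE (W.2.image_of_isOpenImmersion U.ι) V.2 (image_le h)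

/-- Relative pseudo-coherence is local on the source. -/
theorem rel_of_openCover [LocallyOfFiniteType f] {ι : Type*} (U : ι → X.Opens) (hU : ⨆ i, U i = ⊤)
    (h : ∀ i, DerSch.IsPseudoCoherentRel ((U i).ι ≫ f) m ((rho (U i).ι).obj E)) :
    DerSch.IsPseudoCoherentRel f m E := by
  refine isPseudoCoherentRel_of_forall fun W V hWV => ?_
  have key : ∀ x : (W : X.Opens), ∃ g : Γ(X, (W : X.Opens)),
      (x : X) ∈ X.basicOpen g ∧ PCOn f m E (X.basicOpen g) (V : S.Opens) := by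
    rintro ⟨x, hx⟩
    obtain ⟨i, hi⟩ : ∃ i, x ∈ U i := Opens.mem_iSup.1 (hU ▸ (Opens.mem_top x))
    obtain ⟨g, hgU, hxg⟩ := W.2.exists_basicOpen_le (V := U i ⊓ W) ⟨x, ⟨hi, hx⟩⟩ hx
    refine ⟨g, hxg, ?_⟩
    have him : (U i).ι ''ᵁ ((U i).ι ⁻¹ᵁ X.basicOpen g) = X.basicOpen g := by
      rw [Scheme.Hom.image_preimage_eq_opensRange_inf, Scheme.Opens.opensRange_ι, inf_eq_right]
      exact hgU.trans inf_le_left
    have haff : IsAffineOpen ((U i).ι ⁻¹ᵁ X.basicOpen g) := by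
      refine ((U i).ι.isAffineOpen_iff_of_isOpenImmersion).1 ?_
      rw [him]
      exact W.2.basicOpen g
    have hle : ((U i).ι ⁻¹ᵁ X.basicOpen g) ≤ ((U i).ι ≫ f) ⁻¹ᵁ (V : S.Opens) := fun w hw =>
      hWV (X.basicOpen_le g hw)
    have := (pcOn_restrict_iff _ haff _).1
      (pcOn_of_isPseudoCoherentRel (h i) haff V.2 hle)
    rwa [him] at this
  choose g hg hp using key
  refine pcOn_of_span W.2 hWV (LocallyOfFiniteType.finiteType_appLE f V.2 W.2 hWV) g ?_ hp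
  rw [← W.2.iSup_basicOpen_eq_self_iff]
  refine le_antisymm (iSup_le fun k => X.basicOpen_le _) fun x hx => ?_
  rw [Opens.mem_iSup]
  exact ⟨⟨_, ⟨⟨x, hx⟩, rfl⟩⟩, hg ⟨x, hx⟩⟩

end Groth.Agent.RelPC65
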