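import Groth.Agent.RelPC65.AmpAbs
import Groth.Agent.RelPC65.ExtTor
import Groth.Agent.FlatFibres.TorAmpWEtale
import Groth.Agent.KFlatLib.Ring.TorPoly
import Groth.Agent.H9Misc.DRingRelPC
import Groth.Agent.WEtLib.Stalks
import Groth.Agent.Synt29.SmoothDim

/-!
# Tor amplitude over a smooth scheme from tor amplitude over the base
-/

set_option autoImplicit false
set_option linter.style.haveILetI false
set_option backward.isDefEq.respectTransparency false
set_option backward.isDefEq.respectTransparency.types false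

universe u

open CategoryTheory CategoryTheory.Limits

attribute [local instance] HasDerivedCategory.standard

namespace Groth.Agent.RelPC65

open Groth.Agent.PerfD40 Groth.Agent.H9Misc

section Ring

variable {R P : Type u} [CommRing R] [CommRing P] [Algebra R P]

/-- The sequence `opcycles (i-1) → X i → opcycles i` when `H^{i-1}` vanishes. -/
lemma shortExact_opcycles {C : Type*} [Category C] [Abelian C] (K : CochainComplex C ℤ) (i j : ℤ)
    (hij : i + 1 = j) (h : IsZero (K.homology i)) :
    (ShortComplex.mk (K.fromOpcycles i j) (K.pOpcycles j) (by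
      rw [← cancel_epi (K.pOpcycles i), HomologicalComplex.p_fromOpcycles_assoc,
        HomologicalComplex.d_pOpcycles, comp_zero])).ShortExact := by
  have hz : K.fromOpcycles i j ≫ K.pOpcycles j = 0 := by
    rw [← cancel_epi (K.pOpcycles i), HomologicalComplex.p_fromOpcycles_assoc,
      HomologicalComplex.d_pOpcycles, comp_zero]
  refine ShortComplex.ShortExact.mk' ?_ (mono_fromOpcycles' K i j hij h) inferInstance
  refine ShortComplex.exact_of_g_is_cokernel _ (CokernelCofork.IsColimit.ofπ _ _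
    (fun {Z} g hg => K.descOpcycles g i (by simp; omega) ?_) (fun {Z} g hg => by simp)
    (fun {Z} g hg m hm => by rw [← cancel_epi (K.pOpcycles j)]; simpa using hm))
  rw [← HomologicalComplex.p_fromOpcycles, Category.assoc]
  exact (congrArg (K.pOpcycles i ≫ ·) hg).trans comp_zero

/-- Amplitude over the base bounds the amplitude over a polynomial algebra. -/
theorem hasTorAmplitudeIn_poly (n : ℕ) (e : MvPolynomial (Fin n) R ≃ₐ[R] P) {a b : ℤ} (K : Dual.D P)
    (h : DRing.HasTorAmplitudeIn R a b ((DRing.restrictD (algebraMap R P)).obj K)) :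
    DRing.HasTorAmplitudeIn P (a - n) b K := by
  haveI : Module.Flat R P := Module.Flat.of_linearEquiv e.symm.toLinearEquiv
  let G := ModuleCat.restrictScalars.{u} (algebraMap R P)
  obtain ⟨P₀, hP₀ge, hP₀le, hP₀f, ⟨e₀⟩⟩ := amp_of_restrict K h
  have h' := (hasTorAmplitudeIn_iff_amp R a b _).1 h
  have hzK : ∀ i, i < a ∨ b < i →
      IsZero ((DerivedCategory.homologyFunctor (ModuleCat.{u} P) i).obj K) := fun i hi => by
    have h0 := (h'.isZero_homology i hi).of_iso
      ((DerivedCategory.homologyFunctor (ModuleCat.{u} R) i).mapIso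
        ((G.mapDerivedCategoryFactors.app P₀).symm ≪≫
          (DRing.restrictD (algebraMap R P)).mapIso e₀))
    have h1 : IsZero (G.obj (P₀.homology i)) :=
      h0.of_iso (((P₀.sc i).mapHomologyIso G).symm ≪≫
        ((DerivedCategory.homologyFunctorFactors (ModuleCat.{u} R) i).app
          ((G.mapHomologicalComplex (ComplexShape.up ℤ)).obj P₀)).symm)
    haveI := ModuleCat.subsingleton_of_isZero h1
    refine IsZero.of_iso ?_ ((DerivedCategory.homologyFunctor _ i).mapIso e₀.symm ≪≫
        (DerivedCategory.homologyFunctorFactors _ i).app _)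
    exact @ModuleCat.isZero_of_subsingleton _ _ (P₀.homology i)
      (inferInstanceAs (Subsingleton (G.obj _ : Type u)))
  haveI : K.IsLE b := (DerivedCategory.isLE_iff K b).2 fun i hi => hzK i (Or.inr hi)
  obtain ⟨X, hX, hXf, ⟨eX⟩⟩ := (ampClass_flat P).exists_rep K b
  let X' := (G.mapHomologicalComplex (ComplexShape.up ℤ)).obj X
  have hX'f : ∀ i, Module.Flat R (X'.X i) := fun i => by
    haveI : Module.Flat P (X.X i) := hXf i
    letI : Module R (X.X i) := Module.compHom _ (algebraMap R P)
    haveI : IsScalarTower R P (X.X i) := IsScalarTower.of_algebraMap_smul fun _ _ => rfl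
    exact Module.Flat.trans R P (X.X i)
  have hkf := DRingTor.isKF_of_flat (E := X') hX'f (b := b) fun i hi =>
    G.map_isZero (X.isZero_of_isStrictlyLE b i hi)
  have hvan := (DRingTor.iff_van hkf
    ((G.mapDerivedCategoryFactors.app X).symm ≪≫ (DRing.restrictD (algebraMap R P)).mapIso eX)).1 h
  have hop : Module.Flat R (X'.opcycles a) :=
    DRingTor.flat_opcycles hX'f a fun M => hvan M (a - 1) (Or.inl (by omega))
  have hna : DRing.HasTorDimLE P n (X.opcycles a) := by
    letI : Module R (X.opcycles a) := Module.compHom _ (algebraMap R P)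
    haveI : IsScalarTower R P (X.opcycles a) := IsScalarTower.of_algebraMap_smul fun _ _ => rfl
    haveI : Module.Flat R (X.opcycles a) := (ampClass_flat R).of_iso ((X.sc a).mapOpcyclesIso G) hop
    exact KFlatLib.torDimLE_of_flat_base n P e (X.opcycles a)
  have hstep : ∀ j : ℕ, j ≤ n → DRing.HasTorDimLE P (n - j) (X.opcycles (a - j)) := by
    intro j
    induction j with
    | zero =>
      intro _
      rw [Nat.sub_zero, Nat.cast_zero, sub_zero]
      exact hna
    | succ j ih =>
      intro hj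
      have hX2 := ih (by omega)
      have hS := shortExact_opcycles X (a - (j + 1 : ℕ)) (a - j) (by omega)
        ((hzK _ (Or.inl (by omega))).of_iso ((((DerivedCategory.homologyFunctorFactors _ _).app X).symm) ≪≫
          (DerivedCategory.homologyFunctor _ _).mapIso eX))
      haveI : Module.Flat P (X.X (a - j)) := hXf _
      refine (DRingTor.torDimLE_succ_iff hS (n - (j + 1))).1 ?_
      rw [show n - (j + 1) + 1 = n - j by omega]
      exact hX2
  have hbot : Module.Flat P (X.opcycles (a - n)) := by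
    have := hstep n le_rfl
    rw [Nat.sub_self] at this
    exact (DRingTor.torDimLE_zero_iff _).1 this
  exact (hasTorAmplitudeIn_iff_amp P (a - n) b K).2
    ((ampClass_flat P).amp_of_opcycles eX (a - n) b hXf hbot fun i hi => hzK i (Or.inl (by omega)))

end Ring

section Scheme

open AlgebraicGeometry Groth.Agent.KFlatLib

variable {X Y : Scheme.{u}}

/-- Tor amplitude over a smooth scheme at a point. -/
theorem hasTorAmplitudeAt_id_of_smooth (f : X ⟶ Y) (n : ℕ) (V : X.Opens)
    [SmoothOfRelativeDimension n (V.ι ≫ f)] (x : X) (hx : x ∈ V) {F : CochainComplex X.Modules ℤ}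
    {a b : ℤ} (h : DerSch.HasTorAmplitudeAt f a b F x) :
    DerSch.HasTorAmplitudeAt (𝟙 X) (a - n) b F x := by
  obtain ⟨W, hW, U', hU', hxU', e, hs⟩ :=
    SmoothOfRelativeDimension.exists_isStandardSmoothOfRelativeDimension (n := n) (f := V.ι ≫ f) ⟨x, hx⟩
  let U : X.Opens := V.ι ''ᵁ U'
  have hU : IsAffineOpen U := hU'.image_of_isOpenImmersion V.ι
  have hxU : x ∈ U := ⟨⟨x, hx⟩, hxU', rfl⟩
  have hUW : U ≤ f ⁻¹ᵁ W := by
    rintro _ ⟨z, hz, rfl⟩
    exact e hz
  have hs' : (f.appLE W U hUW).hom.IsStandardSmoothOfRelativeDimension n := by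
    have hmap : (V.ι ≫ f).appLE W U' e = f.appLE W U hUW := by
      rw [← Scheme.Hom.appLE_comp_appLE V.ι f W U U' hUW (by rw [Scheme.Hom.preimage_image_eq]),
        Scheme.Opens.ι_appLE]
      simp [U]
    rw [← hmap]
    exact hs
  obtain ⟨g, hg, hget⟩ := hs'.exists_etale_mvPolynomial
  let A := X.presheaf.stalk x
  let B := Y.presheaf.stalk (f.base x)
  let γ : Γ(Y, W) →+* B := (Y.presheaf.germ W (f.base x) (hUW hxU)).hom
  let P := MvPolynomial (Fin n) Γ(Y, W)
  let θ : P →+* A := (X.presheaf.germ U x hxU).hom.comp g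
  have hsq : (f.stalkMap x).hom.comp γ = θ.comp MvPolynomial.C := by
    rw [RingHom.comp_assoc, hg, ← CommRingCat.hom_comp, ← CommRingCat.hom_comp]
    exact congrArg CommRingCat.Hom.hom (show Y.presheaf.germ W (f.base x) (hUW hxU) ≫ f.stalkMap x =
      f.appLE W U hUW ≫ X.presheaf.germ U x hxU by
        rw [Scheme.Hom.germ_stalkMap, Scheme.Hom.appLE, Category.assoc, TopCat.Presheaf.germ_res])
  letI : Algebra Γ(Y, W) B := γ.toAlgebra
  haveI : Module.Flat Γ(Y, W) B := by
    haveI := hW.isLocalization_stalk ⟨f.base x, hUW hxU⟩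
    exact IsLocalization.flat B (hW.primeIdealOf ⟨f.base x, hUW hxU⟩).asIdeal.primeCompl
  letI : Algebra P Γ(X, U) := g.toAlgebra
  letI : Algebra Γ(X, U) A := (X.presheaf.germ U x hxU).hom.toAlgebra
  letI : Algebra P A := θ.toAlgebra
  haveI : IsScalarTower P Γ(X, U) A := IsScalarTower.of_algebraMap_eq fun _ => rfl
  haveI : Algebra.Etale P Γ(X, U) := hget
  haveI : Algebra.WeaklyEtale Γ(X, U) A := by
    haveI := hU.isLocalization_stalk ⟨x, hxU⟩
    exact WEtLib.weaklyEtale_localization (hU.primeIdealOf ⟨x, hxU⟩).asIdeal.primeCompl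
  haveI : Algebra.WeaklyEtale P A := Algebra.WeaklyEtale.trans P Γ(X, U) A
  let K : Dual.D A := DRing.toD ((stalkCx x).obj F)
  have h1 : DRing.HasTorAmplitudeIn B a b ((DRing.restrictD (f.stalkMap x).hom).obj K) :=
    DRingTor.of_iso ((ModuleCat.restrictScalars (f.stalkMap x).hom).mapDerivedCategoryFactors.app
      ((stalkCx x).obj F)).symm h
  have h2 := FlatFibres.TorAmpWEtale.restrict_of_hasTorAmplitudeIn (A := Γ(Y, W)) _ h1
  have h3 : DRing.HasTorAmplitudeIn Γ(Y, W) a b
      ((DRing.restrictD (algebraMap Γ(Y, W) P)).obj ((DRing.restrictD (algebraMap P A)).obj K)) := by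
    have e1 := (DRingRelPC.restrictDCompIso γ (f.stalkMap x).hom).app K
    rw [hsq] at e1
    exact DRingTor.of_iso (e1.symm ≪≫ (DRingRelPC.restrictDCompIso MvPolynomial.C θ).app K) h2
  have h4 := FlatFibres.TorAmpWEtale.hasTorAmplitudeIn_of_restrict K
    (hasTorAmplitudeIn_poly n AlgEquiv.refl _ h3)
  let σ : DerSch.stalkFunctor X x ≅ DerSch.stalkOver (𝟙 X) x :=
    (Functor.rightUnitor _).symm ≪≫
      Functor.isoWhiskerLeft (DerSch.stalkFunctor X x) (ModuleCat.restrictScalarsId'.{u}
        ((Scheme.Hom.stalkMap (𝟙 X) x).hom) (by rw [Scheme.Hom.stalkMap_id]; rfl)).symm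
  exact DRingTor.of_iso (DerivedCategory.Q.mapIso
    ((NatIso.mapHomologicalComplex σ (ComplexShape.up ℤ)).app F)) h4

/-- Restriction to an open keeps the absolute amplitude of stalks. -/
theorem hasTorAmplitudeAt_restrict (W : X.Opens) {F : CochainComplex X.Modules ℤ} {a b : ℤ} (w : W)
    (h : DerSch.HasTorAmplitudeAt (𝟙 X) a b F (W.ι.base w)) :
    DerSch.HasTorAmplitudeAt (𝟙 (W : Scheme.{u})) a b ((DCoh.restrictCx W).obj F) w :=
  hasTorAmplitudeAt_of_iso _
    (DerivedCategory.Q.mapIso ((NatIso.mapHomologicalComplex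
      (Scheme.Modules.restrictFunctorIsoPullback W.ι).symm (ComplexShape.up ℤ)).app F))
    (hasTorAmplitudeAt_bc (g := W.ι) (f' := 𝟙 (W : Scheme.{u})) (f := 𝟙 X) (h := W.ι)
      (IsPullback.of_vert_isIso ⟨by simp⟩) h)

/-- A flat representative on an open gives the amplitude of stalks there. -/
theorem hasTorAmplitudeAt_of_restrict (W : X.Opens) {F : CochainComplex X.Modules ℤ} {a b : ℤ}
    (h : DCoh.HasFlatAmplitudeIn a b (DerivedCategory.Q.obj ((DCoh.restrictCx W).obj F))) (x : X)
    (hx : x ∈ W) : DerSch.HasTorAmplitudeAt (𝟙 X) a b F x := by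
  obtain ⟨E, hE, hfl, ⟨e⟩⟩ := h
  exact hasTorAmplitudeAt_of_hasAmp (𝟙 X) F W.ι ((hasAmp_iff _ a b _).1
    ⟨E, hE, fun i => isFlatOver_of_isFlat _ (hfl i), ⟨e ≪≫ ((rhoQ W.ι).app F).symm⟩⟩) ⟨x, hx⟩

/-- Smooth morphisms have a relative dimension near each point. -/
theorem exists_smoothOfRelativeDimension_nhd (f : X ⟶ Y) [Smooth f] (x : X) :
    ∃ (n : ℕ) (V : X.Opens), x ∈ V ∧ SmoothOfRelativeDimension n (V.ι ≫ f) := by
  obtain ⟨U, hU, V, hV, e, n, hxV, -, hsm, -⟩ := Synt29.SmoothDim.exists_chart f x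
  exact ⟨n, V, hxV, hsm⟩

section Push

variable {Z : Scheme.{u}} (i : Z ⟶ X) [RelPC13.IsClEmb i] (f : X ⟶ Y)

/-- Absolute amplitude of `i_*F` gives amplitude of `F` over the base of a flat morphism. -/
theorem hasTorAmplitudeAt_of_push [Flat f] {F : CochainComplex Z.Modules ℤ} {a b : ℤ} (z : Z)
    (h : DerSch.HasTorAmplitudeAt (𝟙 X) a b
      (((Scheme.Modules.pushforward i).mapHomologicalComplex (ComplexShape.up ℤ)).obj F) (i.base z)) :
    DerSch.HasTorAmplitudeAt (i ≫ f) a b F z := by
  have h1 := hasTorAmplitudeAt_comp (𝟙 X) f (hasTorDimLE_zero_of_flat f) h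
  simp only [Category.id_comp, Nat.cast_zero, sub_zero] at h1
  exact (hasTorAmplitudeAt_push_iff f i F a b z).1 h1

/-- Amplitude of `F` over the base gives absolute amplitude of `i_*F`, in the smooth case. -/
theorem hasTorAmplitudeAt_push_smooth {F : CochainComplex Z.Modules ℤ} {a b : ℤ} (n : ℕ)
    (V : X.Opens) [SmoothOfRelativeDimension n (V.ι ≫ f)] (z : Z) (hz : i.base z ∈ V)
    (h : DerSch.HasTorAmplitudeAt (i ≫ f) a b F z) :
    DerSch.HasTorAmplitudeAt (𝟙 X) (a - n) b
      (((Scheme.Modules.pushforward i).mapHomologicalComplex (ComplexShape.up ℤ)).obj F) (i.base z) :=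
  hasTorAmplitudeAt_id_of_smooth f n V _ hz ((hasTorAmplitudeAt_push_iff f i F a b z).2 h)

end Push

end Scheme

end Groth.Agent.RelPC65
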