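import Groth.Agent.RelPC65.StalkTor
import Groth.Agent.RelPC65.EpiRing
import Groth.Agent.RelPC13.RingBC
import Groth.Agent.H9Misc.DRingLBase
import Groth.Agent.H9Misc.DRingTorDim
import Groth.Agent.KFlatLib.Ring.Resolution

/-!
# Tor amplitude and tor independent base change of rings
-/

set_option autoImplicit false
set_option linter.style.haveILetI false
set_option backward.isDefEq.respectTransparency false
set_option backward.isDefEq.respectTransparency.types false

universe u

open CategoryTheory CategoryTheory.Limits MonoidalCategory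

attribute [local instance] HasDerivedCategory.standard

namespace Groth.Agent.RelPC65

open Groth.Agent.KFlatLib Groth.Agent.H9Misc Groth.Agent.H9Misc.DRingLTensor Groth.Agent.RelPC13
open Groth.Agent.H9Misc.DRingTorDescent

section Ring

variable {A B C : Type u} [CommRing A] [CommRing B] [CommRing C]

/-- Scalar extension along a composite, on complexes. -/
noncomputable def extCompCx (φ : A →+* B) (ψ : B →+* C) (χ : A →+* C) (h : χ = ψ.comp φ)
    (P : DRing.Cx A) : (extC' χ).obj P ≅ (extC' ψ).obj ((extC' φ).obj P) :=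
  eqToIso (by rw [h]) ≪≫
    HomologicalComplex.Hom.isoOfComponents
      (C₁ := (extC' (ψ.comp φ)).obj P)
      (fun i => (ModuleCat.extendScalarsComp φ ψ).app (P.X i))
      (fun i j _ => ((ModuleCat.extendScalarsComp φ ψ).hom.naturality (P.d i j)).symm)

/-- Restriction along a composite, on complexes. -/
noncomputable def resCompCx (φ : A →+* B) (ψ : B →+* C) (χ : A →+* C) (h : χ = ψ.comp φ)
    (P : DRing.Cx C) :
    (DRing.restrictCx χ).obj P ≅ (DRing.restrictCx φ).obj ((DRing.restrictCx ψ).obj P) :=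
  HomologicalComplex.Hom.isoOfComponents
    (fun i => (ModuleCat.restrictScalarsComp'App.{u} φ ψ χ h (P.X i)))
    (fun _ _ _ => rfl)

/-- Scalar extension computes on K-flat complexes in the derived category. -/
lemma nonempty_qExtIso (φ : A →+* B) {K K' : DRing.Cx A} (hK : IsKF K) (hK' : IsKF K')
    (e : DRing.toD K ≅ DRing.toD K') :
    Nonempty (DRing.toD ((extC' φ).obj K) ≅ DRing.toD ((extC' φ).obj K')) := by
  haveI := DRingLBase.hasLBaseChange φ
  obtain ⟨e₁⟩ := DRingLBase.nonempty_lbase_iso φ hK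
  obtain ⟨e₂⟩ := DRingLBase.nonempty_lbase_iso φ hK'
  exact ⟨e₁.symm ≪≫ (DRing.LBaseChange φ).mapIso e ≪≫ e₂⟩

/-- Scalar extension of a bounded flat model. -/
lemma hasTorAmplitudeIn_extC (φ : A →+* B) {a b : ℤ} {P : DRing.Cx A} (hP : IsKF P)
    (h : DRing.HasTorAmplitudeIn A a b (DRing.toD P)) :
    DRing.HasTorAmplitudeIn B a b (DRing.toD ((extC' φ).obj P)) := by
  obtain ⟨E, hz, hf, ⟨e⟩⟩ := h
  refine ⟨(extC' φ).obj E, fun i hi => (ModuleCat.extendScalars.{u, u, u} φ).map_isZero (hz i hi),
    fun i => ?_, nonempty_qExtIso φ (DRingTor.isKF_of_flat hf fun i hi => hz i (Or.inr hi)) hP e⟩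
  letI := φ.toAlgebra
  haveI := hf i
  exact inferInstanceAs (Module.Flat B (TensorProduct A B (E.X i)))

/-- Restriction along a flat map preserves K-flatness. -/
lemma isKF_restrict (φ : A →+* B) (hφ : φ.Flat) {P : DRing.Cx B} (hP : IsKF P) :
    IsKF ((DRing.restrictCx φ).obj P) :=
  kFlat_iff.2 fun L hL => by
    haveI := ModuleCat.preservesFiniteLimits_extendScalars_of_flat hφ
    haveI : PreservesFiniteColimits (ModuleCat.extendScalars.{u, u, u} φ) := by
      haveI : (ModuleCat.extendScalars.{u, u, u} φ).IsLeftAdjoint :=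
        (ModuleCat.extendRestrictScalarsAdj φ).isLeftAdjoint
      infer_instance
    have hL' : ((extC' φ).obj L).Acyclic := fun i => (hL i).map (ModuleCat.extendScalars.{u, u, u} φ)
    let T := curriedTensor (ModuleCat.{u} B)
    have h1 : ((T.map₂CochainComplex.obj P).obj ((extC' φ).obj L)).Acyclic := fun i =>
      (hP.acyclic hL' i).of_iso ((symmIso curriedTensorFlipIso P).app ((extC' φ).obj L))
    intro i
    have h2 : (((ModuleCat.restrictScalars φ).mapHomologicalComplex (ComplexShape.up ℤ)).obj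
        ((T.map₂CochainComplex.obj P).obj ((extC' φ).obj L))).ExactAt i :=
      (h1 i).map (ModuleCat.restrictScalars φ)
    exact (h2.of_iso (projIso φ P L)).of_iso
      ((symmIso curriedTensorFlipIso L).app ((DRing.restrictCx φ).obj P))

/-- Amplitude over the base after a flat extension. -/
lemma hasTorAmplitudeIn_flat_extC {D : Type u} [CommRing D] (φ : A →+* B) (τ : B →+* D) (hτ : τ.Flat)
    {a b : ℤ} (Q : DRing.Cx B)
    (h : DRing.HasTorAmplitudeIn A a b (DRing.toD ((DRing.restrictCx φ).obj Q))) :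
    DRing.HasTorAmplitudeIn A a b
      (DRing.toD ((DRing.restrictCx (τ.comp φ)).obj ((extC' τ).obj Q))) := by
  haveI : Module.Flat B (resB τ) := hτ
  have h1 := DRingTorLTensor.hasTorAmplitudeIn_tensor φ (a := 0) (b := 0)
    ((HomologicalComplex.single (ModuleCat.{u} B) (ComplexShape.up ℤ) 0).obj (resB τ)) Q
    (fun i hi => HomologicalComplex.isZero_single_obj_X _ _ _ _ (by omega))
    (fun i => by
      by_cases hi : i = 0
      · subst hi
        exact Module.Flat.of_linearEquiv
          (HomologicalComplex.singleObjXSelf (ComplexShape.up ℤ) 0 (resB τ)).toLinearEquiv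
      · haveI := ModuleCat.subsingleton_of_isZero
          (HomologicalComplex.isZero_single_obj_X (ComplexShape.up ℤ) 0 (resB τ) i hi)
        infer_instance) h
  rw [zero_add, zero_add] at h1
  exact DRingTor.of_iso (DerivedCategory.Q.mapIso
    ((DRing.restrictCx φ).mapIso (resExtIso τ Q).symm ≪≫
      (resCompCx φ τ _ rfl ((extC' τ).obj Q)).symm)) h1

/-- Amplitude descends along a flat epimorphism. -/
lemma hasTorAmplitudeIn_of_epi (φ : A →+* B) (hφ : φ.Flat) (hepi : Epi (CommRingCat.ofHom φ))
    {a b : ℤ} (N : DRing.Cx B)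
    (h : DRing.HasTorAmplitudeIn A a b (DRing.toD ((DRing.restrictCx φ).obj N))) :
    DRing.HasTorAmplitudeIn B a b (DRing.toD N) := by
  obtain ⟨E, hz, hf, ⟨e⟩⟩ := h
  haveI := ModuleCat.preservesFiniteLimits_extendScalars_of_flat hφ
  haveI : PreservesFiniteColimits (ModuleCat.extendScalars.{u, u, u} φ) := by
    haveI : (ModuleCat.extendScalars.{u, u, u} φ).IsLeftAdjoint :=
      (ModuleCat.extendRestrictScalarsAdj φ).isLeftAdjoint
    infer_instance
  haveI := full_restrictScalars φ hepi
  haveI : IsIso (ModuleCat.extendRestrictScalarsAdj.{u, u, u} φ).counit := inferInstance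
  let ec := asIso (ModuleCat.extendRestrictScalarsAdj.{u, u, u} φ).counit
  refine ⟨(extC' φ).obj E, fun i hi => (ModuleCat.extendScalars.{u, u, u} φ).map_isZero (hz i hi),
    fun i => ?_, ⟨qMapIso (ModuleCat.extendScalars.{u, u, u} φ) e ≪≫ DerivedCategory.Q.mapIso
      (HomologicalComplex.Hom.isoOfComponents (C₂ := N) (fun i => ec.app (N.X i))
        (fun i j _ => (ec.hom.naturality (N.d i j)).symm))⟩⟩
  letI := φ.toAlgebra
  haveI := hf i
  exact inferInstanceAs (Module.Flat B (TensorProduct A B (E.X i)))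

end Ring

section Square

variable {P A D C : Type u} [CommRing P] [CommRing A] [CommRing D] [CommRing C]
  {φ : P →+* A} {ρ : P →+* D} {α : A →+* C} {φ' : D →+* C}

lemma isIso_bcMap_of_isPushout (h : α.comp φ = φ'.comp ρ)
    (hpo : IsPushout (CommRingCat.ofHom φ) (CommRingCat.ofHom ρ) (CommRingCat.ofHom α)
      (CommRingCat.ofHom φ')) (M : ModuleCat.{u} A) : IsIso (bcMap h M) := by
  letI := φ.toAlgebra
  letI := ρ.toAlgebra
  letI := α.toAlgebra
  letI := φ'.toAlgebra
  letI : Algebra P C := (α.comp φ).toAlgebra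
  haveI : IsScalarTower P A C := .of_algebraMap_eq fun _ => rfl
  haveI : IsScalarTower P D C := .of_algebraMap_eq fun r => RingHom.congr_fun h r
  haveI : Algebra.IsPushout P D A C := CommRingCat.isPushout_iff_isPushout.mp hpo.flip
  exact isIso_bcMap h rfl rfl rfl rfl M

/-- Base change of complexes in a pushout square. -/
noncomputable def bcCxIso (h : α.comp φ = φ'.comp ρ)
    (hpo : IsPushout (CommRingCat.ofHom φ) (CommRingCat.ofHom ρ) (CommRingCat.ofHom α)
      (CommRingCat.ofHom φ')) (K : DRing.Cx A) :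
    (extC' ρ).obj ((DRing.restrictCx φ).obj K) ≅ (DRing.restrictCx φ').obj ((extC' α).obj K) :=
  HomologicalComplex.Hom.isoOfComponents
    (fun i => (bcIso h (isIso_bcMap_of_isPushout h hpo)).app (K.X i))
    (fun i j _ => ((bcIso h (isIso_bcMap_of_isPushout h hpo)).hom.naturality (K.d i j)).symm)

/-- Amplitude after a base change preserving the resolutions. -/
lemma hasTorAmplitudeIn_bc (h : α.comp φ = φ'.comp ρ)
    (hpo : IsPushout (CommRingCat.ofHom φ) (CommRingCat.ofHom ρ) (CommRingCat.ofHom α)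
      (CommRingCat.ofHom φ')) {a b : ℤ} (K : DRing.Cx A)
    (hcomp : ∀ (R : DRing.Cx P) (s : R ⟶ (DRing.restrictCx φ).obj K), IsKF R → QuasiIso s →
      QuasiIso ((extC' ρ).map s))
    (hK : DRing.HasTorAmplitudeIn P a b (DRing.toD ((DRing.restrictCx φ).obj K))) :
    DRing.HasTorAmplitudeIn D a b (DRing.toD ((DRing.restrictCx φ').obj ((extC' α).obj K))) := by
  let N := (DRing.restrictCx φ).obj K
  have hs := (ringCover P).quasiIso_ψ N
  haveI := hs
  haveI : IsIso (DerivedCategory.Q.map ((ringCover P).ψ.app N)) :=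
    (DerivedCategory.isIso_Q_map_iff_quasiIso _ _).2 inferInstance
  have hR : IsKF ((ringCover P).P.obj N) := kFlat_ringRes N
  haveI : IsIso (DerivedCategory.Q.map ((extC' ρ).map ((ringCover P).ψ.app N))) :=
    (DerivedCategory.isIso_Q_map_iff_quasiIso _ _).2 (hcomp _ _ hR hs)
  exact DRingTor.of_iso (asIso (DerivedCategory.Q.map ((extC' ρ).map ((ringCover P).ψ.app N))) ≪≫
      DerivedCategory.Q.mapIso (bcCxIso h hpo K))
    (hasTorAmplitudeIn_extC ρ hR
      (DRingTor.of_iso (asIso (DerivedCategory.Q.map ((ringCover P).ψ.app N))).symm hK))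

/-- Amplitude after a flat base change. -/
lemma hasTorAmplitudeIn_bc_flat (h : α.comp φ = φ'.comp ρ)
    (hpo : IsPushout (CommRingCat.ofHom φ) (CommRingCat.ofHom ρ) (CommRingCat.ofHom α)
      (CommRingCat.ofHom φ')) (hρ : ρ.Flat) {a b : ℤ} (K : DRing.Cx A)
    (hK : DRing.HasTorAmplitudeIn P a b (DRing.toD ((DRing.restrictCx φ).obj K))) :
    DRing.HasTorAmplitudeIn D a b (DRing.toD ((DRing.restrictCx φ').obj ((extC' α).obj K))) := by
  haveI := ModuleCat.preservesFiniteLimits_extendScalars_of_flat hρ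
  haveI : PreservesFiniteColimits (ModuleCat.extendScalars.{u, u, u} ρ) := by
    haveI : (ModuleCat.extendScalars.{u, u, u} ρ).IsLeftAdjoint :=
      (ModuleCat.extendRestrictScalarsAdj ρ).isLeftAdjoint
    infer_instance
  refine hasTorAmplitudeIn_bc h hpo K (fun R s _ hs => ?_) hK
  haveI := hs
  constructor
  intro n
  infer_instance

/-- Amplitude after a base change from a smaller ring over which everything is flat. -/
lemma hasTorAmplitudeIn_bc_tor {O O' : Type u} [CommRing O] [CommRing O'] {σ : O →+* P} {ω : O →+* O'}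
    {κ : O' →+* D} (hσ : σ.Flat) (hφσ : (φ.comp σ).Flat) (h₀ : ρ.comp σ = κ.comp ω)
    (hpo₀ : IsPushout (CommRingCat.ofHom σ) (CommRingCat.ofHom ω) (CommRingCat.ofHom ρ)
      (CommRingCat.ofHom κ))
    (h : α.comp φ = φ'.comp ρ)
    (hpo : IsPushout (CommRingCat.ofHom φ) (CommRingCat.ofHom ρ) (CommRingCat.ofHom α)
      (CommRingCat.ofHom φ')) {a b : ℤ} (K : DRing.Cx A) (hKF : IsKF K)
    (hK : DRing.HasTorAmplitudeIn P a b (DRing.toD ((DRing.restrictCx φ).obj K))) :
    DRing.HasTorAmplitudeIn D a b (DRing.toD ((DRing.restrictCx φ').obj ((extC' α).obj K))) := by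
  refine hasTorAmplitudeIn_bc h hpo K (fun R s hR hs => ?_) hK
  have hR' : IsKF ((DRing.restrictCx σ).obj R) := isKF_restrict σ hσ hR
  have hK' : IsKF ((DRing.restrictCx σ).obj ((DRing.restrictCx φ).obj K)) :=
    KFlat.of_iso (resCompCx σ φ _ rfl K) (isKF_restrict (φ.comp σ) hφσ hKF)
  haveI := hs
  haveI : QuasiIso ((DRing.restrictCx σ).map s) := by
    constructor
    intro n
    show QuasiIsoAt (((ModuleCat.restrictScalars σ).mapHomologicalComplex (ComplexShape.up ℤ)).map s) n
    infer_instance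
  have hq := quasiIso_extendScalars ω ((DRing.restrictCx σ).map s) hR' hK'
  have h1 : QuasiIso (((ModuleCat.restrictScalars κ).mapHomologicalComplex (ComplexShape.up ℤ)).map
      ((extC' ρ).map s)) := by
    refine (quasiIso_iff_of_arrow_mk_iso _ _
      (Arrow.isoMk (bcCxIso h₀ hpo₀ R) (bcCxIso h₀ hpo₀ ((DRing.restrictCx φ).obj K)) ?_)).1
      hq
    exact HomologicalComplex.hom_ext _ _ fun i =>
      ((bcIso h₀ (isIso_bcMap_of_isPushout h₀ hpo₀)).hom.naturality (s.f i)).symm
  exact (HomologicalComplex.quasiIso_map_iff_of_preservesHomology ((extC' ρ).map s)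
    (ModuleCat.restrictScalars κ)).1 h1

end Square

end Groth.Agent.RelPC65
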